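import Cfsg.Agent.H20.Orth
import Cfsg.Agent.H20.Knorr
import Cfsg.Agent.H24.CharBasic
import Cfsg.Agent.H12.Linear
import Cfsg.Agent.H12.Integral
import Cfsg.Agent.H18.SylowNormalizes
import Cfsg.Agent.H24.Quot
import Cfsg.Agent.H13.Linear
import Cfsg.Agent.H22.RegProj
import Cfsg.Agent.H1.Cores

/-!
# Kazarin: a class of prime-power size generates a solvable normal subgroup

The proof pairs `1` with an element of prime order `q ≠ p` in the principal `q`-block.
-/

set_option autoImplicit false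
set_option linter.style.haveILetI false
set_option linter.unusedSectionVars false

open Cfsg
open scoped ComplexConjugate Pointwise

namespace H25

universe u

namespace Kazarin

variable {G : Type u} [Group G] [Fintype G]

/-- The commutators with `x`. -/
def commSet (x : G) : Set G := Set.range fun y : G => x * y * x⁻¹ * y⁻¹

theorem commute_ker_of_norm_eq (χ : IrrCharacter G) (x y : G)
    (h : ‖(χ : G → ℂ) x‖ = (charDegree (χ : G → ℂ) : ℝ)) :
    x * y * x⁻¹ * y⁻¹ ∈ H24.kerChar χ := by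
  obtain ⟨n, ρ, hρ, hχ⟩ := χ.2
  have hdeg : (charDegree (χ : G → ℂ) : ℂ) = (Module.finrank ℂ (Fin n → ℂ) : ℂ) := by
    rw [← H24.irr_one, ← hχ, Representation.char_one]
  rw [Nat.cast_inj] at hdeg
  rw [hdeg, ← hχ] at h
  obtain ⟨ω, hω⟩ := H12.exists_scalar_of_norm_eq ρ x h
  rw [H24.mem_kerChar, ← hχ]
  have hc : ρ (x * y * x⁻¹ * y⁻¹) = ρ 1 := by
    calc ρ (x * y * x⁻¹ * y⁻¹) = ρ x * ρ y * ρ x⁻¹ * ρ y⁻¹ := by simp only [map_mul]
      _ = ρ y * ρ x * ρ x⁻¹ * ρ y⁻¹ := by
        have : ρ x * ρ y = ρ y * ρ x := by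
          rw [hω]
          apply LinearMap.ext
          intro v
          simp [LinearMap.smul_apply]
        rw [this]
      _ = ρ (y * x * x⁻¹ * y⁻¹) := by simp only [map_mul]
      _ = ρ 1 := by group
  simp only [Representation.character, hc]

theorem eq_one_of_generated {T : Subgroup G} [T.Normal] {x : G}
    (hgen : Subgroup.normalClosure ({x} : Set G) = ⊤) (hxT : ∀ y : G, x * y * x⁻¹ * y⁻¹ ∈ T)
    (g : G) : ∃ i : ℤ, g * (x ^ i)⁻¹ ∈ T := by
  let K : Subgroup G :=
    (Subgroup.zpowers (QuotientGroup.mk' T x)).comap (QuotientGroup.mk' T)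
  have hcen : QuotientGroup.mk' T x ∈ Subgroup.center (G ⧸ T) := by
    rw [Subgroup.mem_center_iff]
    intro q
    obtain ⟨y, rfl⟩ := QuotientGroup.mk'_surjective T q
    have h : QuotientGroup.mk' T (x * y * x⁻¹ * y⁻¹) = 1 := (QuotientGroup.eq_one_iff _).2 (hxT y)
    rw [map_mul, map_mul, map_mul, map_inv, map_inv, mul_inv_eq_one, mul_inv_eq_iff_eq_mul] at h
    exact h.symm
  haveI hKn : K.Normal := by
    refine Subgroup.Normal.comap ⟨fun a ha b => ?_⟩ _
    have hac : a ∈ Subgroup.center (G ⧸ T) := Subgroup.zpowers_le.2 hcen ha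
    rwa [Subgroup.mem_center_iff.1 hac b, mul_inv_cancel_right]
  have hg : g ∈ K := by
    have : Subgroup.normalClosure ({x} : Set G) ≤ K :=
      Subgroup.normalClosure_le_normal (Set.singleton_subset_iff.2 (Subgroup.mem_zpowers _))
    exact this (hgen ▸ Subgroup.mem_top g)
  obtain ⟨i, hi⟩ := hg
  refine ⟨i, (QuotientGroup.eq_one_iff _).1 ?_⟩
  simp only at hi
  show QuotientGroup.mk' T (g * (x ^ i)⁻¹) = 1
  rw [map_mul, map_inv, map_zpow, hi, mul_inv_cancel]

theorem commutator_closure_isPGroup {p k : ℕ} (hp : p.Prime) {x : G}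
    (hgen : Subgroup.normalClosure ({x} : Set G) = ⊤)
    (hx : (Subgroup.centralizer ({x} : Set G)).index = p ^ k) :
    IsPGroup p (Subgroup.normalClosure (commSet x)) := by
  classical
  set T := Subgroup.normalClosure (commSet x) with hT
  have hxT : ∀ y : G, x * y * x⁻¹ * y⁻¹ ∈ T := fun y => Subgroup.subset_normalClosure ⟨y, rfl⟩
  by_contra hnp
  obtain ⟨q, hq, hqd, hqp⟩ : ∃ q, q.Prime ∧ q ∣ Nat.card T ∧ q ≠ p := by
    by_contra hcon
    push Not at hcon
    exact hnp (IsPGroup.of_card (n := (Nat.card T).primeFactorsList.length)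
      (Nat.eq_prime_pow_of_unique_prime_dvd Nat.card_pos.ne' fun {d} hd hdd => hcon d hd hdd))
  haveI := Fact.mk hq
  haveI := Fact.mk hp
  obtain ⟨M, hM⟩ := H20.exists_isPModular hq
  haveI := H20.isPrime_of_modular hM
  haveI := H20.k_charP hM
  obtain ⟨⟨u, huT⟩, huo⟩ := exists_prime_orderOf_dvd_card' q hqd
  rw [Subgroup.orderOf_mk] at huo
  set B := principalBlock M G with hB
  have hBp : IsPBlock M B := H20.isPBlock_principalBlock
  have h1B : H12.oneIrr G ∈ B := by
    rw [hB, H20.principalBlock_eq]; exact H20.mem_blockOf_self _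
  -- the members of `B` of `p'`-degree are trivial on `T`
  have hker : ∀ χ : IrrCharacter G, χ ∈ B → ¬ p ∣ charDegree (χ : G → ℂ) →
      T ≤ H24.kerChar χ := by
    intro χ hχ hpd
    refine Subgroup.normalClosure_le_normal ?_
    rintro _ ⟨y, rfl⟩
    refine commute_ker_of_norm_eq χ x y ?_
    obtain ⟨n, ρ, hρ, hρχ⟩ := χ.2
    haveI := hρ
    have hfr : Module.finrank ℂ (Fin n → ℂ) = charDegree (χ : G → ℂ) := by
      have h1 : (χ : G → ℂ) 1 = (Module.finrank ℂ (Fin n → ℂ) : ℂ) := by
        rw [← hρχ, Representation.char_one]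
      rw [H24.irr_one, Nat.cast_inj] at h1
      exact h1.symm
    have hcop : Nat.Coprime (Module.finrank ℂ (Fin n → ℂ))
        (Subgroup.centralizer ({x} : Set G)).index := by
      rw [hfr, hx]
      exact Nat.Coprime.pow_right k ((hp.coprime_iff_not_dvd.2 hpd).symm)
    rcases H12.character_eq_zero_or_norm_eq ρ x hcop with h0 | h0
    · exfalso
      have hw := H20.sameBlock_of_mem hBp h1B hχ x
      have hω0 : centralChar (χ : G → ℂ) x = 0 := by
        unfold centralChar
        rw [← hρχ, h0, mul_zero, zero_div]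
      have hω1 : centralChar (H12.oneIrr G : G → ℂ) x = ((p ^ k : ℕ) : ℂ) := by
        unfold centralChar
        rw [H12.oneIrr_apply, H12.oneIrr_apply, mul_one, div_one, hx]
      rw [hω0, hω1, sub_zero] at hw
      exact hqp ((Nat.prime_dvd_prime_iff_eq hq hp).1
        (hq.dvd_of_dvd_pow ((H20.natCast_memIdeal_iff hM _).1 hw)))
    · rw [← hfr, ← hρχ]
      exact h0
  -- the group of linear members
  let A : Subgroup (G →* ℂˣ) :=
    { carrier := {f | (∀ t ∈ T, f t = 1) ∧ f x ^ q ^ (Nat.card G).factorization q = 1}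
      one_mem' := ⟨fun t _ => rfl, by simp⟩
      mul_mem' := fun {a b} ha hb => ⟨fun t ht => by simp [ha.1 t ht, hb.1 t ht],
        by rw [MonoidHom.mul_apply, mul_pow, ha.2, hb.2, mul_one]⟩
      inv_mem' := fun {a} ha => ⟨fun t ht => by simp [ha.1 t ht],
        by rw [MonoidHom.inv_apply, inv_pow, ha.2, inv_one]⟩ }
  haveI : Finite (G →* ℂˣ) := Finite.of_injective _ H12.linIrr_injective
  have hA : IsPGroup q A := by
    intro f
    refine ⟨(Nat.card G).factorization q, Subtype.ext (MonoidHom.ext fun g => ?_)⟩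
    obtain ⟨i, hi⟩ := eq_one_of_generated hgen hxT g
    have h1 := f.2.1 _ hi
    rw [map_mul, map_inv, map_zpow, mul_inv_eq_one] at h1
    show (f.1 ^ q ^ (Nat.card G).factorization q) g = 1
    rw [MonoidHom.pow_apply, h1, ← zpow_natCast, ← zpow_mul, mul_comm, zpow_mul, zpow_natCast,
      f.2.2, one_zpow]
  set a := (Nat.card G).factorization q with ha
  have hroot : ∀ z : ℂ, z ^ q ^ a = 1 → MemLocalIdeal M (z - 1) := by
    intro z hz
    have hzO : MemLocalRing M z := H20.memRing_of_isIntegral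
      ⟨Polynomial.X ^ q ^ a - 1, Polynomial.monic_X_pow_sub_C 1 (pow_ne_zero _ hq.ne_zero),
        by simp [hz]⟩
    have h1O : MemLocalRing M (1 : ℂ) := by simpa using H20.memRing_natCast (M := M) 1
    refine (H20.redC_eq_iff hzO h1O).1 ?_
    have h2 : ∀ n : ℕ, MemLocalRing M (z ^ n) ∧ H20.redC M (z ^ n) = H20.redC M z ^ n := by
      intro n
      induction n with
      | zero => exact ⟨by simpa using h1O, by simp [H20.redC_one]⟩
      | succ n ih =>
        refine ⟨by rw [pow_succ]; exact H20.memRing_mul ih.1 hzO, ?_⟩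
        rw [pow_succ, pow_succ, H20.redC_mul ih.1 hzO, ih.2]
    have h3 : (H20.redC M z - 1) ^ q ^ a = 0 := by
      rw [sub_pow_char_pow, one_pow, ← (h2 _).2, hz, H20.redC_one, sub_self]
    rw [H20.redC_one]
    exact sub_eq_zero.1 (eq_zero_of_pow_eq_zero h3)
  have hvals : ∀ f ∈ A, ∀ g : G, ((f g : ℂˣ) : ℂ) ^ q ^ a = 1 := by
    intro f hf g
    obtain ⟨i, hi⟩ := eq_one_of_generated hgen hxT g
    have h1 := hf.1 _ hi
    rw [map_mul, map_inv, map_zpow, mul_inv_eq_one] at h1
    have h2 : f g ^ q ^ a = 1 := by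
      rw [h1, ← zpow_natCast, ← zpow_mul, mul_comm, zpow_mul, zpow_natCast, hf.2, one_zpow]
    rw [← Units.val_pow_eq_pow_val, h2, Units.val_one]
  have hmem : ∀ f ∈ A, H12.linIrr f ∈ B := by
    intro f hf
    rw [hB, H20.principalBlock_eq]
    intro g
    have e : centralChar (H12.oneIrr G : G → ℂ) g - centralChar (H12.linIrr f : G → ℂ) g =
        -(((Subgroup.centralizer ({g} : Set G)).index : ℂ)) * (((f g : ℂˣ) : ℂ) - 1) := by
      simp only [centralChar, H12.oneIrr_apply, H12.linIrr_apply, map_one, Units.val_one]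
      ring
    rw [e]
    exact H20.memIdeal_mul (H20.memRing_neg (H20.memRing_natCast _)) (hroot _ (hvals f hf g))
  have hker' : ∀ f ∈ A, T ≤ H24.kerChar (H12.linIrr f) := fun f hf t ht => by
    rw [H24.mem_kerChar, H12.linIrr_apply, H12.linIrr_apply, hf.1 t ht, map_one]
  -- every member trivial on `T` comes from `A`
  have hsurj : ∀ χ : IrrCharacter G, χ ∈ B → T ≤ H24.kerChar χ → ∃ f ∈ A, H12.linIrr f = χ := by
    intro χ hχ hT'
    obtain ⟨ψ, hψ⟩ := H24.exists_deflate T χ hT'
    have hcomm : ∀ a b : G ⧸ T, a * b = b * a := by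
      have hgen' : ∀ c : G ⧸ T, ∃ i : ℤ, c = QuotientGroup.mk' T x ^ i := by
        intro c
        obtain ⟨g, rfl⟩ := QuotientGroup.mk'_surjective T c
        obtain ⟨i, hi⟩ := eq_one_of_generated hgen hxT g
        have h1 : QuotientGroup.mk' T (g * (x ^ i)⁻¹) = 1 := (QuotientGroup.eq_one_iff _).2 hi
        rw [map_mul, map_inv, map_zpow, mul_inv_eq_one] at h1
        exact ⟨i, h1⟩
      intro a b
      obtain ⟨i, rfl⟩ := hgen' a
      obtain ⟨j, rfl⟩ := hgen' b
      exact (Commute.zpow_zpow_self _ i j).eq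
    have hψ1 := H13.degree_one_of_commutative hcomm ψ
    have hχ1 : (χ : G → ℂ) 1 = 1 := by
      rw [← hψ, H24.inflate_apply, QuotientGroup.mk_one, hψ1]
    obtain ⟨f, hf⟩ := H12.exists_monoidHom_of_apply_one_eq_one (H12.isCharacter_irr χ) hχ1
    have hfχ : H12.linIrr f = χ := Subtype.ext hf
    have hfT : ∀ t ∈ T, f t = 1 := fun t ht => by
      have h1 := H24.mem_kerChar.1 (hT' ht)
      rw [← hfχ, H12.linIrr_apply, H12.linIrr_apply, map_one, Units.val_one] at h1
      exact Units.ext h1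
    refine ⟨f, ⟨hfT, ?_⟩, hfχ⟩
    have hw := H20.sameBlock_of_mem hBp h1B hχ x
    rw [← hfχ] at hw
    have e : centralChar (H12.oneIrr G : G → ℂ) x - centralChar (H12.linIrr f : G → ℂ) x =
        -((p ^ k : ℕ) : ℂ) * (((f x : ℂˣ) : ℂ) - 1) := by
      simp only [centralChar, H12.oneIrr_apply, H12.linIrr_apply, map_one, Units.val_one, hx]
      ring
    rw [e] at hw
    have hqpk : ¬ q ∣ p ^ k := fun h => hqp ((Nat.prime_dvd_prime_iff_eq hq hp).1 (hq.dvd_of_dvd_pow h))
    have hne : ((p ^ k : ℕ) : ℂ) ≠ 0 := Nat.cast_ne_zero.2 (pow_ne_zero _ hp.ne_zero)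
    have hw' : MemLocalIdeal M (((f x : ℂˣ) : ℂ) - 1) := by
      have h1 := H20.memIdeal_mul (H20.memRing_neg (H20.inv_natCast_memRing hM hqpk)) hw
      rwa [← mul_assoc, neg_mul_neg, inv_mul_cancel₀ hne, one_mul] at h1
    set z := ((f x : ℂˣ) : ℂ) with hz
    have hzN : z ^ Nat.card G = 1 := by
      rw [hz, ← Units.val_pow_eq_pow_val, ← map_pow, pow_card_eq_one', map_one, Units.val_one]
    have hzO : MemLocalRing M z := H20.memRing_of_pow_eq_one Nat.card_pos hzN
    have hzp : MemLocalIdeal M (z ^ q ^ a - 1) := by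
      rw [← mul_geom_sum z (q ^ a), mul_comm]
      refine H20.memIdeal_mul (H20.memRing_sum _ _ fun i _ => ?_) hw'
      induction i with
      | zero => simpa using H20.memRing_natCast (M := M) 1
      | succ i ih => rw [pow_succ]; exact H20.memRing_mul (ih (by simp_all [Finset.mem_range]; omega)) hzO
    have hz1 : z ^ q ^ a = 1 := by
      refine H20.eq_one_of_pow_eq_one hM (Nat.not_dvd_ordCompl hq (Nat.card_pos (α := G)).ne') ?_ hzp
      rw [← pow_mul, ha, Nat.mul_div_cancel' (Nat.ordProj_dvd _ _), hzN]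
    exact Units.ext (by rw [Units.val_pow_eq_pow_val, ← hz, hz1, Units.val_one])
  -- the orthogonality relation
  haveI : Fintype A := Fintype.ofFinite _
  let Λ : Finset (IrrCharacter G) := (H22.blockFinset B).filter fun χ => T ≤ H24.kerChar χ
  have hcard : Λ.card = Nat.card A := by
    rw [← Nat.card_eq_finsetCard]
    refine (Nat.card_congr (Equiv.ofBijective (fun f : A => (⟨H12.linIrr f.1,
      Finset.mem_filter.2 ⟨H22.mem_blockFinset.2 (hmem f.1 f.2), hker' f.1 f.2⟩⟩ : Λ)) ⟨?_, ?_⟩)).symm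
    · intro f f' h
      exact Subtype.ext (H12.linIrr_injective (congrArg Subtype.val h))
    · rintro ⟨χ, hχ⟩
      obtain ⟨h1, h2⟩ := Finset.mem_filter.1 hχ
      obtain ⟨f, hf, rfl⟩ := hsurj χ (H22.mem_blockFinset.1 h1) h2
      exact ⟨⟨f, hf⟩, rfl⟩
  have horth := H20.weak_orthogonality hM hBp (x := (1 : G)) (y := u)
    (by rw [orderOf_one]; exact hq.not_dvd_one) (by rw [huo])
  rw [H22.finsum_mem_block, ← Finset.sum_filter_add_sum_filter_not _
    (fun χ : IrrCharacter G => T ≤ H24.kerChar χ)] at horth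
  have hfirst : ∑ χ ∈ Λ, (χ : G → ℂ) 1 * conj ((χ : G → ℂ) u) = (Λ.card : ℂ) := by
    rw [Finset.sum_congr rfl fun χ hχ => ?_, Finset.sum_const, nsmul_eq_mul, mul_one]
    obtain ⟨h1, h2⟩ := Finset.mem_filter.1 hχ
    obtain ⟨f, hf, rfl⟩ := hsurj χ (H22.mem_blockFinset.1 h1) h2
    rw [H12.linIrr_apply, H12.linIrr_apply, hf.1 u huT, map_one, Units.val_one, map_one, one_mul]
  have hrest : IsIntegral ℤ ((∑ χ ∈ (H22.blockFinset B).filter
      (fun χ : IrrCharacter G => ¬ T ≤ H24.kerChar χ),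
        (χ : G → ℂ) 1 * conj ((χ : G → ℂ) u)) / (p : ℂ)) := by
    rw [Finset.sum_div]
    refine IsIntegral.sum _ fun χ hχ => ?_
    obtain ⟨h1, h2⟩ := Finset.mem_filter.1 hχ
    have hpd : p ∣ charDegree (χ : G → ℂ) := by
      by_contra h
      exact h2 (hker χ (H22.mem_blockFinset.1 h1) h)
    obtain ⟨d, hd⟩ := hpd
    rw [H24.irr_one, hd, Nat.cast_mul, mul_assoc,
      mul_div_cancel_left₀ _ (Nat.cast_ne_zero.2 hp.ne_zero), ← H12.irr_inv]
    exact (isIntegral_algebraMap (R := ℤ) (A := ℂ) (x := (d : ℤ))).mul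
      (H12.IsCharacter.isIntegral (H12.isCharacter_irr χ) _)
  have hint : IsIntegral ℤ ((Nat.card A : ℂ) / (p : ℂ)) := by
    rw [← hcard, ← hfirst, show ∑ χ ∈ Λ, (χ : G → ℂ) 1 * conj ((χ : G → ℂ) u) =
      -∑ χ ∈ (H22.blockFinset B).filter (fun χ : IrrCharacter G => ¬ T ≤ H24.kerChar χ),
        (χ : G → ℂ) 1 * conj ((χ : G → ℂ) u) from eq_neg_of_add_eq_zero_left horth, neg_div]
    exact hrest.neg
  have hdvd : p ∣ Nat.card A := H12.nat_dvd_of_isIntegral_div hp.ne_zero hint
  obtain ⟨j, hj⟩ := IsPGroup.iff_card.1 hA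
  rw [hj] at hdvd
  exact hqp ((Nat.prime_dvd_prime_iff_eq hp hq).1 (hp.dvd_of_dvd_pow hdvd)).symm

theorem isSolvable_sup_normal {X : Type u} [Group X] [Finite X] (A B : Subgroup X) [A.Normal]
    [B.Normal] (hA : Group.IsSolvable A) (hB : Group.IsSolvable B) :
    Group.IsSolvable (A ⊔ B : Subgroup X) := by
  haveI := hA
  haveI := hB
  let f := (QuotientGroup.mk' B).comp (A ⊔ B).subtype
  let g : A →* f.range := (f.comp (Subgroup.inclusion le_sup_left)).codRestrict _ fun a => ⟨_, rfl⟩
  have hg : Function.Surjective g := by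
    rintro ⟨_, ⟨⟨y, hy⟩, rfl⟩⟩
    obtain ⟨a, ha, b, hb, rfl⟩ : y ∈ ((A : Set X) * (B : Set X)) := by
      rw [← Subgroup.normal_mul]; exact hy
    refine ⟨⟨a, ha⟩, Subtype.ext ?_⟩
    show QuotientGroup.mk' B a = QuotientGroup.mk' B (a * b)
    rw [map_mul, show QuotientGroup.mk' B b = 1 from (QuotientGroup.eq_one_iff b).2 hb, mul_one]
  haveI : Group.IsSolvable f.range := Group.isSolvable_of_surjective hg
  refine Group.isSolvable_of_ker_le_range (Subgroup.inclusion (le_sup_right (a := A) (b := B)))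
    f.rangeRestrict ?_
  intro y hy
  rw [MonoidHom.ker_rangeRestrict] at hy
  exact ⟨⟨(y : X), (QuotientGroup.eq_one_iff _).1 hy⟩, Subtype.ext rfl⟩

end Kazarin

open Kazarin in
/-- Kazarin's theorem. -/
theorem kazarin {p : ℕ} (hp : p.Prime) : ∀ (n : ℕ) {G : Type u} [Group G] [Finite G],
    Nat.card G = n → ∀ (x : G) (k : ℕ), (Subgroup.centralizer ({x} : Set G)).index = p ^ k →
      Group.IsSolvable (Subgroup.normalClosure ({x} : Set G)) := by
  intro n
  induction n using Nat.strong_induction_on with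
  | _ n ih =>
  intro G _ _ hn x k hx
  classical
  haveI := Fintype.ofFinite G
  set N := Subgroup.normalClosure ({x} : Set G) with hN
  by_cases hgen : N = ⊤
  · haveI : Fact p.Prime := ⟨hp⟩
    have hTp := commutator_closure_isPGroup hp hgen hx
    set T := Subgroup.normalClosure (commSet x) with hT
    haveI : Group.IsSolvable T := by
      haveI := hTp.isNilpotent
      infer_instance
    have hxT : ∀ y : G, x * y * x⁻¹ * y⁻¹ ∈ T := fun y => Subgroup.subset_normalClosure ⟨y, rfl⟩
    have hcomm : ∀ a b : G ⧸ T, a * b = b * a := by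
      intro a b
      obtain ⟨g, rfl⟩ := QuotientGroup.mk'_surjective T a
      obtain ⟨h, rfl⟩ := QuotientGroup.mk'_surjective T b
      obtain ⟨i, hi⟩ := eq_one_of_generated hgen hxT g
      obtain ⟨j, hj⟩ := eq_one_of_generated hgen hxT h
      have h1 : QuotientGroup.mk' T (g * (x ^ i)⁻¹) = 1 := (QuotientGroup.eq_one_iff _).2 hi
      have h2 : QuotientGroup.mk' T (h * (x ^ j)⁻¹) = 1 := (QuotientGroup.eq_one_iff _).2 hj
      rw [map_mul, map_inv, map_zpow, mul_inv_eq_one] at h1 h2
      rw [h1, h2]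
      exact (Commute.zpow_zpow_self _ i j).eq
    haveI : Group.IsSolvable (G ⧸ T) := Group.isSolvable_of_comm hcomm
    haveI : Group.IsSolvable G := Group.isSolvable_of_ker_le_range T.subtype (QuotientGroup.mk' T)
      (by rw [QuotientGroup.ker_mk', Subgroup.range_subtype])
    infer_instance
  · have hlt : Nat.card N < Nat.card G := by
      refine lt_of_le_of_ne (Subgroup.card_le_card_group N) fun h => hgen ?_
      exact Subgroup.card_eq_iff_eq_top N |>.1 h
    -- every conjugate of `x` lies in a solvable normal subgroup of `N`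
    set S : Set (Subgroup N) := {K | K.Normal ∧ Group.IsSolvable K} with hS
    obtain ⟨hRn, hRs⟩ := H1.sSup_induction_normal (P := fun H : Subgroup N => Group.IsSolvable H) S
      (fun H h => h.1) inferInstance (fun H h => h.2)
      (fun A B hA hB ha hb => by haveI := hA; haveI := hB; exact isSolvable_sup_normal A B ha hb)
    set R := sSup S with hR
    have hconj : ∀ c : G, ∀ hc : c * x * c⁻¹ ∈ N, (⟨c * x * c⁻¹, hc⟩ : N) ∈ R := by
      intro c hc
      have hidx : (Subgroup.centralizer ({c * x * c⁻¹} : Set G)).index = p ^ k := by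
        rw [← hx, H20.index_centralizer_eq_card_class, H20.index_centralizer_eq_card_class]
        have hconj : IsConj x (c * x * c⁻¹) := isConj_iff.2 ⟨c, rfl⟩
        exact Nat.card_congr (Equiv.subtypeEquivRight fun z =>
          ⟨fun h => hconj.trans h, fun h => hconj.symm.trans h⟩)
      have hrel : (Subgroup.centralizer ({(⟨c * x * c⁻¹, hc⟩ : N)} : Set N)).index ∣ p ^ k := by
        rw [← hidx]
        have e : Subgroup.centralizer ({(⟨c * x * c⁻¹, hc⟩ : N)} : Set N) =
            (Subgroup.centralizer ({c * x * c⁻¹} : Set G)).subgroupOf N := by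
          ext z
          rw [Subgroup.mem_subgroupOf, Subgroup.mem_centralizer_singleton_iff,
            Subgroup.mem_centralizer_singleton_iff]
          exact ⟨fun h => congrArg Subtype.val h, fun h => Subtype.ext h⟩
        rw [e]
        exact H18.relIndex_dvd_index_of_normal' _ N
      obtain ⟨k', -, hk'⟩ := (Nat.dvd_prime_pow hp).1 hrel
      have hsol := ih _ (hn ▸ hlt) rfl _ k' hk'
      have hle : Subgroup.normalClosure ({(⟨c * x * c⁻¹, hc⟩ : N)} : Set N) ≤ R :=
        le_sSup ⟨Subgroup.normalClosure_normal, hsol⟩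
      exact hle (Subgroup.subset_normalClosure rfl)
    have htop : R = ⊤ := by
      rw [eq_top_iff]
      intro z _
      have hle : N ≤ R.map N.subtype := by
        show Subgroup.closure (Group.conjugatesOfSet ({x} : Set G)) ≤ _
        rw [Subgroup.closure_le]
        intro y hy
        obtain ⟨x', hx', hconj'⟩ := Group.mem_conjugatesOfSet_iff.1 hy
        rw [Set.mem_singleton_iff] at hx'
        subst hx'
        obtain ⟨c, rfl⟩ := isConj_iff.1 hconj'
        have hcN : c * x' * c⁻¹ ∈ N :=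
          Subgroup.normalClosure_normal.conj_mem x' (Subgroup.subset_normalClosure (Set.mem_singleton x')) c
        exact ⟨⟨c * x' * c⁻¹, hcN⟩, hconj c hcN, rfl⟩
      obtain ⟨w, hw, hwz⟩ := hle z.2
      rwa [Subtype.ext hwz] at hw
    rw [htop] at hRs
    haveI := hRs
    exact Group.isSolvable_of_surjective (f := (⊤ : Subgroup N).subtype) (fun z => ⟨⟨z, trivial⟩, rfl⟩)

end H25
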