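import Cfsg.Agent.H25.Fong
import Cfsg.Agent.H20.Defect
import Cfsg.Agent.H20.Induced
import Cfsg.Agent.H12.Glauberman
import Cfsg.Agent.H11.PConstrained
import Cfsg.Agent.H1.Cores

/-!
# The block over an invariant character in a `p`-constrained group
-/

set_option autoImplicit false
set_option linter.style.haveILetI false
set_option linter.unusedSectionVars false

open Cfsg MonoidAlgebra
open scoped ComplexConjugate

namespace H25

universe u

variable {G : Type u} [Group G] [Fintype G] {p : ℕ} [hp : Fact p.Prime] {M : Ideal AlgInt}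
  [M.IsPrime]

open Classical in
/-- The reduced idempotent of `θ`. -/
noncomputable def thetaIdem (M : Ideal AlgInt) [M.IsPrime] (K : Subgroup G) (θ : IrrCharacter K) :
    MonoidAlgebra (H20.k M) G :=
  H20.ofFun fun x => if h : x ∈ K then
    H20.redC M ((θ : K → ℂ) 1 / (Nat.card K : ℂ) * (θ : K → ℂ) ⟨x, h⟩⁻¹) else 0

theorem coeff_thetaIdem_mem (K : Subgroup G) (θ : IrrCharacter K) {x : G} (h : x ∈ K) :
    (thetaIdem M K θ).coeff x =
      H20.redC M ((θ : K → ℂ) 1 / (Nat.card K : ℂ) * (θ : K → ℂ) ⟨x, h⟩⁻¹) := by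
  classical
  rw [thetaIdem, H20.coeff_ofFun, dif_pos h]

theorem coeff_thetaIdem_notMem (K : Subgroup G) (θ : IrrCharacter K) {x : G} (h : x ∉ K) :
    (thetaIdem M K θ).coeff x = 0 := by
  classical
  rw [thetaIdem, H20.coeff_ofFun, dif_neg h]

theorem isPBlock_over_constrained (hM : IsPModular p M) (hcon : IsPConstrained p G)
    (K : Subgroup G) [hKn : K.Normal] (hK : K = pPrimeCore p G) [Fintype K] (θ : IrrCharacter K)
    (hinv : ∀ (g : G) (n : K), (θ : K → ℂ) ⟨g * n * g⁻¹, hKn.conj_mem n n.2 g⟩ = (θ : K → ℂ) n) :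
    IsPBlock M {χ : IrrCharacter G | classInner (fun k : K => (χ : G → ℂ) k) (θ : K → ℂ) ≠ 0} ∧
    (∀ S : Sylow p G, IsDefectGroup p M
      {χ : IrrCharacter G | classInner (fun k : K => (χ : G → ℂ) k) (θ : K → ℂ) ≠ 0} S) ∧
    H20.IsCl (thetaIdem M K θ) ∧
    ∀ χ : IrrCharacter G, H20.lam M χ (thetaIdem M K θ) =
      open Classical in if classInner (fun k : K => (χ : G → ℂ) k) (θ : K → ℂ) ≠ 0 then 1 else 0 := by
  classical
  have hpK : ¬ p ∣ Nat.card K := fun h =>
    (Nat.Prime.coprime_iff_not_dvd hp.out).1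
      (hK ▸ H1.card_pPrimeCore_coprime p G : (Nat.card K).Coprime p).symm h
  let f := QuotientGroup.mk' K
  have hLeq : pPrimePCore p G = (pCore p (G ⧸ K)).comap f := by subst hK; rfl
  set L := pPrimePCore p G with hL
  haveI := H1.pCore_normal' p (G ⧸ K)
  have hLn : L.Normal := by rw [hLeq]; exact Subgroup.Normal.comap inferInstance f
  have hKL : K ≤ L := fun x hx => by
    rw [hLeq, Subgroup.mem_comap, show f x = 1 from (QuotientGroup.eq_one_iff x).2 hx]
    exact Subgroup.one_mem _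
  have hQ : ∀ h ∈ L, ∃ i : ℕ, h ^ p ^ i ∈ K := by
    intro h hh
    rw [hLeq] at hh
    obtain ⟨i, hi⟩ := H1.isPGroup_pCore p (G ⧸ K) ⟨f h, hh⟩
    refine ⟨i, (QuotientGroup.eq_one_iff _).1 ?_⟩
    have := congrArg Subtype.val hi
    simpa [f] using this
  obtain ⟨θh, hres⟩ := exists_extension_pQuotient K L hKL hpK hQ θ hinv
  obtain ⟨hlam, hsame⟩ := lam_over hKL θ θh hM hpK hLn hQ hcon hres hinv
  have he : (fongData hKL θ θh hM hpK hLn hres hQ hinv).e = thetaIdem M K θ := by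
    ext x
    rw [FongData.e, show (fongData hKL θ θh hM hpK hLn hres hQ hinv).φ =
      fongPhi M K ((θ : K → ℂ) 1 / (Nat.card K : ℂ)) (extZero L (θh : L → ℂ)) from rfl]
    by_cases hx : x ∈ K
    · rw [coeff_fongPhi_mem K _ _ _ hx, coeff_thetaIdem_mem K θ hx, one_mul,
        ← extZero_res hKL θ θh hres ⟨x, hx⟩⁻¹]
      rfl
    · rw [coeff_fongPhi_notMem K _ _ _ hx, coeff_thetaIdem_notMem K θ hx]
  rw [he] at hlam
  have hθp : ¬ p ∣ H12.degree (θ : K → ℂ) := fun h => hpK (h.trans (H12.irr_degree_dvd_card θ))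
  obtain ⟨χ₀, hχ₀p, hχ₀⟩ := exists_pPrime_over θ hpK hθp hinv
  set B := {χ : IrrCharacter G | classInner (fun k : K => (χ : G → ℂ) k) (θ : K → ℂ) ≠ 0} with hBdef
  have hBeq : B = blockOf M (χ₀ : G → ℂ) := by
    ext χ
    refine ⟨fun h => hsame χ₀ χ hχ₀ h, fun h => ?_⟩
    by_contra hc
    have h1 := hlam χ₀
    rw [if_pos hχ₀, H20.lam_eq_of_sameBlock (show SameBlock M (χ₀ : G → ℂ) (χ : G → ℂ) from h),
      hlam χ, if_neg (show ¬ (classInner (fun k : K => (χ : G → ℂ) k) (θ : K → ℂ) ≠ 0) from hc)] at h1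
    exact zero_ne_one h1
  have hB : IsPBlock M B := hBeq ▸ H20.isPBlock_blockOf χ₀
  refine ⟨hB, fun P => ?_, ?_, hlam⟩
  · have hdef : blockDefect p B = (Nat.card G).factorization p := by
      unfold blockDefect
      have h0 : sInf ((fun χ : IrrCharacter G => (charDegree (χ : G → ℂ)).factorization p) '' B) = 0 := by
        apply Nat.eq_zero_of_le_zero
        exact Nat.sInf_le ⟨χ₀, hχ₀, Nat.factorization_eq_zero_of_not_dvd hχ₀p⟩
      rw [h0, Nat.sub_zero]
    obtain ⟨g, hg⟩ := H20.exists_isDefectClass hB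
    let S : Sylow p (Subgroup.centralizer ({g} : Set G)) := default
    have hD : IsDefectGroup p M B ((S : Subgroup (Subgroup.centralizer ({g} : Set G))).map
        (Subgroup.centralizer ({g} : Set G)).subtype) := ⟨g, hg, S, rfl⟩
    have hcard := H20.card_defectGroup hM hB hD
    rw [hdef] at hcard
    let P0 : Sylow p G := Sylow.ofCard _ hcard
    obtain ⟨x, hx⟩ := MulAction.exists_smul_eq G P0 P
    rw [← hx]
    exact H20.isDefectGroup_conj hM hB (D := (P0 : Subgroup G)) hD x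
  · intro x y
    by_cases hx : x ∈ K
    · rw [coeff_thetaIdem_mem K θ hx, coeff_thetaIdem_mem K θ (hKn.conj_mem x hx y),
        ← hinv y (⟨x, hx⟩ : K)⁻¹]
      refine congrArg _ (congrArg₂ _ rfl (congrArg _ ?_))
      apply Subtype.ext
      simp only [InvMemClass.coe_inv]
      group
    · rw [coeff_thetaIdem_notMem K θ hx, coeff_thetaIdem_notMem K θ
        (fun h => hx (by simpa [mul_assoc] using hKn.conj_mem _ h y⁻¹))]

theorem pPrimeCore_centralizer_eq (hcon : IsPConstrained p G) (R : Subgroup G) (hR : IsPGroup p R) :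
    pPrimeCore p ↥(Subgroup.centralizer (R : Set G)) =
      (pPrimeCore p G).subgroupOf (Subgroup.centralizer (R : Set G)) := by
  haveI := H1.pPrimeCore_normal' p G
  set C := Subgroup.centralizer (R : Set G) with hC
  set N := Subgroup.normalizer (R : Set G) with hN
  haveI hCn : (C.subgroupOf N).Normal := H5.centralizer_subgroupOf_normalizer_normal R
  refine le_antisymm (fun x hx => ?_) ?_
  · let e := Subgroup.subgroupOfEquivOfLe (show C ≤ N from Subgroup.centralizer_le_normalizer (R : Set G))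
    rw [← H1.map_pPrimeCore_equiv p e] at hx
    obtain ⟨y, hy, rfl⟩ := hx
    have h1 : (y : N) ∈ pPrimeCore p ↥N ⊓ C.subgroupOf N := by
      rw [← H1.pPrimeCore_subgroup_map_eq p (C.subgroupOf N)]
      exact ⟨y, hy, rfl⟩
    have h2 : ((y : N) : G) ∈ pPrimeCore p G ⊓ N := by
      rw [← H11.pPrimeCore_normalizer (H11.isPConstrained_iff_core.mp hcon) R hR]
      exact ⟨y, h1.1, rfl⟩
    rw [Subgroup.mem_subgroupOf]
    exact h2.1
  · refine H1.le_pPrimeCore ?_
    refine (H1.card_pPrimeCore_coprime p G).coprime_dvd_left ?_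
    exact Subgroup.card_comap_dvd_of_injective _ C.subtype Subtype.val_injective

/-- The unique inducing block of a centraliser. -/
theorem existsUnique_induced_constrained (hM : IsPModular p M) (hcon : IsPConstrained p G)
    (K : Subgroup G) [hKn : K.Normal] (hK : K = pPrimeCore p G) [Fintype K] (θ : IrrCharacter K)
    (hinv : ∀ (g : G) (n : K), (θ : K → ℂ) ⟨g * n * g⁻¹, hKn.conj_mem n n.2 g⟩ = (θ : K → ℂ) n)
    (R : Subgroup G) (hR : IsPGroup p R) :
    ∃! f : Set (IrrCharacter ↥(Subgroup.centralizer (R : Set G))),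
      IsInducedBlock M (Subgroup.centralizer (R : Set G)) f
        {χ : IrrCharacter G | classInner (fun k : K => (χ : G → ℂ) k) (θ : K → ℂ) ≠ 0} := by
  classical
  haveI := H20.k_charP hM
  obtain ⟨hB, -, hecl, hlam₀⟩ := isPBlock_over_constrained hM hcon K hK θ hinv
  set B := {χ : IrrCharacter G | classInner (fun k : K => (χ : G → ℂ) k) (θ : K → ℂ) ≠ 0} with hBdef
  have hlam : ∀ χ : IrrCharacter G,
      H20.lam M χ (thetaIdem M K θ) = if χ ∈ B then 1 else 0 := fun χ => by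
    rw [hlam₀ χ]; exact if_congr Iff.rfl rfl rfl
  have hpK : ¬ p ∣ Nat.card K := fun h =>
    (Nat.Prime.coprime_iff_not_dvd hp.out).1
      (hK ▸ H1.card_pPrimeCore_coprime p G : (Nat.card K).Coprime p).symm h
  let C := Subgroup.centralizer (R : Set G)
  haveI : Fintype ↥C := Fintype.ofFinite _
  have hcore : K.subgroupOf C = pPrimeCore p ↥C := by
    rw [pPrimeCore_centralizer_eq hcon R hR, hK]
  haveI : (K.subgroupOf C).Normal := hKn.subgroupOf C
  haveI : Fintype ↥(K.subgroupOf C) := Fintype.ofFinite _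
  haveI : Fintype ↥(C.subgroupOf K) := Fintype.ofFinite _
  have hconC : IsPConstrained p ↥C := H11.isPConstrained_centralizer hcon R hR
  -- the correspondent of `θ`
  have hnorm : ∀ s ∈ R, ∀ g ∈ K, s * g * s⁻¹ ∈ K := fun s _ g hg => hKn.conj_mem g hg s
  let φ := H12.Glauberman.conjHom K R hnorm
  have hfix : ∀ g : K, g ∈ C.subgroupOf K ↔ ∀ s, φ s g = g := by
    intro g
    rw [Subgroup.mem_subgroupOf]
    refine ⟨fun h s => Subtype.ext ?_, fun h s hs => ?_⟩
    · rw [H12.Glauberman.conjHom_coe, h s s.2, mul_inv_cancel_right]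
    · have h1 := congrArg Subtype.val (h ⟨s, hs⟩)
      rw [H12.Glauberman.conjHom_coe, mul_inv_eq_iff_eq_mul] at h1
      exact h1
  have hθR : H12.Glauberman.Inv φ (θ : K → ℂ) := fun s g => hinv (s : G) g
  obtain ⟨β, hβ, hβu⟩ := H12.Glauberman.existsUnique_mult (p := p) hR hpK hfix hθR
  let ι : ↥(K.subgroupOf C) ≃* ↥(C.subgroupOf K) :=
    { toFun := fun x => ⟨⟨((x : C) : G), x.2⟩, (x : C).2⟩
      invFun := fun y => ⟨⟨((y : K) : G), y.2⟩, (y : K).2⟩
      left_inv := fun _ => rfl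
      right_inv := fun _ => rfl
      map_mul' := fun _ _ => rfl }
  let β' : IrrCharacter ↥(K.subgroupOf C) := H12.irrCongr ι β
  have hβ'v : ∀ x, (β' : ↥(K.subgroupOf C) → ℂ) x = (β : ↥(C.subgroupOf K) → ℂ) (ι x) := fun x => rfl
  have hKCn : (K.subgroupOf C).Normal := inferInstance
  have hβinv : ∀ (c : C) (n : K.subgroupOf C),
      (β' : ↥(K.subgroupOf C) → ℂ) ⟨c * n * c⁻¹, hKCn.conj_mem n n.2 c⟩ = (β' : ↥(K.subgroupOf C) → ℂ) n := by
    intro c n
    let a : K ≃* K :=
      { toFun := fun k => ⟨c * k * (c : G)⁻¹, hKn.conj_mem k k.2 c⟩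
        invFun := fun k => ⟨(c : G)⁻¹ * k * c, by simpa using hKn.conj_mem k k.2 (c : G)⁻¹⟩
        left_inv := fun k => Subtype.ext (by simp [mul_assoc])
        right_inv := fun k => Subtype.ext (by simp [mul_assoc])
        map_mul' := fun k l => Subtype.ext (by simp [mul_assoc]) }
    let a' : C.subgroupOf K ≃* C.subgroupOf K :=
      { toFun := fun k => ⟨a k, C.mul_mem (C.mul_mem c.2 k.2) (C.inv_mem c.2)⟩
        invFun := fun k => ⟨a.symm k, C.mul_mem (C.mul_mem (C.inv_mem c.2) k.2) c.2⟩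
        left_inv := fun k => Subtype.ext (a.symm_apply_apply _)
        right_inv := fun k => Subtype.ext (a.apply_symm_apply _)
        map_mul' := fun k l => Subtype.ext (map_mul a (k : K) (l : K)) }
    have hθa : H12.irrCongr a θ = θ := Subtype.ext (funext fun k => hinv (c : G) k)
    have hβa : H12.irrCongr a' β = β := by
      refine hβu _ ?_
      have h := H12.Glauberman.mult_comp (C.subgroupOf K) a a' (fun k => rfl) θ β
      rw [hθa] at h
      show ¬ p ∣ _
      rw [h]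
      exact hβ
    have h := congrArg (fun b : IrrCharacter (C.subgroupOf K) => (b : ↥(C.subgroupOf K) → ℂ) (ι n)) hβa
    exact h
  obtain ⟨hB', -, he'cl, hlam₁⟩ := isPBlock_over_constrained hM hconC (K.subgroupOf C) hcore β' hβinv
  set B' := {ψ : IrrCharacter ↥C |
    classInner (fun k : K.subgroupOf C => (ψ : C → ℂ) k) (β' : ↥(K.subgroupOf C) → ℂ) ≠ 0} with hB'def
  have hlam' : ∀ ψ : IrrCharacter ↥C,
      H20.lam M ψ (thetaIdem M (K.subgroupOf C) β') = if ψ ∈ B' then 1 else 0 := fun ψ => by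
    rw [hlam₁ ψ]; exact if_congr Iff.rfl rfl rfl
  -- the restricted idempotent
  set m := H12.Glauberman.mult (C.subgroupOf K) θ β with hm
  set c₁ := (θ : K → ℂ) 1 / (Nat.card K : ℂ) with hc₁
  set c₂ := (β' : ↥(K.subgroupOf C) → ℂ) 1 / (Nat.card ↥(K.subgroupOf C) : ℂ) with hc₂
  have hpK' : ¬ p ∣ Nat.card ↥(K.subgroupOf C) := fun h => hpK (h.trans
    (Subgroup.card_comap_dvd_of_injective _ C.subtype Subtype.val_injective))
  have hunit : ∀ {H : Type u} [Group H] [Fintype H] (χ : IrrCharacter H), ¬ p ∣ Nat.card H →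
      MemLocalRing M ((χ : H → ℂ) 1 / (Nat.card H : ℂ)) ∧
      H20.redC M ((χ : H → ℂ) 1 / (Nat.card H : ℂ)) ≠ 0 := by
    intro H _ _ χ hH
    obtain ⟨e, he⟩ := H12.irr_degree_dvd_card χ
    have hd : (χ : H → ℂ) 1 / (Nat.card H : ℂ) = (e : ℂ)⁻¹ := by
      have h0 : ((H12.degree (χ : H → ℂ) : ℕ) : ℂ) ≠ 0 :=
        Nat.cast_ne_zero.2 (H12.irr_degree_pos χ).ne'
      rw [H12.irr_apply_one, he, Nat.cast_mul]
      field_simp
    have hpe : ¬ p ∣ e := fun h => hH (he ▸ h.mul_left _)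
    refine ⟨hd ▸ H20.inv_natCast_memRing hM hpe, fun h0 => ?_⟩
    rw [hd] at h0
    have h1 : H20.redC M ((e : ℂ) * (e : ℂ)⁻¹) = 0 := by
      rw [H20.redC_mul (H20.memRing_natCast _) (H20.inv_natCast_memRing hM hpe), h0, mul_zero]
    rw [mul_inv_cancel₀ (Nat.cast_ne_zero.2 (fun (he0 : e = 0) => hpe (he0 ▸ dvd_zero p))),
      H20.redC_one] at h1
    exact one_ne_zero h1
  obtain ⟨hc₁O, hc₁0⟩ := hunit θ hpK
  obtain ⟨hc₂O, hc₂0⟩ := hunit β' hpK'
  set s : H20.k M := H20.redC M c₁ * (m : H20.k M) / H20.redC M c₂ with hs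
  have hs0 : s ≠ 0 := div_ne_zero (mul_ne_zero hc₁0
    (mt (CharP.cast_eq_zero_iff (H20.k M) p m).1 hβ)) hc₂0
  have hγO : ∀ (γ : IrrCharacter (C.subgroupOf K)) (y : C.subgroupOf K),
      MemLocalRing M ((γ : ↥(C.subgroupOf K) → ℂ) y) := fun γ y =>
    H20.memRing_of_isIntegral (H12.IsCharacter.isIntegral (H12.isCharacter_irr γ) y)
  have hres : H20.resAlg C (thetaIdem M K θ) = s • thetaIdem M (K.subgroupOf C) β' := by
    ext x
    rw [H20.coeff_resAlg, MonoidAlgebra.coeff_smul, Finsupp.smul_apply, smul_eq_mul]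
    by_cases hx : (x : G) ∈ K
    · rw [coeff_thetaIdem_mem K θ hx,
        coeff_thetaIdem_mem (K.subgroupOf C) β' (Subgroup.mem_subgroupOf.2 hx)]
      let y : C.subgroupOf K := (⟨⟨(x : G), hx⟩, x.2⟩ : C.subgroupOf K)⁻¹
      have hval : (θ : K → ℂ) ⟨(x : G), hx⟩⁻¹ = ∑ γ : IrrCharacter (C.subgroupOf K),
          (H12.Glauberman.mult (C.subgroupOf K) θ γ : ℂ) * (γ : ↥(C.subgroupOf K) → ℂ) y :=
        H12.Glauberman.res_apply_eq_sum (C.subgroupOf K) θ y
      have hredθ : H20.redC M ((θ : K → ℂ) ⟨(x : G), hx⟩⁻¹) =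
          (m : H20.k M) * H20.redC M ((β : ↥(C.subgroupOf K) → ℂ) y) := by
        rw [hval, H20.redC_sum _ _ (fun γ _ => H20.memRing_mul (H20.memRing_natCast _) (hγO γ y)),
          Finset.sum_eq_single β]
        · rw [H20.redC_mul (H20.memRing_natCast _) (hγO β y), H20.redC_natCast]
        · intro γ _ hne
          rw [H20.redC_mul (H20.memRing_natCast _) (hγO γ y), H20.redC_natCast,
            (CharP.cast_eq_zero_iff (H20.k M) p _).2 (not_not.1 fun h => hne (hβu γ h)), zero_mul]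
        · simp
      rw [H20.redC_mul hc₁O (H20.memRing_of_isIntegral
        (H12.IsCharacter.isIntegral (H12.isCharacter_irr θ) _)), hredθ,
        H20.redC_mul hc₂O (H20.memRing_of_isIntegral
        (H12.IsCharacter.isIntegral (H12.isCharacter_irr β') _)),
        show (β' : ↥(K.subgroupOf C) → ℂ) (⟨x, Subgroup.mem_subgroupOf.2 hx⟩ : K.subgroupOf C)⁻¹ = (β : ↥(C.subgroupOf K) → ℂ) y
          from rfl, hs]
      have h2 : H20.redC M c₂ ≠ 0 := hc₂0
      rw [eq_comm, div_mul_eq_mul_div, div_eq_iff h2]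
      ring
    · rw [coeff_thetaIdem_notMem K θ hx,
        coeff_thetaIdem_notMem (K.subgroupOf C) β' (fun h => hx (Subgroup.mem_subgroupOf.1 h)),
        mul_zero]
  -- the induced functional
  obtain ⟨ψ₀, hψ₀⟩ := H20.block_nonempty hB'
  have hsupp : ∀ a : MonoidAlgebra (H20.k M) G, H20.resAlg C (H20.br R a) = H20.resAlg C a :=
    fun a => by ext c; rw [H20.coeff_resAlg, H20.coeff_resAlg, H20.coeff_br_of_mem a c.2]
  obtain ⟨χ₀, hχ₀⟩ := H20.exists_lam_eq (M := M) (fun a => H20.lam M ψ₀ (H20.resAlg C a))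
    (by rw [H20.resAlg_one, H20.lam_one])
    (by
      rw [show (0 : MonoidAlgebra (H20.k M) G) = (0 : H20.k M) • 1 from (zero_smul _ _).symm,
        H20.resAlg_smul, H20.lam_smul, zero_mul])
    (fun a b ha hb => by
      rw [← hsupp (a * b), H20.br_mul hR (ha.isInv R) (hb.isInv R),
        H20.resAlg_mul C (fun g hg => H20.coeff_br_of_notMem a hg), hsupp, hsupp,
        H20.lam_mul ψ₀ (ha.res C) (hb.res C)])
    (fun a c _ => by
      rw [H20.resAlg_sub, H20.resAlg_smul, H20.resAlg_one, H20.lam_sub, H20.lam_smul, H20.lam_one,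
        mul_one])
  have hB₀ : χ₀ ∈ B := by
    by_contra hne
    have h := hχ₀ _ hecl
    rw [hres, H20.lam_smul, hlam' ψ₀, if_pos hψ₀, hlam χ₀, if_neg hne, mul_one] at h
    exact hs0 h
  refine ⟨B', (H20.inducedBlock_iff C).2 ⟨hB', hB, fun ξ hξ χ hχ a ha => ?_⟩, fun f hf => ?_⟩
  · rw [H20.lam_eq_of_sameBlock (H20.sameBlock_of_mem hB' hξ hψ₀) _, hχ₀ a ha]
    exact H20.lam_eq_of_sameBlock (H20.sameBlock_of_mem hB hB₀ hχ) a
  · obtain ⟨hfb, -, hf'⟩ := (H20.inducedBlock_iff C).1 hf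
    obtain ⟨ξ, hξ⟩ := H20.block_nonempty hfb
    have h := hf' ξ hξ χ₀ hB₀ _ hecl
    rw [hres, H20.lam_smul, hlam' ξ, hlam χ₀, if_pos hB₀] at h
    have hξB' : ξ ∈ B' := by
      by_contra hne
      rw [if_neg hne, mul_zero] at h
      exact zero_ne_one h
    exact H20.block_eq_of_mem hfb hB' hξ hξB'

end H25
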