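import Cfsg.Agent.H20.Block
import Cfsg.Agent.H20.ResidueRoots
import Cfsg.Agent.H12.Linear

/-!
# Extensions over `N` when `G = N * C_G(P)`

If an irreducible character `ψ` of `G` restricts to a principal-block character of `N`, the
scalars of `N`-orbit sums are congruent to a linear character of `G ⧸ N` times the orbit length.
-/

set_option autoImplicit false
set_option linter.style.haveILetI false
set_option linter.unusedSectionVars false

open Cfsg H20
open scoped ComplexConjugate

namespace H25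

universe u

section Scalar

variable {G : Type u} [Group G] [Fintype G] {V : Type*} [AddCommGroup V] [Module ℂ V]
  [FiniteDimensional ℂ V]

/-- Schur's lemma from the norm of the character. -/
theorem exists_scalar_of_norm_one (σ : Representation ℂ G V)
    (h : classInner σ.character σ.character = 1) (T : Module.End ℂ V)
    (hT : ∀ g, T * σ g = σ g * T) : ∃ c : ℂ, T = c • (1 : Module.End ℂ V) := by
  rw [H12.classInner_character] at h
  have h1 : Module.finrank ℂ (σ.IntertwiningMap σ) = 1 := by exact_mod_cast h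
  let F : σ.IntertwiningMap σ := ⟨T, fun g => hT g⟩
  let I : σ.IntertwiningMap σ := ⟨1, fun g => by simp [Module.End.one_eq_id]⟩
  by_cases hI : I = 0
  · refine ⟨0, ?_⟩
    have h0 : (1 : Module.End ℂ V) = 0 := by
      have := congrArg Representation.IntertwiningMap.toLinearMap hI
      simpa [I] using this
    rw [← mul_one T, h0]
    simp
  obtain ⟨c, hc⟩ := (finrank_eq_one_iff_of_nonzero' I hI).1 h1 F
  refine ⟨c, ?_⟩
  have := congrArg Representation.IntertwiningMap.toLinearMap hc
  simp only [Representation.IntertwiningMap.toLinearMap_smul] at this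
  exact this.symm

theorem norm_one_of_forall_scalar (σ : Representation ℂ G V) [Nontrivial V]
    (h : ∀ T : Module.End ℂ V, (∀ g, T * σ g = σ g * T) → ∃ c : ℂ, T = c • (1 : Module.End ℂ V)) :
    classInner σ.character σ.character = 1 := by
  rw [H12.classInner_character]
  let I : σ.IntertwiningMap σ := ⟨1, fun g => by simp [Module.End.one_eq_id]⟩
  have hI : I ≠ 0 := fun h0 => by
    have := congrArg Representation.IntertwiningMap.toLinearMap h0
    exact one_ne_zero (α := Module.End ℂ V) (by simpa [I] using this)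
  rw [(finrank_eq_one_iff_of_nonzero' I hI).2 fun F => ?_, Nat.cast_one]
  obtain ⟨c, hc⟩ := h F.toLinearMap fun g => LinearMap.ext fun v => Representation.IntertwiningMap.isIntertwining σ σ F g v
  refine ⟨c, ?_⟩
  apply Representation.IntertwiningMap.toLinearMap_injective
  simp only [Representation.IntertwiningMap.toLinearMap_smul]
  exact hc.symm

end Scalar

variable {G : Type u} [Group G] [Fintype G] (N : Subgroup G)

/-- The scalar of an integral element of the group algebra at `ψ`. -/
noncomputable def wVal (ψ : G → ℂ) (a : MonoidAlgebra ℤ G) : ℂ :=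
  (∑ g : G, (a.coeff g : ℂ) * ψ g) / ψ 1

/-- The coefficient sum. -/
def augZ (a : MonoidAlgebra ℤ G) : ℤ := ∑ g : G, a.coeff g

/-- The sum of the conjugates of `g` under `N`. -/
noncomputable def orbSum (g : G) : MonoidAlgebra ℤ G :=
  open Classical in ofFun fun x => if ∃ n ∈ N, n * g * n⁻¹ = x then 1 else 0

/-- The number of conjugates of `g` under `N`. -/
noncomputable def orbCard (g : G) : ℕ := Nat.card {x : G // ∃ n ∈ N, n * g * n⁻¹ = x}

theorem isInv_orbSum (g : G) : IsInv N (orbSum N g) := by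
  intro x h hh
  classical
  simp only [orbSum, coeff_ofFun]
  refine if_congr ⟨fun ⟨n, hn, e⟩ => ⟨h⁻¹ * n, N.mul_mem (N.inv_mem hh) hn, ?_⟩,
    fun ⟨n, hn, e⟩ => ⟨h * n, N.mul_mem hh hn, ?_⟩⟩ rfl rfl
  · rw [mul_inv_rev, inv_inv, show h⁻¹ * n * g * (n⁻¹ * h) = h⁻¹ * (n * g * n⁻¹) * h by group, e]
    group
  · rw [← e]; group

theorem augZ_orbSum (g : G) : augZ (orbSum N g) = orbCard N g := by
  classical
  simp only [augZ, orbSum, coeff_ofFun, Finset.sum_boole, orbCard]
  rw [Nat.card_eq_fintype_card, Fintype.card_subtype]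

theorem augZ_mul (a b : MonoidAlgebra ℤ G) : augZ (a * b) = augZ a * augZ b := by
  simp only [augZ, coeff_mul_group]
  rw [Finset.sum_comm, Finset.sum_mul]
  refine Finset.sum_congr rfl fun x _ => ?_
  rw [← Finset.mul_sum]
  congr 1
  exact Equiv.sum_comp (Equiv.mulLeft x⁻¹) _

variable [hN : N.Normal]

/-- Supported on one coset. -/
def OnCoset (q : G ⧸ N) (a : MonoidAlgebra ℤ G) : Prop := ∀ g : G, (g : G ⧸ N) ≠ q → a.coeff g = 0

theorem onCoset_orbSum (g : G) : OnCoset N (g : G ⧸ N) (orbSum N g) := by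
  intro x hx
  classical
  simp only [orbSum, coeff_ofFun]
  rw [if_neg]
  rintro ⟨n, hn, rfl⟩
  refine hx ?_
  rw [QuotientGroup.mk_mul, QuotientGroup.mk_mul, (QuotientGroup.eq_one_iff n).2 hn,
    (QuotientGroup.eq_one_iff n⁻¹).2 (N.inv_mem hn), one_mul, mul_one]

theorem onCoset_mul {q r : G ⧸ N} {a b : MonoidAlgebra ℤ G} (ha : OnCoset N q a)
    (hb : OnCoset N r b) : OnCoset N (q * r) (a * b) := by
  intro g hg
  rw [coeff_mul_group]
  refine Finset.sum_eq_zero fun x _ => ?_
  by_cases hx : (x : G ⧸ N) = q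
  · rw [hb (x⁻¹ * g) fun h => hg ?_, mul_zero]
    rw [← h, QuotientGroup.mk_mul, QuotientGroup.mk_inv, hx, mul_inv_cancel_left]
  · rw [ha x hx, zero_mul]

theorem isIntegral_wVal_aux {n : ℕ} (ρ : Representation ℂ G (Fin n → ℂ)) [Nontrivial (Fin n → ℂ)]
    (a : MonoidAlgebra ℤ G) {c : ℂ}
    (h : ρ.asAlgebraHom (MonoidAlgebra.mapRingHom G (Int.castRingHom ℂ) a) =
      c • (1 : Module.End ℂ (Fin n → ℂ))) : IsIntegral ℤ c := by
  let f : MonoidAlgebra ℤ G →+* Module.End ℂ (Fin n → ℂ) :=
    ρ.asAlgebraHom.toRingHom.comp (MonoidAlgebra.mapRingHom G (Int.castRingHom ℂ))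
  have h1 : IsIntegral ℤ (f a) := map_isIntegral_int f (IsIntegral.of_finite ℤ a)
  have h2 : f a = algebraMap ℂ (Module.End ℂ (Fin n → ℂ)) c := by
    rw [Algebra.algebraMap_eq_smul_one]; exact h
  rw [h2] at h1
  exact (isIntegral_algebraMap_iff
    (algebraMap ℂ (Module.End ℂ (Fin n → ℂ))).injective).1 h1

variable [Fintype N]

/-- An `N`-invariant element acts by a scalar when the restriction to `N` is irreducible. -/
theorem asAlgebraHom_eq_wVal {n : ℕ} (ρ : Representation ℂ G (Fin n → ℂ)) (θ : IrrCharacter N)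
    (hres : ∀ x : N, ρ.character x = (θ : N → ℂ) x) {a : MonoidAlgebra ℤ G} (ha : IsInv N a) :
    ρ.asAlgebraHom (MonoidAlgebra.mapRingHom G (Int.castRingHom ℂ) a) =
      wVal ρ.character a • (1 : Module.End ℂ (Fin n → ℂ)) := by
  set T := ρ.asAlgebraHom (MonoidAlgebra.mapRingHom G (Int.castRingHom ℂ) a) with hT
  have hTsum : T = ∑ g : G, (a.coeff g : ℂ) • ρ g := by
    rw [hT, asAlgebraHom_eq_avgOp]; rfl
  let σ : Representation ℂ N (Fin n → ℂ) := ρ.comp N.subtype
  have hσ : σ.character = (θ : N → ℂ) := funext fun x => hres x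
  obtain ⟨c, hc⟩ := exists_scalar_of_norm_one σ (by rw [hσ, H12.classInner_irr_self]) T fun h => by
    show T * ρ h = ρ h * T
    rw [hTsum, Finset.sum_mul, Finset.mul_sum]
    simp only [smul_mul_assoc, mul_smul_comm, ← map_mul]
    refine Fintype.sum_equiv (MulAut.conj (h : G)⁻¹).toEquiv _ _ fun g => ?_
    simp only [MulEquiv.toEquiv_eq_coe, EquivLike.coe_coe, MulAut.conj_apply]
    congr 1
    · rw [ha g _ (N.inv_mem h.2)]
    · congr 1; group
  have ht : LinearMap.trace ℂ (Fin n → ℂ) T = ∑ g : G, (a.coeff g : ℂ) * ρ.character g := by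
    rw [hTsum]; simp [map_sum, Representation.character]
  rw [hc, map_smul, LinearMap.trace_one, smul_eq_mul] at ht
  have hn : (n : ℂ) ≠ 0 := by
    have := H12.irr_apply_one_ne_zero θ
    rw [← hres 1, Subgroup.coe_one, Representation.char_one] at this
    simpa using this
  rw [hc]
  congr 1
  rw [wVal, ← ht, Representation.char_one, mul_div_assoc]
  simp [hn]

variable (ψ : IrrCharacter G) (θ : IrrCharacter N) (hres : ∀ x : N, (ψ : G → ℂ) x = (θ : N → ℂ) x)

include θ hres in
theorem isIntegral_wVal {a : MonoidAlgebra ℤ G} (ha : IsInv N a) :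
    IsIntegral ℤ (wVal (ψ : G → ℂ) a) := by
  obtain ⟨n, ρ, hρ, hψ⟩ := ψ.2
  haveI := hρ
  haveI := H12.nontrivial_of_isIrreducible ρ
  rw [← hψ]
  exact isIntegral_wVal_aux ρ a (asAlgebraHom_eq_wVal N ρ θ (by rw [hψ]; exact hres) ha)

include θ hres in
theorem wVal_mul {a b : MonoidAlgebra ℤ G} (ha : IsInv N a) (hb : IsInv N b) :
    wVal (ψ : G → ℂ) (a * b) = wVal (ψ : G → ℂ) a * wVal (ψ : G → ℂ) b := by
  obtain ⟨n, ρ, hρ, hψ⟩ := ψ.2
  haveI := hρ
  haveI := H12.nontrivial_of_isIrreducible ρ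
  rw [← hψ]
  have hres' : ∀ x : N, ρ.character x = (θ : N → ℂ) x := by rw [hψ]; exact hres
  have h1 := asAlgebraHom_eq_wVal N ρ θ hres' (ha.mul hb)
  rw [map_mul, map_mul, asAlgebraHom_eq_wVal N ρ θ hres' ha,
    asAlgebraHom_eq_wVal N ρ θ hres' hb, smul_mul_smul_comm, one_mul] at h1
  exact (smul_left_injective ℂ (one_ne_zero (α := Module.End ℂ (Fin n → ℂ))) h1).symm

variable {M : Ideal AlgInt} [hMp : M.IsPrime]

include hres in
/-- On `N` the scalar is congruent to the coefficient sum. -/
theorem redC_wVal_of_onCoset_one (hθ : θ ∈ principalBlock M N) {a : MonoidAlgebra ℤ G}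
    (ha : IsInv N a) (hs : OnCoset N 1 a) :
    redC M (wVal (ψ : G → ℂ) a) = (augZ a : k M) := by
  classical
  haveI : Fintype (ConjClasses N) := Fintype.ofFinite _
  let b : MonoidAlgebra ℂ N := ofFun fun x => (a.coeff (x : G) : ℂ)
  have hb : IsCl b := fun x c => by
    simp only [b, coeff_ofFun, Subgroup.coe_mul, Subgroup.coe_inv]
    rw [ha x _ c.2]
  have hsum : ∀ F : G → ℂ, ∑ g : G, (a.coeff g : ℂ) * F g = ∑ x : N, b.coeff x * F x := fun F => by
    refine (Finset.sum_of_injOn (fun x : N => (x : G)) Subtype.val_injective.injOn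
      (fun _ _ => Finset.mem_univ _) (fun g _ hg => ?_) (fun x _ => by simp [b])).symm
    rw [hs g fun h => hg ⟨⟨g, (QuotientGroup.eq_one_iff g).1 h⟩, by simp, rfl⟩, Int.cast_zero,
      zero_mul]
  have h1 : wVal (ψ : G → ℂ) a = omega (θ : N → ℂ) b := by
    rw [wVal, hsum, omega, show (ψ : G → ℂ) 1 = (θ : N → ℂ) 1 from hres 1]
    simp only [hres]
  have h2 : (augZ a : ℂ) = omega (H12.oneIrr N : N → ℂ) b := by
    have := hsum (fun _ => 1)
    simp only [mul_one] at this
    simp only [omega, H12.oneIrr_apply, mul_one, div_one, augZ, Int.cast_sum, this]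
  have hI : MemLocalIdeal M ((augZ a : ℂ) - wVal (ψ : G → ℂ) a) := by
    rw [h1, h2, omega_eq_sum_centralChar (H12.oneIrr N) hb, omega_eq_sum_centralChar θ hb,
      ← Finset.sum_sub_distrib]
    refine Finset.sum_induction _ (MemLocalIdeal M) (fun _ _ => memIdeal_add) memIdeal_zero
      fun C _ => ?_
    rw [← mul_sub]
    refine memIdeal_mul ?_ (hθ _)
    simp only [b, coeff_ofFun]
    exact memRing_intCast _
  rw [← (redC_eq_iff (memRing_intCast _)
    (memRing_of_isIntegral (isIntegral_wVal N ψ θ hres ha))).2 hI]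
  rw [redC_of_mem (memRing_intCast _)]
  exact map_intCast (red M) _

end H25
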