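import Cfsg.Agent.H20.FirstMain
import Cfsg.Agent.H20.DefectApps
import Cfsg.Agent.H20.BlockApps
import Cfsg.Agent.H22.DeltaInt
import Cfsg.Agent.H22.SectionOrth

/-!
# 2-blocks with defect group of order 2
-/

set_option autoImplicit false
set_option linter.style.haveILetI false
set_option linter.unusedSectionVars false

open Cfsg
open scoped ComplexConjugate

namespace H25

universe u

variable {G : Type u} [Group G] [Fintype G] {M : Ideal AlgInt}

/-- A 2-block of defect one: two characters, equal on regular and opposite on singular elements. -/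
theorem defectOne_two_block (hM : IsPModular 2 M) {B : Set (IrrCharacter G)} (hB : IsPBlock M B)
    (hd : blockDefect 2 B = 1) :
    ∃ χ ψ : IrrCharacter G, χ ≠ ψ ∧ (∀ φ, φ ∈ B ↔ φ = χ ∨ φ = ψ) ∧
      (∀ g : G, ¬ 2 ∣ orderOf g → (χ : G → ℂ) g = (ψ : G → ℂ) g) ∧
      (∀ g : G, 2 ∣ orderOf g → (ψ : G → ℂ) g = -(χ : G → ℂ) g) := by
  classical
  haveI : Fact (Nat.Prime 2) := ⟨Nat.prime_two⟩
  haveI := H20.isPrime_of_modular hM
  have hWO := H22.weakOrth_of_block hM hB
  obtain ⟨z, hz, hzm⟩ := H22.exists_isDeltaMatrix hM hB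
  have hh : ∀ φ ∈ B, blockHeight 2 B ((φ : IrrCharacter G) : G → ℂ) = 0 := fun φ hφ => by
    have := H22.blockHeight_le hM hB hφ
    omega
  obtain ⟨χ, hχ⟩ := H20.block_nonempty hB
  set F := (H22.blockFinset B).erase χ with hF
  have hk := H22.four_mul_card_le hM hB
  rw [hd, H22.natCard_block, ← Finset.card_erase_add_one (H22.mem_blockFinset.2 hχ)] at hk
  have hodd : ¬ (2 : ℤ) ∣ z χ χ := fun h => hzm.exact_zero χ hχ χ hχ (hh χ hχ) (by rw [hh χ hχ]; simpa using h)
  have hsum : ∑ φ ∈ F, z χ φ ^ 2 = 2 * z χ χ - z χ χ ^ 2 := by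
    rw [hzm.sum_erase hχ, hd]; norm_num
  have hne : F.Nonempty := by
    rw [Finset.nonempty_iff_ne_empty]
    intro h0
    rw [h0, Finset.sum_empty] at hsum
    have : z χ χ * (2 - z χ χ) = 0 := by linarith
    rcases mul_eq_zero.1 this with h | h
    · exact hodd (by rw [h]; exact dvd_zero _)
    · exact hodd ⟨1, by omega⟩
  obtain ⟨ψ, hFψ⟩ : ∃ ψ, F = {ψ} := Finset.card_eq_one.1 (by
    have := hne.card_pos
    rw [← hF] at hk
    omega)
  have hψF : ψ ∈ F := by rw [hFψ]; exact Finset.mem_singleton_self ψ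
  obtain ⟨hψχ, hψB⟩ := Finset.mem_erase.1 hψF
  rw [H22.mem_blockFinset] at hψB
  rw [hFψ, Finset.sum_singleton] at hsum
  have hb0 : z χ ψ ≠ 0 := fun h =>
    hzm.exact_zero χ hχ ψ hψB (hh ψ hψB) (by rw [hh χ hχ, h]; exact dvd_zero _)
  have hb1 : (1 : ℤ) ≤ z χ ψ ^ 2 := by
    have : 0 < z χ ψ ^ 2 := by positivity
    omega
  have ha : z χ χ = 1 := by
    have h1 : (z χ χ - 1) ^ 2 ≤ 0 := by nlinarith
    have h2 : (z χ χ - 1) ^ 2 = 0 := le_antisymm h1 (sq_nonneg _)
    have := pow_eq_zero_iff (two_ne_zero) |>.1 h2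
    omega
  have hb : z χ ψ ^ 2 = 1 := by rw [ha] at hsum; linarith
  have hBF : H22.blockFinset B = insert χ {ψ} := by
    rw [← hFψ, hF, Finset.insert_erase (H22.mem_blockFinset.2 hχ)]
  have hrel : ∀ g : G, 2 * pRegularPart 2 (χ : G → ℂ) g =
      (χ : G → ℂ) g + (z χ ψ : ℂ) * (ψ : G → ℂ) g := by
    intro g
    rw [← H22.sum_Delta_mul hWO hχ g, hBF, Finset.sum_insert (by simpa using Ne.symm hψχ),
      Finset.sum_singleton, hz χ hχ ψ, hd]
    have := hz χ hχ χ
    rw [ha, hd, pow_one, Int.cast_one] at this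
    push_cast at this ⊢
    rw [pow_one, mul_add, ← mul_assoc, ← mul_assoc, ← this, one_mul]
  have hreg : ∀ g : G, ¬ 2 ∣ orderOf g → (χ : G → ℂ) g = (z χ ψ : ℂ) * (ψ : G → ℂ) g := by
    intro g hg
    have h := hrel g
    rw [H22.pRegularPart_of_not_dvd _ hg] at h
    linear_combination h
  have hbb : z χ ψ = 1 := by
    rcases eq_or_ne (z χ ψ) 1 with h | h
    · exact h
    · exfalso
      have h1 : z χ ψ = -1 := by
        rcases sq_eq_one_iff.1 hb with h2 | h2
        · exact absurd h2 h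
        · exact h2
      have h2 := hreg 1 (by simp)
      rw [h1, H12.irr_apply_one, H12.irr_apply_one, Int.cast_neg, Int.cast_one, neg_one_mul,
        eq_neg_iff_add_eq_zero, ← Nat.cast_add, Nat.cast_eq_zero] at h2
      have := H12.irr_degree_pos χ
      omega
  refine ⟨χ, ψ, hψχ.symm, fun φ => ?_, fun g hg => ?_, fun g hg => ?_⟩
  · rw [← H22.mem_blockFinset, hBF, Finset.mem_insert, Finset.mem_singleton]
  · have := hreg g hg
    rwa [hbb, Int.cast_one, one_mul] at this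
  · have h := hrel g
    rw [H22.pRegularPart_of_dvd _ hg, hbb] at h
    push_cast at h
    linear_combination -h

theorem sum_block_pair {B : Set (IrrCharacter G)} {χ ψ : IrrCharacter G} (hne : χ ≠ ψ)
    (h : ∀ φ, φ ∈ B ↔ φ = χ ∨ φ = ψ) (f : IrrCharacter G → ℂ) :
    ∑ φ ∈ H22.blockFinset B, f φ = f χ + f ψ := by
  classical
  rw [show H22.blockFinset B = {χ, ψ} by ext φ; simp [H22.mem_blockFinset, h],
    Finset.sum_pair hne]

theorem card_block_pair {B : Set (IrrCharacter G)} {χ ψ : IrrCharacter G} (hne : χ ≠ ψ)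
    (h : ∀ φ, φ ∈ B ↔ φ = χ ∨ φ = ψ) : Nat.card B = 2 := by
  classical
  rw [H22.natCard_block, show H22.blockFinset B = {χ, ψ} by ext φ; simp [H22.mem_blockFinset, h],
    Finset.card_pair hne]

theorem blockDefect_eq_one (hM : IsPModular 2 M) {B : Set (IrrCharacter G)} (hB : IsPBlock M B)
    {D : Subgroup G} (hD : IsDefectGroup 2 M B D) (hc : Nat.card D = 2) : blockDefect 2 B = 1 := by
  haveI : Fact (Nat.Prime 2) := ⟨Nat.prime_two⟩
  haveI := H20.isPrime_of_modular hM
  have h := H22.card_isDefectGroup hM hB hD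
  rw [hc] at h
  exact (Nat.pow_right_injective le_rfl (show 2 ^ 1 = 2 ^ _ by rw [pow_one]; exact h)).symm

theorem first_main_unique_of_eq {p : ℕ} (hM : IsPModular p M) {D H : Subgroup G} (hD : IsPGroup p D)
    (hH : H = Subgroup.normalizer (D : Set G)) {B : Set (IrrCharacter G)} (hBD : IsDefectGroup p M B D)
    {b b' : Set (IrrCharacter H)} (hind : IsInducedBlock M H b B)
    (hind' : IsInducedBlock M H b' B) :
    b = b' ∧ IsDefectGroup p M b (D.subgroupOf H) := by
  subst hH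
  haveI : Fact p.Prime := ⟨hM.1⟩
  haveI := H20.isPrime_of_modular hM
  haveI : Fintype (Subgroup.normalizer (D : Set G)) := Fintype.ofFinite _
  have h := H20.defectGroup_of_induced hM hD hBD hind
  exact ⟨H20.first_main_unique hM hD h hind hind', h⟩

theorem normalizer_zpowers_involution {x : G} (hx : orderOf x = 2) :
    Subgroup.centralizer ({x} : Set G) = Subgroup.normalizer (Subgroup.zpowers x : Set G) := by
  apply le_antisymm
  · intro g hg
    rw [Subgroup.mem_normalizer_iff]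
    intro y
    have hgx : ∀ w ∈ Subgroup.zpowers x, g * w * g⁻¹ = w := by
      rintro w ⟨k, rfl⟩
      have hc : Commute g x := Subgroup.mem_centralizer_singleton_iff.1 hg
      rw [(hc.zpow_right k).eq, mul_inv_cancel_right]
    constructor
    · intro hy; rw [hgx y hy]; exact hy
    · intro hy
      have h := hgx _ hy
      have h2 : g * y * g⁻¹ = y := mul_left_cancel (mul_right_cancel h : g * (g * y * g⁻¹) = g * y)
      rwa [h2] at hy
  · intro g hg
    have h := (Subgroup.mem_normalizer_iff.1 hg x).1 (Subgroup.mem_zpowers x)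
    obtain ⟨k, hk⟩ := h
    simp only at hk
    rw [← zpow_mod_orderOf x k, hx] at hk
    have hx1 : x ≠ 1 := fun h => by rw [h, orderOf_one] at hx; omega
    have hk1 : x = g * x * g⁻¹ := by
      rcases (by omega : k % ((2 : ℕ) : ℤ) = 0 ∨ k % ((2 : ℕ) : ℤ) = 1) with h0 | h0
      · rw [h0, zpow_zero] at hk
        exact absurd (conj_eq_one_iff.1 hk.symm) hx1
      · rwa [h0, zpow_one] at hk
    rw [Subgroup.mem_centralizer_singleton_iff]
    exact eq_mul_inv_iff_mul_eq.1 hk1 |>.symm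

/-- The values of a 2-block with defect group of order 2 on the section of the involution. -/
theorem two_block_section (hM : IsPModular 2 M) {x : G} (hx : orderOf x = 2)
    {B : Set (IrrCharacter G)} (hB : IsPBlock M B)
    (hBD : IsDefectGroup 2 M B (Subgroup.zpowers x))
    {b : Set (IrrCharacter ↥(Subgroup.centralizer ({x} : Set G)))}
    (hb : IsInducedBlock M (Subgroup.centralizer ({x} : Set G)) b B)
    {θ : IrrCharacter ↥(Subgroup.centralizer ({x} : Set G))} (hθ : θ ∈ b) :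
    Nat.card B = 2 ∧ (∀ χ ∈ B, ∀ ψ ∈ B, ∀ g : G, ¬ 2 ∣ orderOf g → (χ : G → ℂ) g = (ψ : G → ℂ) g) ∧
      ∃ χ₁ ∈ B, ∃ χ₂ ∈ B, χ₁ ≠ χ₂ ∧ ∃ ε₁ ε₂ : ℤ, (ε₁ = 1 ∨ ε₁ = -1) ∧ (ε₂ = 1 ∨ ε₂ = -1) ∧
        ε₁ * ε₂ = -1 ∧
        ∀ y : ↥(Subgroup.centralizer ({x} : Set G)), ¬ 2 ∣ orderOf y →
          (χ₁ : G → ℂ) (x * y) = (ε₁ : ℂ) * (θ : _ → ℂ) y ∧
          (χ₂ : G → ℂ) (x * y) = (ε₂ : ℂ) * (θ : _ → ℂ) y := by
  classical
  haveI : Fact (Nat.Prime 2) := ⟨Nat.prime_two⟩
  haveI := H20.isPrime_of_modular hM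
  haveI : Fintype ↥(Subgroup.centralizer ({x} : Set G)) := Fintype.ofFinite _
  have hcardx : Nat.card (Subgroup.zpowers x) = 2 := by rw [Nat.card_zpowers, hx]
  have hDp : IsPGroup 2 (Subgroup.zpowers x) := IsPGroup.of_card (n := 1) (by rw [hcardx, pow_one])
  have hNC : (Subgroup.centralizer ({x} : Set G)) = Subgroup.normalizer (Subgroup.zpowers x : Set G) := normalizer_zpowers_involution hx
  obtain ⟨χ, ψ, hne, hmem, hreg, hsing⟩ :=
    defectOne_two_block hM hB (blockDefect_eq_one hM hB hBD hcardx)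
  have hbdef := (first_main_unique_of_eq hM hDp hNC hBD hb hb).2
  have hbd : blockDefect 2 b = 1 := by
    refine blockDefect_eq_one hM hb.1 hbdef ?_
    rw [Nat.card_congr (Subgroup.subgroupOfEquivOfLe (show Subgroup.zpowers x ≤ (Subgroup.centralizer ({x} : Set G)) from
      Subgroup.zpowers_le.2 (Subgroup.mem_centralizer_singleton_iff.2 rfl))).toEquiv, hcardx]
  obtain ⟨θ₁, θ₂, hθne, hθmem, hθreg, -⟩ := defectOne_two_block hM hb.1 hbd
  haveI : Fintype {b : Set (IrrCharacter ↥(Subgroup.centralizer ({x} : Set G))) // IsInducedBlock M (Subgroup.centralizer ({x} : Set G)) b B} := Fintype.ofFinite _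
  have hsum : ∀ y y' : ↥(Subgroup.centralizer ({x} : Set G)), ¬ 2 ∣ orderOf y → ¬ 2 ∣ orderOf y' →
      (χ : G → ℂ) (x * y) * conj ((χ : G → ℂ) (x * y')) =
        (θ : ↥(Subgroup.centralizer ({x} : Set G)) → ℂ) y * conj ((θ : ↥(Subgroup.centralizer ({x} : Set G)) → ℂ) y') := by
    intro y y' hy hy'
    have h := H22.Sub.section_orth hM hB (x := x) ⟨1, by rw [hx, pow_one]⟩ y y' hy hy'
    rw [sum_block_pair hne hmem, Fintype.sum_eq_single (⟨b, hb⟩ : {b : Set (IrrCharacter ↥(Subgroup.centralizer ({x} : Set G))) //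
      IsInducedBlock M (Subgroup.centralizer ({x} : Set G)) b B}) (fun b' hb' => absurd (Subtype.ext
        (first_main_unique_of_eq hM hDp hNC hBD b'.2 hb).1) hb'),
      sum_block_pair hθne hθmem] at h
    have hsg : ∀ w : ↥(Subgroup.centralizer ({x} : Set G)), ¬ 2 ∣ orderOf w → 2 ∣ orderOf (x * (w : G)) := by
      intro w hw
      have hc : Commute x (w : G) :=
        (Subgroup.mem_centralizer_singleton_iff.1 w.2 : (w : G) * x = x * w).symm
      rw [hc.orderOf_mul_eq_mul_orderOf_of_coprime, hx]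
      · exact dvd_mul_right 2 _
      · rw [hx, Subgroup.orderOf_coe]
        exact (Nat.prime_two.coprime_iff_not_dvd).2 hw
    have hθy : ∀ w : ↥(Subgroup.centralizer ({x} : Set G)), ¬ 2 ∣ orderOf w →
        (θ₁ : ↥(Subgroup.centralizer ({x} : Set G)) → ℂ) w = (θ : ↥(Subgroup.centralizer ({x} : Set G)) → ℂ) w ∧ (θ₂ : ↥(Subgroup.centralizer ({x} : Set G)) → ℂ) w = (θ : ↥(Subgroup.centralizer ({x} : Set G)) → ℂ) w := by
      intro w hw
      rcases (hθmem θ).1 hθ with rfl | rfl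
      · exact ⟨rfl, (hθreg w hw).symm⟩
      · exact ⟨hθreg w hw, rfl⟩
    rw [hsing _ (hsg y hy), hsing _ (hsg y' hy'), map_neg, (hθy y hy).1, (hθy y hy).2,
      (hθy y' hy').1, (hθy y' hy').2] at h
    linear_combination h / 2
  have h1 : ¬ 2 ∣ orderOf (1 : ↥(Subgroup.centralizer ({x} : Set G))) := by simp
  obtain ⟨n, hn, -⟩ := H20.irr_involution χ hx
  have hχx : (χ : G → ℂ) (x * ((1 : ↥(Subgroup.centralizer ({x} : Set G))) : G)) = (n : ℂ) := by simpa using hn
  have hθ1 : (θ : ↥(Subgroup.centralizer ({x} : Set G)) → ℂ) 1 = (charDegree (θ : ↥(Subgroup.centralizer ({x} : Set G)) → ℂ) : ℂ) := H12.irr_apply_one θ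
  set f := charDegree (θ : ↥(Subgroup.centralizer ({x} : Set G)) → ℂ) with hf
  have hfpos : 0 < f := H12.irr_degree_pos θ
  have hnf : n = (f : ℤ) ∨ n = -(f : ℤ) := by
    have h := hsum 1 1 h1 h1
    rw [hχx, hθ1, map_intCast, map_natCast] at h
    exact mul_self_eq_mul_self_iff.1 (by exact_mod_cast h)
  obtain ⟨ε, hε, hnε⟩ : ∃ ε : ℤ, (ε = 1 ∨ ε = -1) ∧ n = ε * f := by
    rcases hnf with h | h
    · exact ⟨1, Or.inl rfl, by rw [h, one_mul]⟩
    · exact ⟨-1, Or.inr rfl, by rw [h, neg_one_mul]⟩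
  have hε2 : (ε : ℂ) * (ε : ℂ) = 1 := by rcases hε with rfl | rfl <;> norm_num
  refine ⟨card_block_pair hne hmem, fun φ hφ φ' hφ' g hg => ?_, χ, (hmem χ).2 (Or.inl rfl), ψ,
    (hmem ψ).2 (Or.inr rfl), hne, ε, -ε, hε, ?_, ?_, fun y hy => ?_⟩
  · rcases (hmem φ).1 hφ with rfl | rfl <;> rcases (hmem φ').1 hφ' with rfl | rfl <;>
      simp [hreg g hg]
  · rcases hε with rfl | rfl <;> norm_num
  · rcases hε with rfl | rfl <;> norm_num
  · have h := hsum y 1 hy h1
    rw [hχx, hnε, hθ1, map_intCast, map_natCast, Int.cast_mul, Int.cast_natCast] at h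
    have hf0 : (f : ℂ) ≠ 0 := Nat.cast_ne_zero.2 hfpos.ne'
    have hval : (χ : G → ℂ) (x * y) = (ε : ℂ) * (θ : ↥(Subgroup.centralizer ({x} : Set G)) → ℂ) y := by
      apply mul_right_cancel₀ hf0
      linear_combination (ε : ℂ) * h - (χ : G → ℂ) (x * y) * (f : ℂ) * hε2
    refine ⟨hval, ?_⟩
    have hsg : 2 ∣ orderOf (x * (y : G)) := by
      have hc : Commute x (y : G) :=
        (Subgroup.mem_centralizer_singleton_iff.1 y.2 : (y : G) * x = x * y).symm
      rw [hc.orderOf_mul_eq_mul_orderOf_of_coprime, hx]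
      · exact dvd_mul_right 2 _
      · rw [hx, Subgroup.orderOf_coe]
        exact (Nat.prime_two.coprime_iff_not_dvd).2 hy
    rw [hsing _ hsg, hval, Int.cast_neg, neg_mul]

end H25
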