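import Mathlib

/-!
# Short vectors for five squares divisible by a prime

A binary Hermitian form of determinant one over the Lipschitz quaternions with an odd diagonal
entry represents one. Applied to the form of the pairs `(u, v)` with `u ≡ δ v (mod p)` this gives
`|u|² + |v|² = p`, so that `|v|² (1, δ) ≡ (|v|², u v̄)` is short.
-/

set_option autoImplicit false

open Quaternion

namespace H25.FiveSquares

/-- The centred residue. -/
theorem exists_centred (x : ℤ) {a : ℤ} (ha : 0 < a) : ∃ q : ℤ, (2 * (x - a * q)) ^ 2 ≤ a ^ 2 := by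
  by_cases h : 2 * (x % a) ≤ a
  · refine ⟨x / a, ?_⟩
    have h0 := Int.emod_nonneg x ha.ne'
    have h1 : x - a * (x / a) = x % a := by linarith [Int.mul_ediv_add_emod x a]
    rw [h1]; nlinarith
  · refine ⟨x / a + 1, ?_⟩
    have h0 := Int.emod_lt_of_pos x ha
    have h1 : x - a * (x / a + 1) = x % a - a := by linarith [Int.mul_ediv_add_emod x a]
    rw [h1]; nlinarith

/-- The determinant is kept by a shear. -/
theorem det_shear (a c : ℤ) (b q : ℍ[ℤ]) :
    a * (c - 2 * (star q * b).re + a * normSq q) - normSq (b - a • q) = a * c - normSq b := by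
  simp [Quaternion.normSq_def', Quaternion.re_mul]
  ring

/-- The values after a shear. -/
theorem value_shear (a c : ℤ) (b q v w : ℍ[ℤ]) :
    a * normSq (v - q * w) + 2 * (star (v - q * w) * b * w).re + c * normSq w =
      a * normSq v + 2 * (star v * (b - a • q) * w).re +
        (c - 2 * (star q * b).re + a * normSq q) * normSq w := by
  simp [Quaternion.normSq_def', Quaternion.re_mul, Quaternion.imI_mul, Quaternion.imJ_mul,
    Quaternion.imK_mul]
  ring

/-- A binary Hermitian form of determinant one with an odd diagonal entry represents one. -/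
theorem exists_eq_one : ∀ (n : ℕ) (a c : ℤ) (b : ℍ[ℤ]), 0 < a → 0 < c → a + c ≤ n →
    a * c - normSq b = 1 → (Odd a ∨ Odd c) →
    ∃ v w : ℍ[ℤ], a * normSq v + 2 * (star v * b * w).re + c * normSq w = 1 := by
  intro n
  induction n using Nat.strong_induction_on with
  | _ n ih =>
  have key : ∀ (a c : ℤ) (b : ℍ[ℤ]), 0 < a → a ≤ c → a + c ≤ n →
      a * c - normSq b = 1 → (Odd a ∨ Odd c) →
      ∃ v w : ℍ[ℤ], a * normSq v + 2 * (star v * b * w).re + c * normSq w = 1 := by
    intro a c b ha hac hn hdet hodd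
    rcases (show a = 1 ∨ 2 ≤ a by omega) with rfl | ha2
    · exact ⟨1, 0, by simp⟩
    obtain ⟨q₀, h₀⟩ := exists_centred b.re ha
    obtain ⟨q₁, h₁⟩ := exists_centred b.imI ha
    obtain ⟨q₂, h₂⟩ := exists_centred b.imJ ha
    obtain ⟨q₃, h₃⟩ := exists_centred b.imK ha
    obtain ⟨q, e₀, e₁, e₂, e₃⟩ : ∃ q : ℍ[ℤ], q.re = q₀ ∧ q.imI = q₁ ∧ q.imJ = q₂ ∧ q.imK = q₃ :=
      ⟨⟨q₀, q₁, q₂, q₃⟩, rfl, rfl, rfl, rfl⟩
    set r : ℤ := (star q * b).re with hr
    set c' : ℤ := c - 2 * r + a * normSq q with hc'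
    set b' : ℍ[ℤ] := b - a • q with hb'
    have hdet' : a * c' - normSq b' = 1 := (det_shear a c b q).trans hdet
    have hN : normSq b' = (b.re - a * q₀) ^ 2 + (b.imI - a * q₁) ^ 2 + (b.imJ - a * q₂) ^ 2 +
        (b.imK - a * q₃) ^ 2 := by
      rw [hb', ← e₀, ← e₁, ← e₂, ← e₃]
      simp [Quaternion.normSq_def']
    have hN0 : 0 ≤ normSq b' := by rw [hN]; positivity
    have hc'0 : 0 < c' := by
      rcases le_or_gt c' 0 with h | h
      · have := mul_nonpos_of_nonneg_of_nonpos ha.le h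
        linarith
      · exact h
    have hlt : c' < a := by
      by_contra hge
      rw [mul_pow] at h₀ h₁ h₂ h₃
      norm_num at h₀ h₁ h₂ h₃
      have hle : normSq b' ≤ a ^ 2 := by rw [hN]; linarith
      have hc'a : c' = a := by
        by_contra hne
        have := mul_le_mul_of_nonneg_left (show a + 1 ≤ c' by omega) ha.le
        rw [mul_add, mul_one, ← sq] at this
        linarith
      rcases Int.even_or_odd a with he | ho
      · have hco : Odd c := hodd.resolve_left (Int.not_odd_iff_even.2 he)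
        have : Odd c' := by
          rw [hc']
          exact (hco.sub_even (even_two_mul r)).add_even (he.mul_right _)
        rw [hc'a] at this
        exact Int.not_odd_iff_even.2 he this
      · obtain ⟨m, hm⟩ := ho
        have hb : ∀ z : ℤ, 4 * z ^ 2 ≤ a ^ 2 → z ^ 2 ≤ m ^ 2 := fun z hz => by
          have h5 : (2 * |z|) ^ 2 ≤ a ^ 2 := by rw [mul_pow, sq_abs]; linarith
          have h6 := abs_le_of_sq_le_sq h5 ha.le
          rw [abs_of_nonneg (by positivity)] at h6
          rw [← sq_abs z]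
          exact pow_le_pow_left₀ (abs_nonneg z) (by omega) 2
        have := hb _ h₀
        have := hb _ h₁
        have := hb _ h₂
        have := hb _ h₃
        have hsq : a * c' = 4 * m ^ 2 + 4 * m + 1 := by rw [hc'a, hm]; ring
        have : 1 ≤ m := by omega
        linarith
    obtain ⟨k, hk⟩ : ∃ k : ℕ, a + c' = k := ⟨(a + c').toNat, (Int.toNat_of_nonneg (by omega)).symm⟩
    have hodd' : Odd a ∨ Odd c' := by
      rcases Int.even_or_odd a with he | ho
      · exact Or.inr (by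
          rw [hc']
          exact ((hodd.resolve_left (Int.not_odd_iff_even.2 he)).sub_even
            (even_two_mul r)).add_even (he.mul_right _))
      · exact Or.inl ho
    obtain ⟨v, w, h⟩ := ih k (by omega) a c' b' ha hc'0 hk.le hdet' hodd'
    exact ⟨v - q * w, w, (value_shear a c b q v w).trans h⟩
  intro a c b ha hc hn hdet hodd
  rcases le_total a c with h | h
  · exact key a c b ha h hn hdet hodd
  · obtain ⟨v, w, e⟩ := key c a (star b) hc h (by omega)
      (by rw [Quaternion.normSq_star]; linarith) hodd.symm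
    refine ⟨w, v, Eq.trans ?_ e⟩
    simp [Quaternion.re_mul, Quaternion.imI_mul, Quaternion.imJ_mul, Quaternion.imK_mul]
    ring

/-- If an odd prime divides `1 + e₀² + e₁² + e₂² + e₃²`, some multiple of `(1, e₀, e₁, e₂, e₃)` has
a representative of square norm exactly `p` times its first coordinate. -/
theorem exists_short {p : ℕ} (hp : p.Prime) (hp2 : p ≠ 2) {e₀ e₁ e₂ e₃ : ℤ}
    (h : (p : ℤ) ∣ 1 + e₀ ^ 2 + e₁ ^ 2 + e₂ ^ 2 + e₃ ^ 2) :
    ∃ μ r₀ r₁ r₂ r₃ : ℤ, ¬ (p : ℤ) ∣ μ ∧ (p : ℤ) ∣ μ * e₀ - r₀ ∧ (p : ℤ) ∣ μ * e₁ - r₁ ∧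
      (p : ℤ) ∣ μ * e₂ - r₂ ∧ (p : ℤ) ∣ μ * e₃ - r₃ ∧
      μ ^ 2 + r₀ ^ 2 + r₁ ^ 2 + r₂ ^ 2 + r₃ ^ 2 = p * μ := by
  obtain ⟨δ, hδ⟩ : ∃ δ : ℍ[ℤ], δ.re = e₀ ∧ δ.imI = e₁ ∧ δ.imJ = e₂ ∧ δ.imK = e₃ :=
    ⟨⟨e₀, e₁, e₂, e₃⟩, rfl, rfl, rfl, rfl⟩
  obtain ⟨rfl, rfl, rfl, rfl⟩ := hδ
  have hNδ : normSq δ = δ.re ^ 2 + δ.imI ^ 2 + δ.imJ ^ 2 + δ.imK ^ 2 :=
    Quaternion.normSq_def' ..
  obtain ⟨a, ha⟩ := h
  have hp0 : (0 : ℤ) < p := by exact_mod_cast hp.pos
  have hodd : Odd (p : ℤ) := by exact_mod_cast hp.odd_of_ne_two hp2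
  have ha0 : 0 < a := by nlinarith
  obtain ⟨v, w, hvw⟩ := exists_eq_one (a + p).toNat a p (star δ) ha0 hp0
    (Int.toNat_of_nonneg (by omega)).ge (by rw [Quaternion.normSq_star, hNδ]; linarith) (Or.inr hodd)
  set u : ℍ[ℤ] := δ * v + (p : ℍ[ℤ]) * w with hu
  have hval : normSq u + normSq v = (p : ℤ) := by
    have e : normSq u + normSq v =
        (p : ℤ) * (2 * (star v * star δ * w).re + (p : ℤ) * normSq w) +
          ((p : ℤ) * a) * normSq v := by
      rw [← ha, hu]
      simp [Quaternion.normSq_def', Quaternion.re_mul, Quaternion.imI_mul, Quaternion.imJ_mul,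
        Quaternion.imK_mul]
      ring
    rw [e]
    linear_combination (p : ℤ) * hvw
  set μ : ℤ := normSq v with hμ
  set r : ℍ[ℤ] := u * star v with hr
  set s : ℍ[ℤ] := w * star v with hs
  have hrs : r = ((μ : ℤ) : ℍ[ℤ]) * δ + (p : ℍ[ℤ]) * s := by
    rw [hr, hs, hu, add_mul, mul_assoc, mul_assoc, Quaternion.self_mul_star, hμ]
    congr 1
    rw [← Quaternion.coe_intCast, Quaternion.coe_commutes]
    simp
  have hμp : ¬ (p : ℤ) ∣ μ := by
    intro hd
    have hu0 : 0 ≤ normSq u := Quaternion.normSq_nonneg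
    have hv0 : 0 ≤ μ := Quaternion.normSq_nonneg
    obtain ⟨j, hj⟩ := hd
    have hj0 : 0 ≤ j := by nlinarith
    have hj1 : j ≤ 1 := by nlinarith
    rcases (show j = 0 ∨ j = 1 by omega) with rfl | rfl
    · have hv : v = 0 := Quaternion.normSq_eq_zero.1 (by rw [← hμ, hj, mul_zero])
      rw [hu, hv, mul_zero, zero_add, map_mul, Quaternion.normSq_natCast, hj, mul_zero, add_zero]
        at hval
      have h1 : (p : ℤ) * normSq w = 1 := by
        apply mul_left_cancel₀ hp0.ne'
        linear_combination hval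
      exact hp.ne_one (Nat.dvd_one.1 (by exact_mod_cast Dvd.intro _ h1))
    · rw [mul_one] at hj
      have hu' : δ * v = -((p : ℍ[ℤ]) * w) :=
        eq_neg_of_add_eq_zero_left (Quaternion.normSq_eq_zero.1 (by rw [← hu]; omega))
      have h2 := congrArg normSq hu'
      rw [map_mul, Quaternion.normSq_neg, map_mul, Quaternion.normSq_natCast, ← hμ, hj] at h2
      have h3 : normSq δ = (p : ℤ) * normSq w := by
        apply mul_left_cancel₀ hp0.ne'
        linear_combination h2
      have h4 : (p : ℤ) ∣ 1 := ⟨a - normSq w, by linear_combination ha - h3 + hNδ⟩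
      exact hp.ne_one (Nat.dvd_one.1 (by exact_mod_cast h4))
  have hnorm : normSq r = normSq u * μ := by rw [hr, map_mul, Quaternion.normSq_star, hμ]
  refine ⟨μ, r.re, r.imI, r.imJ, r.imK, hμp, ⟨-s.re, ?_⟩, ⟨-s.imI, ?_⟩, ⟨-s.imJ, ?_⟩,
    ⟨-s.imK, ?_⟩, ?_⟩
  iterate 4
    · rw [hrs]
      simp [Quaternion.re_mul, Quaternion.imI_mul, Quaternion.imJ_mul, Quaternion.imK_mul]
  rw [Quaternion.normSq_def'] at hnorm
  linear_combination hnorm + μ * hval

end H25.FiveSquares
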