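import Cfsg.Agent.H25.FourHeight
import Cfsg.Agent.H25.FiveSquares
import Cfsg.Agent.S0960

/-!
# At most five characters of height zero in the principal block at an odd prime
-/

set_option autoImplicit false
set_option linter.unusedSectionVars false
set_option linter.style.haveILetI false

open Cfsg

namespace H25.FiveHeight

universe u

/-- The centred residue is the smallest one. -/
theorem cres_sq_le {q x r : ℤ} (hq : 0 < q) (h : q ∣ x - r) :
    H25.FourArith.cres x q ^ 2 ≤ r ^ 2 := by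
  obtain ⟨k, hk⟩ := dvd_sub (H25.FourArith.dvd_sub_cres x q) h
  have h0 := Int.emod_nonneg x hq.ne'
  have h1 := Int.emod_lt_of_pos x hq
  have hb : -q ≤ 2 * H25.FourArith.cres x q ∧ 2 * H25.FourArith.cres x q ≤ q := by
    rw [H25.FourArith.cres]
    split_ifs <;> omega
  rcases lt_trichotomy k 0 with hk0 | rfl | hk0
  · have : q * k ≤ -q := by
      have := mul_le_mul_of_nonneg_left (show k ≤ -1 by omega) hq.le
      linarith
    rw [sq_le_sq]
    rw [abs_le]
    have := le_abs_self r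
    have := neg_abs_le r
    constructor <;> omega
  · rw [mul_zero] at hk
    rw [show r = H25.FourArith.cres x q by linarith]
  · have : q ≤ q * k := le_mul_of_one_le_right hq.le hk0
    rw [sq_le_sq]
    rw [abs_le]
    have := le_abs_self r
    have := neg_abs_le r
    constructor <;> omega

/-- At most four residues completing `1` to an isotropic vector have a short multiple. -/
theorem exists_short {ι : Type*} {p : ℕ} (hp : p.Prime) (hp2 : p ≠ 2) (s : Finset ι)
    (hs : s.card ≤ 4) (f : ι → ℤ) (h : (p : ℤ) ∣ 1 + ∑ x ∈ s, f x ^ 2) :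
    ∃ μ : ℤ, ¬ (p : ℤ) ∣ μ ∧
      μ ^ 2 + ∑ x ∈ s, H25.FourArith.cres (μ * f x) p ^ 2 ≤ p * μ := by
  classical
  have hq : (0 : ℤ) < p := by exact_mod_cast hp.pos
  obtain ⟨g, hg⟩ : ∃ g : Fin 4 → ℤ, ∀ F : ℤ → ℤ, F 0 = 0 →
      ∑ x ∈ s, F (f x) = F (g 0) + F (g 1) + F (g 2) + F (g 3) := by
    rcases (show s.card = 0 ∨ s.card = 1 ∨ s.card = 2 ∨ s.card = 3 ∨ s.card = 4 by omega) with
      h | h | h | h | h
    · exact ⟨fun _ => 0, fun F hF => by simp [Finset.card_eq_zero.1 h, hF]⟩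
    · obtain ⟨a, rfl⟩ := Finset.card_eq_one.1 h
      exact ⟨![f a, 0, 0, 0], fun F hF => by simp [hF]⟩
    · obtain ⟨a, b, hab, rfl⟩ := Finset.card_eq_two.1 h
      exact ⟨![f a, f b, 0, 0], fun F hF => by simp [hF, hab]⟩
    · obtain ⟨a, b, c, hab, hac, hbc, rfl⟩ := Finset.card_eq_three.1 h
      exact ⟨![f a, f b, f c, 0], fun F hF => by simp [hF, hab, hac, hbc, add_assoc]⟩
    · obtain ⟨a, b, c, d, hab, hac, had, hbc, hbd, hcd, rfl⟩ := Finset.card_eq_four.1 h
      exact ⟨![f a, f b, f c, f d], fun F _ => by simp [hab, hac, had, hbc, hbd, hcd, add_assoc]⟩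
  rw [hg (fun t => t ^ 2) (by norm_num)] at h
  obtain ⟨μ, r₀, r₁, r₂, r₃, hμ, h₀, h₁, h₂, h₃, he⟩ :=
    H25.FiveSquares.exists_short hp hp2 (e₀ := g 0) (e₁ := g 1) (e₂ := g 2) (e₃ := g 3)
      (by simpa [add_assoc] using h)
  refine ⟨μ, hμ, ?_⟩
  rw [hg (fun t => H25.FourArith.cres (μ * t) p ^ 2) (by simp [H25.FourArith.cres])]
  have := cres_sq_le hq h₀
  have := cres_sq_le hq h₁
  have := cres_sq_le hq h₂
  have := cres_sq_le hq h₃
  linarith

variable {G : Type u} [Group G] [Fintype G] {p : ℕ} [hp : Fact p.Prime] {M : Ideal AlgInt}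

open H25.HeightTwoThree

/-- `p` divides the sum of the squared degrees of the height zero characters. -/
theorem dvd_sum_sq [M.IsPrime] (hM : IsPModular p M) (hdvd : p ∣ Nat.card G) :
    (p : ℤ) ∣ ∑ φ ∈ zeroSet p M G, (charDegree (φ : G → ℂ) : ℤ) ^ 2 := by
  refine dvd_of_eq_sum hM hdvd (fun φ => (charDegree (φ : G → ℂ) : ℤ)) (fun φ _ => by simp) 1 ?_
  push_cast
  exact Finset.sum_congr rfl fun φ _ => by rw [H22.irr_one_eq_charDegree, sq]

/-- At most five height zero characters at an odd prime force a Sylow subgroup of order `p`. -/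
theorem card_eq_of_le_five [M.IsPrime] (hM : IsPModular p M) (P : Sylow p G)
    (hdvd : p ∣ Nat.card G) (hp2 : p ≠ 2) (hk : (zeroSet p M G).card ≤ 5) :
    Nat.card P = p := by
  classical
  refine le_antisymm ?_ (Nat.le_of_dvd Nat.card_pos (P.dvd_card_of_dvd_card hdvd))
  have h := dvd_sum_sq hM hdvd
  rw [← Finset.add_sum_erase _ _ (one_mem (p := p) (M := M))] at h
  rw [show charDegree (H12.oneIrr G : G → ℂ) = 1 by simp [Cfsg.charDegree, H12.oneIrr_apply],
    Nat.cast_one, one_pow] at h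
  obtain ⟨μ, hμ, hle⟩ := exists_short hp.out hp2 ((zeroSet p M G).erase (H12.oneIrr G))
    (by rw [Finset.card_erase_of_mem (one_mem (p := p) (M := M))]; omega) _ h
  exact H25.FourHeight.card_le_of_weight hM P hdvd μ (fun n => H25.FourArith.cres (μ * (n : ℤ)) p)
    hμ (fun φ _ _ => H25.FourArith.dvd_sub_cres _ _) hle

/-- A nonzero remainder. -/
theorem not_dvd_of_degree {e : ℕ} (he : e ∣ p - 1) {d : ℕ}
    (h : (d : ℤ) ≡ 1 [ZMOD p] ∨ (d : ℤ) ≡ -1 [ZMOD p] ∨ (d : ℤ) ≡ (e : ℤ) [ZMOD p] ∨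
      (d : ℤ) ≡ -(e : ℤ) [ZMOD p]) : ¬ p ∣ d := by
  intro hd
  have hd' : (p : ℤ) ∣ (d : ℤ) := by exact_mod_cast hd
  have h2 := hp.out.two_le
  have he0 : 0 < e := Nat.pos_of_dvd_of_pos he (by omega)
  have hep := Nat.le_of_dvd (by omega) he
  have key : ∀ t : ℤ, (d : ℤ) ≡ t [ZMOD p] → (p : ℤ) ∣ t := fun t ht => by
    have := dvd_add ht.dvd hd'
    simpa using this
  have n1 : ¬ (p : ℤ) ∣ 1 := fun h => hp.out.ne_one (Nat.dvd_one.1 (by exact_mod_cast h))
  have n2 : ¬ (p : ℤ) ∣ (e : ℤ) := fun h => by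
    have := Nat.le_of_dvd he0 (by exact_mod_cast h)
    omega
  rcases h with h | h | h | h
  exacts [n1 (key _ h), n1 (dvd_neg.1 (key _ h)), n2 (key _ h), n2 (dvd_neg.1 (key _ h))]

/-- The height zero characters for a Sylow subgroup of odd prime order. -/
theorem card_of_prime [M.IsPrime] (hM : IsPModular p M) (hp2 : p ≠ 2) (P : Sylow p G)
    (hP : Nat.card P = p) (e : ℕ)
    (he : (Subgroup.centralizer ((P : Subgroup G) : Set G)).relIndex
      (Subgroup.normalizer ((P : Subgroup G) : Set G)) = e) :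
    (zeroSet p M G).card = e + (p - 1) / e ∧ e ∣ p - 1 := by
  classical
  have hd := H20.PrimeSylow.exists_autG_dvd (P := P) hP
  rw [H20.card_autG, he] at hd
  obtain ⟨hc, hdeg⟩ := Cfsg.Agent.S0960.result p M hM hp2 P hP e he
  refine ⟨?_, hd⟩
  rw [← hc, H22.natCard_block]
  congr 1
  ext φ
  rw [mem_zeroSet, H22.mem_blockFinset]
  exact ⟨fun h => h.1, fun h => ⟨h, not_dvd_of_degree hd (hdeg φ h)⟩⟩

end H25.FiveHeight
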