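import Cfsg.Agent.H25.Indicator

/-!
A real irreducible character whose restriction to a subgroup contains the trivial character an odd
number of times has indicator one.
-/

set_option autoImplicit false
set_option linter.style.haveILetI false

open Cfsg Matrix
open scoped ComplexConjugate

namespace H25

universe u

variable {G : Type u} [Group G] [Fintype G]

/-- An invariant alternating unit form cannot live on an odd-dimensional fixed space. -/
theorem fsInd_eq_one_of_odd_fixed (χ : IrrCharacter G) (hreal : ∀ g, ((χ : G → ℂ) g).im = 0)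
    (S : Subgroup G) [Fintype S] (s : ℕ) (hs : Odd s)
    (hsum : ∑ x : S, (χ : G → ℂ) x = (Nat.card S : ℂ) * s) :
    H17.fsInd (χ : G → ℂ) = 1 := by
  classical
  obtain ⟨n, ρ, hρ, hχρ⟩ := χ.2
  set X := H17.rmat ρ with hX
  have htr : (fun g => (X g).trace) = (χ : G → ℂ) := funext fun g => by
    rw [H17.trace_rmat, hχρ]
  have hd := H17.finrank_invForms_of_real ρ hρ (by rw [hχρ]; exact hreal)
  have hnb : H17.invForms X ≠ ⊥ := fun h => by rw [h, finrank_bot] at hd; exact zero_ne_one hd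
  obtain ⟨J, hJ, hJ0⟩ := Submodule.exists_mem_ne_zero_of_ne_bot hnb
  have hJu := H17.isUnit_of_mem_invForms ρ hρ hJ hJ0
  have hT := H17.transpose_eq_fsInd_smul X hd hJ
  rw [htr] at hT
  rcases fsInd_irr_cases χ with h0 | ⟨h1 | h1, -⟩
  · exfalso
    rw [h0, zero_smul, Matrix.transpose_eq_zero] at hT
    exact hJ0 hT
  · exact h1
  exfalso
  rw [h1, neg_smul, one_smul] at hT
  -- the averaging projection
  set P : Matrix (Fin n) (Fin n) ℂ := (Nat.card S : ℂ)⁻¹ • ∑ x : S, X x with hP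
  have hc : (Nat.card S : ℂ) ≠ 0 := H12.card_ne_zero'
  have hXP : ∀ y : S, X y * P = P := fun y => by
    rw [hP, Matrix.mul_smul, Finset.mul_sum]
    congr 1
    exact Fintype.sum_equiv (Equiv.mulLeft y) _ _ fun x => by
      rw [← map_mul]; rfl
  have hPP : P * P = P := by
    have h0 : ((Nat.card S : ℂ)⁻¹ • ∑ x : S, X x) * P = P := by
      rw [Matrix.smul_mul, Finset.sum_mul]
      simp only [hXP, Finset.sum_const, Finset.card_univ, ← Nat.card_eq_fintype_card]
      rw [← Nat.cast_smul_eq_nsmul ℂ, smul_smul, inv_mul_cancel₀ hc, one_smul]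
    rwa [← hP] at h0
  have hJX : ∀ g, J * X g = (X g⁻¹)ᵀ * J := fun g => by
    conv_rhs => rw [← hJ g]
    rw [← mul_assoc, ← mul_assoc, ← transpose_mul, H17.mul_map_inv, transpose_one, one_mul]
  have hJP : J * P = Pᵀ * J := by
    rw [hP, Matrix.mul_smul, Finset.mul_sum, transpose_smul, transpose_sum, Matrix.smul_mul,
      Finset.sum_mul]
    congr 1
    exact Fintype.sum_equiv (Equiv.inv S) _ _ fun x => by
      rw [hJX]; rfl
  let R : Submodule ℂ (Fin n → ℂ) := LinearMap.range (Matrix.toLin' P)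
  have hproj : LinearMap.IsProj R (Matrix.toLin' P) := by
    refine ⟨fun v => LinearMap.mem_range_self _ v, ?_⟩
    rintro v ⟨w, rfl⟩
    simp only [Matrix.toLin'_apply, Matrix.mulVec_mulVec, hPP]
  have hrk : Module.finrank ℂ R = s := by
    have h2 := hproj.trace
    rw [LinearMap.trace_eq_matrix_trace ℂ (Pi.basisFun ℂ (Fin n))] at h2
    have h3 : (LinearMap.toMatrix (Pi.basisFun ℂ (Fin n)) (Pi.basisFun ℂ (Fin n)))
        (Matrix.toLin' P) = P := LinearMap.toMatrix'_toLin' P
    rw [h3, hP, Matrix.trace_smul, Matrix.trace_sum] at h2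
    have h4 : ∀ x : S, (X x).trace = (χ : G → ℂ) x := fun x => congrFun htr x
    simp only [h4] at h2
    rw [hsum, smul_eq_mul, ← mul_assoc, inv_mul_cancel₀ hc, one_mul] at h2
    exact_mod_cast h2.symm
  let b := Module.finBasisOfFinrankEq ℂ R hrk
  let C : Matrix (Fin s) (Fin s) ℂ :=
    Matrix.of fun i j => (b i : Fin n → ℂ) ⬝ᵥ (J *ᵥ (b j : Fin n → ℂ))
  have hskew : Cᵀ = -C := by
    ext i j
    simp only [C, Matrix.transpose_apply, Matrix.of_apply, Matrix.neg_apply]
    rw [dotProduct_comm, ← dotProduct_neg, ← Matrix.neg_mulVec, ← hT, dotProduct_mulVec,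
      Matrix.vecMul_transpose]
  have hdet : C.det = 0 := by
    have h2 := congrArg Matrix.det hskew
    rw [Matrix.det_transpose, Matrix.det_neg, Fintype.card_fin, hs.neg_one_pow, neg_one_mul] at h2
    linear_combination h2 / 2
  obtain ⟨v, hv0, hv⟩ := Matrix.exists_mulVec_eq_zero_iff.2 hdet
  set w : R := ∑ j, v j • b j with hw
  have hker : ∀ i, (b i : Fin n → ℂ) ⬝ᵥ (J *ᵥ (w : Fin n → ℂ)) = 0 := by
    intro i
    have h2 := congrFun hv i
    simp only [C, Matrix.mulVec, dotProduct, Matrix.of_apply, Pi.zero_apply] at h2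
    rw [hw, Submodule.coe_sum, Matrix.mulVec_sum, dotProduct_sum]
    simp only [Submodule.coe_smul, Matrix.mulVec_smul, dotProduct_smul, smul_eq_mul]
    rw [← h2]
    refine Finset.sum_congr rfl fun j _ => ?_
    rw [mul_comm]
    rfl
  have hkerR : ∀ r : R, (r : Fin n → ℂ) ⬝ᵥ (J *ᵥ (w : Fin n → ℂ)) = 0 := by
    intro r
    rw [← b.sum_repr r, Submodule.coe_sum, sum_dotProduct]
    exact Finset.sum_eq_zero fun i _ => by
      rw [Submodule.coe_smul, smul_dotProduct, hker, smul_zero]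
  have hwP : P *ᵥ (w : Fin n → ℂ) = (w : Fin n → ℂ) := by
    have := hproj.map_id (w : Fin n → ℂ) w.2
    rwa [Matrix.toLin'_apply] at this
  have hJw : J *ᵥ (w : Fin n → ℂ) = 0 := by
    funext i
    have h3 : (P *ᵥ Pi.single i 1) ⬝ᵥ (J *ᵥ (w : Fin n → ℂ)) =
        (Pi.single i 1 : Fin n → ℂ) ⬝ᵥ ((Pᵀ * J) *ᵥ (w : Fin n → ℂ)) := by
      rw [← Matrix.mulVec_mulVec, dotProduct_mulVec (Pi.single i 1) Pᵀ, Matrix.vecMul_transpose]
    rw [← hJP, ← Matrix.mulVec_mulVec, hwP, single_dotProduct, one_mul] at h3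
    rw [Pi.zero_apply, ← h3]
    exact hkerR ⟨P *ᵥ Pi.single i 1, Pi.single i 1, Matrix.toLin'_apply _ _⟩
  have hw0 : (w : Fin n → ℂ) = 0 := by
    obtain ⟨U, rfl⟩ := hJu
    have h2 := congrArg (fun z => (↑U⁻¹ : Matrix (Fin n) (Fin n) ℂ) *ᵥ z) hJw
    simpa [Matrix.mulVec_mulVec] using h2
  have hli := Fintype.linearIndependent_iff.1 b.linearIndependent v
    (Subtype.ext (by simpa [hw] using hw0))
  exact hv0 (funext hli)

end H25
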