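import Cfsg.Agent.H12.Orth
import Cfsg.Agent.H17.FS
import Cfsg.Agent.H25.Indicator

/-!
# The indicator of a real constituent of multiplicity one
-/

set_option autoImplicit false
set_option linter.style.haveILetI false
set_option linter.unusedSectionVars false

open Cfsg
open scoped ComplexConjugate

namespace H25

universe u

variable {G : Type u} [Group G] [Fintype G]

/-- Convolution with an irreducible character of the subgroup. -/
theorem sum_irr_mul_translate (I : Subgroup G) [Fintype I] (ξ ψ : IrrCharacter I) (g : I) :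
    ∑ x : I, conj ((ψ : I → ℂ) x) * (ξ : I → ℂ) (x * g) =
      (Nat.card I : ℂ) * classInner (ξ : I → ℂ) (ψ : I → ℂ) / (ξ : I → ℂ) 1 * (ξ : I → ℂ) g := by
  obtain ⟨n, ρ, hρ, hξ⟩ := ξ.2
  haveI := hρ
  have hf : IsClassFunction I (fun x => conj ((ψ : I → ℂ) x)) := fun a b => by
    simp only [H12.irr_isClassFunction ψ a b]
  have h := congrArg (fun T => LinearMap.trace ℂ (Fin n → ℂ) (T * ρ g)) (H12.avgOp_eq_smul ρ hf)
  simp only [H12.avgOp, Finset.sum_mul, smul_mul_assoc, one_mul, map_sum, map_smul, smul_eq_mul,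
    ← map_mul] at h
  rw [← H12.sum_mul_conj_eq_card_mul, ← hξ, Representation.char_one]
  refine h.trans ?_
  simp only [Representation.character, mul_comm]

open Matrix in
/-- A real constituent of multiplicity one of a real irreducible character keeps the indicator. -/
theorem fsInd_eq_of_constituent (χ : IrrCharacter G) (hχ : ∀ g, ((χ : G → ℂ) g).im = 0)
    (I : Subgroup G) [Fintype I] (ψ : IrrCharacter I) (hψ : ∀ i, ((ψ : I → ℂ) i).im = 0)
    (hmult : classInner (fun i : I => (χ : G → ℂ) i) (ψ : I → ℂ) = 1) :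
    H17.fsInd (ψ : I → ℂ) = H17.fsInd (χ : G → ℂ) := by
  classical
  obtain ⟨n, ρ, hρ, hχρ⟩ := χ.2
  set X := H17.rmat ρ
  have htr : ∀ g, (X g).trace = (χ : G → ℂ) g := fun g => by rw [H17.trace_rmat, hχρ]
  have hd := H17.finrank_invForms_of_real ρ hρ (by rw [hχρ]; exact hχ)
  obtain ⟨J, hJ, hJ0⟩ := Submodule.exists_mem_ne_zero_of_ne_bot
    (fun h => by rw [h, finrank_bot] at hd; exact zero_ne_one hd : H17.invForms X ≠ ⊥)
  have hJu := H17.isUnit_of_mem_invForms ρ hρ hJ hJ0
  have hJT : Jᵀ = H17.fsInd (χ : G → ℂ) • J := by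
    have := H17.transpose_eq_fsInd_smul X hd hJ
    simp only [htr] at this
    exact this
  have hcψ : ∀ i, conj ((ψ : I → ℂ) i) = (ψ : I → ℂ) i := fun i => Complex.conj_eq_iff_im.2 (hψ i)
  have hψinv : ∀ i, (ψ : I → ℂ) i⁻¹ = (ψ : I → ℂ) i := fun i => by rw [H12.irr_inv, hcψ]
  have hψ1 : (ψ : I → ℂ) 1 ≠ 0 := H12.irr_apply_one_ne_zero ψ
  have hI0 : (Nat.card I : ℂ) ≠ 0 := by exact_mod_cast Nat.card_pos.ne'
  set c : ℂ := (ψ : I → ℂ) 1 / (Nat.card I : ℂ) with hc
  obtain ⟨E, hE⟩ : ∃ E : Matrix (Fin n) (Fin n) ℂ, E = c • ∑ i : I, (ψ : I → ℂ) i • X i :=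
    ⟨_, rfl⟩
  -- `E` is the projection to the isotypic component
  have hEcomm : ∀ i : I, X i * E = E * X i := by
    intro i
    simp only [hE, Matrix.mul_smul, Matrix.smul_mul, Finset.mul_sum, Finset.sum_mul, ← map_mul]
    congr 1
    refine Fintype.sum_equiv (MulAut.conj i).toEquiv _ _ fun x => ?_
    simp only [MulEquiv.toEquiv_eq_coe, EquivLike.coe_coe, MulAut.conj_apply]
    rw [H12.irr_isClassFunction ψ x i]
    congr 2
    simp
  have hconv : ∀ y : I, ∑ x : I, (ψ : I → ℂ) x * (ψ : I → ℂ) (x * y) =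
      c⁻¹ * (ψ : I → ℂ) y := by
    intro y
    have h := sum_irr_mul_translate I ψ ψ y
    simp only [hcψ, H12.classInner_irr_self, mul_one] at h
    rw [h, hc, inv_div]
  have hEE : E * E = E := by
    have hsum : ∑ a : I, ∑ b : I, ((ψ : I → ℂ) a * (ψ : I → ℂ) b) • X ((a * b : I) : G) =
        c⁻¹ • ∑ y : I, (ψ : I → ℂ) y • X y := by
      rw [Finset.smul_sum, Finset.sum_congr rfl fun a _ => (Equiv.sum_comp (Equiv.mulLeft a⁻¹)
        (fun b => ((ψ : I → ℂ) a * (ψ : I → ℂ) b) • X ((a * b : I) : G))).symm, Finset.sum_comm]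
      refine Finset.sum_congr rfl fun y _ => ?_
      simp only [Equiv.coe_mulLeft, mul_inv_cancel_left, ← Finset.sum_smul]
      rw [smul_smul]
      congr 1
      rw [← hconv y, ← Equiv.sum_comp (Equiv.inv I)]
      simp only [Equiv.inv_apply, hψinv, inv_inv]
    have hprodsum : (∑ a : I, (ψ : I → ℂ) a • X a) * (∑ b : I, (ψ : I → ℂ) b • X b) =
        c⁻¹ • ∑ y : I, (ψ : I → ℂ) y • X y := by
      rw [← hsum, Finset.sum_mul_sum]
      refine Finset.sum_congr rfl fun a _ => Finset.sum_congr rfl fun b _ => ?_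
      rw [smul_mul_smul_comm, ← map_mul]
      rfl
    rw [hE, smul_mul_smul_comm, hprodsum, smul_smul, mul_assoc,
      mul_inv_cancel₀ (div_ne_zero hψ1 hI0), mul_one]
  have hEJ : Eᵀ * J = J * E := by
    simp only [hE, Matrix.transpose_smul, Matrix.transpose_sum, Matrix.smul_mul, Matrix.mul_smul,
      Finset.sum_mul, Finset.mul_sum]
    congr 1
    refine Fintype.sum_equiv (Equiv.inv I) _ _ fun i => ?_
    simp only [Equiv.inv_apply, hψinv, Subgroup.coe_inv]
    congr 1
    calc (X i)ᵀ * J = (X i)ᵀ * J * (X i * X (i : G)⁻¹) := by rw [H17.mul_map_inv, mul_one]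
      _ = J * X (i : G)⁻¹ := by rw [← mul_assoc, hJ]
  have htrE : ∀ h : I, (E * X h).trace = (ψ : I → ℂ) h := by
    intro h
    obtain ⟨m, hm⟩ := H12.IsCharacter.exists_mult (H12.IsCharacter.res (H12.isCharacter_irr χ) I)
    have hm1 : (m ψ : ℂ) = 1 := by
      rw [← hmult, hm, H12.classInner_sum_smul_irr]
    simp only [hE, Matrix.smul_mul, Finset.sum_mul, ← map_mul, Matrix.trace_smul, Matrix.trace_sum,
      htr, smul_eq_mul]
    have hval : ∀ x : I, (χ : G → ℂ) ((x : G) * h) = ∑ ξ, (m ξ : ℂ) * (ξ : I → ℂ) (x * h) :=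
      fun x => by
        have := congrFun hm (x * h)
        simpa [Finset.sum_apply] using this
    simp only [hval, Finset.mul_sum]
    rw [Finset.sum_comm]
    have hterm : ∀ ξ : IrrCharacter I,
        ∑ x : I, c * ((ψ : I → ℂ) x * ((m ξ : ℂ) * (ξ : I → ℂ) (x * h))) =
          if ξ = ψ then (ψ : I → ℂ) h else 0 := by
      intro ξ
      have e := sum_irr_mul_translate I ξ ψ h
      simp only [hcψ] at e
      have e2 : ∑ x : I, c * ((ψ : I → ℂ) x * ((m ξ : ℂ) * (ξ : I → ℂ) (x * h))) =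
          c * (m ξ : ℂ) * ∑ x : I, (ψ : I → ℂ) x * (ξ : I → ℂ) (x * h) := by
        rw [Finset.mul_sum]
        exact Finset.sum_congr rfl fun x _ => by ring
      rw [e2, e]
      split_ifs with hξ
      · rw [hξ, H12.classInner_irr_self, hm1, hc]
        field_simp
      · rw [H12.classInner_irr_ne hξ]
        simp
    rw [Finset.sum_congr rfl fun ξ _ => hterm ξ, Finset.sum_ite_eq' _ ψ, if_pos (Finset.mem_univ _)]
  -- the averaging projection
  obtain ⟨T0, hT0⟩ : ∃ T0 : Matrix (Fin n) (Fin n) ℂ →ₗ[ℂ] Matrix (Fin n) (Fin n) ℂ,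
      T0 = (Nat.card I : ℂ)⁻¹ • ∑ i : I, H17.sandwich (X i * E)ᵀ (X i * E) := ⟨_, rfl⟩
  have happly : ∀ M, T0 M = (Nat.card I : ℂ)⁻¹ • ∑ i : I, (X i * E)ᵀ * M * (X i * E) := fun M => by
    simp [hT0, H17.sandwich_apply]
  have hprod : ∀ i j : I, X i * E * (X j * E) = X ((i * j : I) : G) * E := fun i j => by
    calc X i * E * (X j * E) = X i * (E * X j) * E := by simp only [mul_assoc]
      _ = X i * X j * (E * E) := by rw [← hEcomm j]; simp only [mul_assoc]
      _ = _ := by rw [hEE, ← map_mul]; rfl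
  have hproj : LinearMap.IsProj (LinearMap.range T0) T0 := by
    refine ⟨fun M => LinearMap.mem_range_self T0 M, ?_⟩
    rintro _ ⟨M, rfl⟩
    have hinv : ∀ j : I, (X j * E)ᵀ * T0 M * (X j * E) = T0 M := by
      intro j
      rw [happly, Matrix.mul_smul, Matrix.smul_mul, Finset.mul_sum, Finset.sum_mul]
      refine congrArg (fun A : Matrix (Fin n) (Fin n) ℂ => (Nat.card I : ℂ)⁻¹ • A) ?_
      refine Eq.trans (Finset.sum_congr rfl fun i _ => ?_)
        (Equiv.sum_comp (Equiv.mulRight j) fun i : I => (X i * E)ᵀ * M * (X i * E))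
      show _ = (X ((i * j : I) : G) * E)ᵀ * M * (X ((i * j : I) : G) * E)
      rw [← hprod i j, transpose_mul (X i * E)]
      simp only [mul_assoc]
    rw [happly (T0 M), Finset.sum_congr rfl fun j _ => hinv j, Finset.sum_const, Finset.card_univ,
      ← Nat.cast_smul_eq_nsmul ℂ, smul_smul, ← Nat.card_eq_fintype_card, inv_mul_cancel₀ hI0,
      one_smul]
  have htr0 : LinearMap.trace ℂ _ T0 = 1 := by
    rw [← H12.classInner_irr_self ψ, H12.classInner_def]
    simp only [hT0, map_smul, map_sum, H17.trace_sandwich, Matrix.trace_transpose, smul_eq_mul]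
    congr 1
    refine Finset.sum_congr rfl fun i _ => ?_
    rw [hEcomm, htrE, hcψ]
  have hrank : Module.finrank ℂ (LinearMap.range T0) = 1 := by
    have := hproj.trace
    rw [htr0] at this
    exact_mod_cast this.symm
  have hJE : T0 (J * E) = J * E := by
    have : ∀ i : I, (X i * E)ᵀ * (J * E) * (X i * E) = J * E := by
      intro i
      calc (X i * E)ᵀ * (J * E) * (X i * E)
          = Eᵀ * ((X i)ᵀ * (J * ((E * X i) * E))) := by rw [transpose_mul]; simp only [mul_assoc]
        _ = Eᵀ * ((X i)ᵀ * J * X i) * (E * E) := by rw [← hEcomm i]; simp only [mul_assoc, hEE]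
        _ = J * E := by rw [hJ, hEE, hEJ, mul_assoc, hEE]
    rw [happly, Finset.sum_congr rfl fun i _ => this i, Finset.sum_const, Finset.card_univ,
      ← Nat.cast_smul_eq_nsmul ℂ, smul_smul, ← Nat.card_eq_fintype_card, inv_mul_cancel₀ hI0,
      one_smul]
  have hJE0 : J * E ≠ 0 := by
    intro h
    have hE0 : E = 0 := hJu.mul_right_eq_zero.1 h
    have := htrE 1
    rw [hE0, zero_mul, Matrix.trace_zero] at this
    exact hψ1 this.symm
  have hT : H17.transL ∘ₗ T0 = H17.fsInd (χ : G → ℂ) • T0 := by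
    apply LinearMap.ext
    intro M
    obtain ⟨a, ha⟩ := (finrank_eq_one_iff_of_nonzero'
      (⟨J * E, hJE ▸ LinearMap.mem_range_self T0 _⟩ : LinearMap.range T0)
      (by simpa using hJE0)).1 hrank ⟨T0 M, LinearMap.mem_range_self T0 M⟩
    have ha' : a • (J * E) = T0 M := congrArg Subtype.val ha
    show (T0 M)ᵀ = H17.fsInd (χ : G → ℂ) • T0 M
    rw [← ha', transpose_smul,
      transpose_mul, hJT, Matrix.mul_smul, hEJ, smul_comm]
  have key := congrArg (LinearMap.trace ℂ _) hT
  rw [map_smul, htr0, smul_eq_mul, mul_one] at key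
  rw [← key, hT0, LinearMap.comp_smul, map_smul, smul_eq_mul, H17.fsInd]
  congr 1
  rw [← Module.End.mul_eq_comp, Finset.mul_sum, _root_.map_sum]
  refine Finset.sum_congr rfl fun i _ => ?_
  rw [Module.End.mul_eq_comp, H17.trace_transL_sandwich, transpose_transpose, hprod, hEcomm,
    htrE]

end H25
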