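import Cfsg.Agent.H25.Kazarin
import Cfsg.Agent.H1.Fitting

/-!
# Conjugates of an element with prime-power class commute modulo the `p`-core
-/

set_option autoImplicit false
set_option linter.style.haveILetI false
set_option linter.unusedSectionVars false

open Cfsg

namespace H25

universe u

theorem pCore_le_centralizer_of_class {X : Type u} [Group X] [Finite X] {p q k : ℕ} (hp : p.Prime)
    (hq : q.Prime) (hqp : q ≠ p) {y : X}
    (hy : (Subgroup.centralizer ({y} : Set X)).index = p ^ k) :
    pCore q X ≤ Subgroup.centralizer ({y} : Set X) := by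
  haveI := Fact.mk hq
  set C := Subgroup.centralizer ({y} : Set X) with hC
  let S : Sylow q C := default
  have hv : (Nat.card C).factorization q = (Nat.card X).factorization q := by
    rw [← C.card_mul_index, hy, Nat.factorization_mul Nat.card_pos.ne' (pow_ne_zero _ hp.ne_zero),
      Finsupp.add_apply, Nat.factorization_eq_zero_of_not_dvd (n := p ^ k), add_zero]
    exact fun h => hqp ((Nat.prime_dvd_prime_iff_eq hq hp).1 (hq.dvd_of_dvd_pow h))
  have hcard : Nat.card ((S : Subgroup C).map C.subtype) = q ^ (Nat.card X).factorization q := by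
    rw [Nat.card_congr (Subgroup.equivMapOfInjective _ _ C.subtype_injective).symm.toEquiv,
      S.card_eq_multiplicity, hv]
  exact (H1.pCore_le_sylow (Sylow.ofCard _ hcard)).trans (Subgroup.map_subtype_le _)

theorem commute_conjugates_of_pCore_eq_bot {X : Type u} [Group X] [Finite X] {p k : ℕ}
    (hp : p.Prime) (hO : pCore p X = ⊥) {y : X}
    (hy : (Subgroup.centralizer ({y} : Set X)).index = p ^ k) (a b : X)
    (ha : a ∈ Subgroup.normalClosure ({y} : Set X)) (hb : b ∈ Subgroup.normalClosure ({y} : Set X)) :
    a * b = b * a := by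
  set R := Subgroup.normalClosure ({y} : Set X) with hR
  haveI hRn : R.Normal := Subgroup.normalClosure_normal
  have hRs : Group.IsSolvable R := kazarin hp (Nat.card X) rfl y k hy
  haveI hFn : (fittingSubgroup X).Normal := H1.fittingSubgroup_normal X
  have hyF : y ∈ Subgroup.centralizer (fittingSubgroup X : Set X) := by
    have hle : fittingSubgroup X ≤ Subgroup.centralizer ({y} : Set X) := by
      rw [H1.fittingSubgroup_eq_iSup_pCore]
      refine iSup_le fun q => ?_
      by_cases hqp : (q : ℕ) = p
      · rw [hqp, hO]; exact bot_le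
      · exact pCore_le_centralizer_of_class hp q.2 hqp hy
    intro f hf
    exact Subgroup.mem_centralizer_singleton_iff.1 (hle hf)
  haveI : (Subgroup.centralizer (fittingSubgroup X : Set X)).Normal :=
    Subgroup.normal_centralizer
  have hRC : R ≤ Subgroup.centralizer (fittingSubgroup X : Set X) :=
    Subgroup.normalClosure_le_normal (Set.singleton_subset_iff.2 hyF)
  have hmap := H1.fittingSubgroup_subgroup_map_eq R
  have hcen : Subgroup.centralizer (fittingSubgroup R : Set R) = ⊤ := by
    rw [eq_top_iff]
    intro r _ f hf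
    have h1 : (f : X) ∈ fittingSubgroup X ⊓ R := by rw [← hmap]; exact ⟨f, hf, rfl⟩
    exact Subtype.ext (hRC r.2 _ h1.1)
  haveI := hRs
  have hfit := H1.centralizer_fitting_le_of_isSolvable (G := R) inferInstance
  rw [hcen] at hfit
  have h2 : a ∈ fittingSubgroup X ⊓ R := by
    rw [← hmap]; exact ⟨⟨a, ha⟩, hfit (Subgroup.mem_top _), rfl⟩
  exact hRC hb a h2.1

/-- Conjugates of an element with `p`-power class size commute modulo `O_p`. -/
theorem commutator_conjugates_mem_pCore {G : Type u} [Group G] [Finite G] {p : ℕ} (hp : p.Prime)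
    {x : G} (hx : ∃ a : ℕ, (Subgroup.centralizer ({x} : Set G)).index = p ^ a) (g h : G) :
    (g * x * g⁻¹) * (h * x * h⁻¹) * (g * x * g⁻¹)⁻¹ * (h * x * h⁻¹)⁻¹ ∈ pCore p G := by
  haveI := H1.pCore_normal' p G
  obtain ⟨a, ha⟩ := hx
  set f := QuotientGroup.mk' (pCore p G)
  have hdvd : (Subgroup.centralizer ({f x} : Set (G ⧸ pCore p G))).index ∣ p ^ a := by
    rw [← ha]
    refine (Subgroup.index_dvd_of_le (H := (Subgroup.centralizer ({x} : Set G)).map f) ?_).trans
      (Subgroup.index_map_dvd _ (QuotientGroup.mk'_surjective _))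
    rintro _ ⟨z, hz, rfl⟩
    rw [Subgroup.mem_centralizer_singleton_iff, ← map_mul, ← map_mul,
      Subgroup.mem_centralizer_singleton_iff.1 hz]
  obtain ⟨k, -, hk⟩ := (Nat.dvd_prime_pow hp).1 hdvd
  have hmem : ∀ c : G, f (c * x * c⁻¹) ∈ Subgroup.normalClosure ({f x} : Set (G ⧸ pCore p G)) := by
    intro c
    rw [map_mul, map_mul, map_inv]
    exact Subgroup.normalClosure_normal.conj_mem _
      (Subgroup.subset_normalClosure (Set.mem_singleton _)) _
  have hc := commute_conjugates_of_pCore_eq_bot hp (H1.pCore_quotient_pCore p G) hk _ _ (hmem g) (hmem h)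
  rw [← QuotientGroup.eq_one_iff]
  show f _ = 1
  rw [map_mul _ _ ((h * x * h⁻¹)⁻¹), map_mul, map_mul, hc, map_inv, map_inv]
  group

end H25
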