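import Cfsg.Agent.H20.SecondMainApps
import Cfsg.Agent.H20.ThirdMain
import Cfsg.Agent.H20.BlockApps
import Cfsg.Agent.H25.FongConstrained
import Cfsg.Agent.H10.PSolvable

/-!
Groups with solvable involution centralisers without odd core: non-principal 2-block characters
vanish at all 2-singular elements.
-/

set_option autoImplicit false
set_option linter.style.haveILetI false

open Cfsg

namespace H25.OneBlock

universe u

variable {G : Type u} [Group G] [Finite G]

/-- Centralisers of 2-elements inherit solvability and trivial odd core. -/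
theorem centralizer_good
    (h : ∀ z : G, orderOf z = 2 → Group.IsSolvable (Subgroup.centralizer ({z} : Set G)) ∧
      pPrimeCore 2 (Subgroup.centralizer ({z} : Set G)) = ⊥)
    {x : G} (hx : ∃ k : ℕ, orderOf x = 2 ^ (k + 1)) :
    Group.IsSolvable (Subgroup.centralizer ({x} : Set G)) ∧
      pPrimeCore 2 (Subgroup.centralizer ({x} : Set G)) = ⊥ := by
  haveI : Fact (Nat.Prime 2) := ⟨Nat.prime_two⟩
  obtain ⟨k, hk⟩ := hx
  set z := x ^ 2 ^ k with hzdef
  have hz : orderOf z = 2 := by
    rw [hzdef, orderOf_pow' _ (by positivity), hk, Nat.gcd_eq_right (pow_dvd_pow 2 k.le_succ),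
      pow_succ, Nat.mul_div_cancel_left _ (by positivity)]
  obtain ⟨hsol, hcore⟩ := h z hz
  set C := Subgroup.centralizer ({z} : Set G) with hC
  haveI := hsol
  have hxC : x ∈ C := Subgroup.mem_centralizer_singleton_iff.2 ((Commute.refl x).pow_right _).eq
  have hle : Subgroup.centralizer ({x} : Set G) ≤ C := fun g hg =>
    Subgroup.mem_centralizer_singleton_iff.2
      ((show Commute g x from Subgroup.mem_centralizer_singleton_iff.1 hg).pow_right _).eq
  refine ⟨Group.isSolvable_of_isSolvable_injective (f := Subgroup.inclusion hle) (Subgroup.inclusion_injective hle), ?_⟩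
  haveI : Fintype C := Fintype.ofFinite _
  let R : Subgroup C := Subgroup.zpowers ⟨x, hxC⟩
  have hR : IsPGroup 2 R := IsPGroup.of_card (n := k + 1) (by
    rw [Nat.card_zpowers, Subgroup.orderOf_mk, hk])
  have hcon : IsPConstrained 2 C :=
    H10.isPConstrained_of_isPSolvable (H10.isPSolvable_of_isSolvable (G := C))
  have h0 := H25.pPrimeCore_centralizer_eq hcon R hR
  rw [hcore, Subgroup.bot_subgroupOf] at h0
  let e : ↥(Subgroup.centralizer (R : Set C)) ≃* ↥(Subgroup.centralizer ({x} : Set G)) :=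
    { toFun := fun c => ⟨((c : C) : G), Subgroup.mem_centralizer_singleton_iff.2
        (congrArg Subtype.val (c.2 ⟨x, hxC⟩ (Subgroup.mem_zpowers _))).symm⟩
      invFun := fun g => ⟨⟨g, hle g.2⟩, by
        intro r hr
        obtain ⟨i, rfl⟩ := Subgroup.mem_zpowers_iff.1 hr
        have hc : Commute (⟨g, hle g.2⟩ : C) ⟨x, hxC⟩ :=
          Subtype.ext (Subgroup.mem_centralizer_singleton_iff.1 g.2)
        exact (hc.zpow_right i).eq.symm⟩
      left_inv := fun c => rfl
      right_inv := fun g => rfl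
      map_mul' := fun c d => rfl }
  rw [← H1.map_pPrimeCore_equiv 2 e, h0, Subgroup.map_bot]

/-- Members of non-principal 2-blocks vanish at 2-singular elements. -/
theorem vanish
    (h : ∀ z : G, orderOf z = 2 → Group.IsSolvable (Subgroup.centralizer ({z} : Set G)) ∧
      pPrimeCore 2 (Subgroup.centralizer ({z} : Set G)) = ⊥)
    {M : Ideal AlgInt} (hM : IsPModular 2 M) {χ : IrrCharacter G}
    (hχ : χ ∉ principalBlock M G) {g : G} (hg : 2 ∣ orderOf g) : (χ : G → ℂ) g = 0 := by
  classical
  haveI : Fact (Nat.Prime 2) := ⟨Nat.prime_two⟩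
  haveI : M.IsPrime := hM.2.1.isPrime
  haveI := Fintype.ofFinite G
  set x := H20.pPart 2 g with hxdef
  have hx : ∃ k : ℕ, orderOf x = 2 ^ (k + 1) := by
    obtain ⟨j, hj⟩ := H20.exists_orderOf_pPart (p := 2) g
    obtain ⟨k, rfl⟩ : ∃ k, j = k + 1 := by
      refine Nat.exists_eq_succ_of_ne_zero fun h0 => H20.not_dvd_orderOf_qPart (p := 2) g ?_
      rw [h0, pow_zero, orderOf_eq_one_iff] at hj
      have hgq : H20.qPart 2 g = g := by
        conv_rhs => rw [← H20.pPart_mul_qPart (p := 2) g, hj, one_mul]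
      rwa [hgq]
    exact ⟨k, hj⟩
  obtain ⟨hsol, hcore⟩ := centralizer_good h hx
  set C := Subgroup.centralizer ({x} : Set G) with hC
  haveI : Fintype C := Fintype.ofFinite _
  haveI := hsol
  obtain ⟨k, hk⟩ := hx
  have hqC : H20.qPart 2 g ∈ C := Subgroup.mem_centralizer_singleton_iff.2
    (H20.commute_pPart_qPart g).eq.symm
  have hθ := H20.eq_zero_of_blockPart M
    (θ := fun c : C => (χ : G → ℂ) (x * (c : G)))
    (H20.isClassFunction_shift (H12.irr_isClassFunction χ) x) (y := ⟨H20.qPart 2 g, hqC⟩) ?_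
  · simpa [hxdef, H20.pPart_mul_qPart] using hθ
  intro b hb
  refine H20.blockPart_shift_eq_zero hM ⟨k + 1, hk⟩ (H20.isPBlock_blockOf χ)
    (H20.mem_blockOf_self χ) hb ?_ _
    (by rw [← Subgroup.orderOf_coe]; exact H20.not_dvd_orderOf_qPart g)
  intro hind
  have hbp : b = principalBlock M C := by
    obtain ⟨ψ, hψ⟩ := H20.block_nonempty hb
    refine H20.block_eq_of_mem hb H20.isPBlock_principalBlock hψ ?_
    exact H20.single_block hM (H10.isPSolvable_of_isSolvable (G := C)) hcore (H12.oneIrr C) ψ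
  have hpr := (H20.third_main hM C ⟨_, hind⟩).2 hbp
  exact hχ (H20.inducedBlock_unique C hind hpr ▸ H20.mem_blockOf_self χ)

end H25.OneBlock
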