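import Cfsg.Agent.H25.M22Data
import Cfsg.Agent.H25.OneBlock
import Cfsg.Agent.H87.MathieuCert
import Cfsg.Agent.H94.Centralisers
import Cfsg.Agent.S0144

/-!
Involutions and elements of order three of M22: one class each, and bounds for the centralisers.
-/

set_option autoImplicit false
set_option linter.style.haveILetI false
set_option linter.unusedSectionVars false

open Cfsg

namespace H25.M22

/-- The group. -/
abbrev G22 : Type := ↥Cfsg.Spor.M22

theorem reps_of_repr {σ : Equiv.Perm GolayPt} {p : ℕ} (h : H90.Repr σ p) : H94.Reps p σ := by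
  intro i hi
  have e : H94.ptN i = H90.pt ⟨i, hi⟩ := congrArg H90.pt (Fin.ext (Nat.mod_eq_of_lt hi))
  rw [e, H94.idxN, h ⟨i, hi⟩, H94.pap_def, show (31 : ℕ) = 2 ^ 5 - 1 from rfl,
    Nat.and_two_pow_sub_one_eq_mod]
  rfl

/-- The closure and the cardinality certificate of a listed subgroup. -/
def subB (L : List ℕ) : Bool :=
  L.all H87.mem22 &&
    (L.all fun a => L.all fun b => L.any fun c => H87.eqB (H90.compN a b) c) &&
    (L.any fun c => H87.eqB H90.idN c) &&
    (List.range L.length).all fun i => (List.range i).all fun j =>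
      !H87.eqB (L.getD i 0) (L.getD j 0)

theorem exists_sub {L : List ℕ} (h : subB L = true) :
    ∃ K : Subgroup G22, Nat.card K = L.length ∧
      (∀ σ ∈ K, ∃ p ∈ L, H90.Repr σ.1 p) := by
  classical
  simp only [subB, Bool.and_eq_true, List.all_eq_true, List.any_eq_true] at h
  obtain ⟨⟨⟨hmem, hmul⟩, h1⟩, hnd⟩ := h
  have hex : ∀ i : Fin L.length, ∃ σ : G22, H90.Repr σ.1 L[i.val] := fun i =>
    H87.exists_of_mem22 (hmem _ (List.getElem_mem i.isLt))
  choose f hf using hex
  have hfin : ∀ {σ : G22} {c : ℕ}, c ∈ L → H90.Repr σ.1 c → σ ∈ Set.range f := by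
    intro σ c hc hr
    obtain ⟨i, hi, rfl⟩ := List.getElem_of_mem hc
    exact ⟨⟨i, hi⟩, H87.repr_unique (hf ⟨i, hi⟩) hr⟩
  have hone : (1 : G22) ∈ Set.range f := by
    obtain ⟨c, hc, hce⟩ := h1
    obtain ⟨σ, hσ⟩ := H87.exists_of_mem22 (hmem c hc)
    have : σ.1 = 1 := ((H87.eqB_iff H90.repr_one hσ).1 hce).symm
    exact hfin hc (show H90.Repr (1 : G22).1 c by
      have e : σ = 1 := Subtype.ext this
      exact e ▸ hσ)
  let S : Submonoid G22 :=
    { carrier := Set.range f
      one_mem' := hone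
      mul_mem' := by
        rintro _ _ ⟨i, rfl⟩ ⟨j, rfl⟩
        obtain ⟨c, hc, hce⟩ := hmul _ (List.getElem_mem i.isLt) _ (List.getElem_mem j.isLt)
        obtain ⟨σ, hσ⟩ := H87.exists_of_mem22 (hmem c hc)
        have e : f i * f j = σ := Subtype.ext ((H87.eqB_iff ((hf i).mul (hf j)) hσ).1 hce)
        rw [e]
        exact hfin hc hσ }
  let K : Subgroup G22 :=
    { S with
      inv_mem' := by
        intro σ hσ
        have hpos := orderOf_pos σ
        have e : σ⁻¹ = σ ^ (orderOf σ - 1) := inv_eq_of_mul_eq_one_left (by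
          rw [← pow_succ, Nat.sub_add_cancel hpos, pow_orderOf_eq_one])
        rw [e]
        exact S.pow_mem hσ _ }
  refine ⟨K, ?_, ?_⟩
  · have hinj : Function.Injective f := by
      intro i j hij
      by_contra hne
      have key : ∀ i j : Fin L.length, j.val < i.val → f i ≠ f j := by
        intro i j hlt hij
        have := hnd i.val (List.mem_range.2 i.isLt) j.val (List.mem_range.2 hlt)
        rw [List.getD_eq_getElem _ _ i.isLt, List.getD_eq_getElem _ _ j.isLt,
          (H87.eqB_iff (hf i) (hf j)).2 (congrArg Subtype.val hij)] at this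
        exact absurd this (by decide)
      rcases lt_or_gt_of_ne (fun e : i.val = j.val => hne (Fin.ext e)) with h' | h'
      · exact key j i h' hij.symm
      · exact key i j h' hij
    calc Nat.card K = Nat.card (Set.range f) := rfl
      _ = L.length := by rw [Nat.card_range_of_injective hinj, Nat.card_fin]
  · rintro σ ⟨i, rfl⟩
    exact ⟨_, List.getElem_mem i.isLt, hf i⟩

/-- Conjugacy certificate: every nontrivial entry satisfying `P` is a listed conjugate of `r`. -/
def conjB (r : ℕ) (C L : List ℕ) (P : ℕ → Bool) : Bool :=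
  L.all fun a => H87.eqB a H90.idN || !P a || C.any fun c =>
    H87.mem22 c && H87.eqB (H90.compN c r) (H90.compN a c)

theorem isConj_of_conjB {r : ℕ} {C L : List ℕ} {P : ℕ → Bool} (h : conjB r C L P = true)
    {ρ σ : G22} (hρ : H90.Repr ρ.1 r) {a : ℕ} (ha : a ∈ L) (hσ : H90.Repr σ.1 a)
    (h1 : σ ≠ 1) (hP : P a = true) : IsConj ρ σ := by
  have h' := List.all_eq_true.1 h a ha
  rw [hP, show H87.eqB a H90.idN = false from by
    rw [← Bool.not_eq_true]
    exact fun e => h1 (Subtype.ext ((H87.eqB_iff hσ H90.repr_one).1 e))] at h'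
  simp only [Bool.not_true, Bool.false_or, List.any_eq_true, Bool.and_eq_true] at h'
  obtain ⟨c, -, hc, he⟩ := h'
  obtain ⟨γ, hγ⟩ := H87.exists_of_mem22 hc
  have e : γ * ρ = σ * γ := Subtype.ext ((H87.eqB_iff (hγ.mul hρ) (hσ.mul hγ)).1 he)
  exact isConj_iff.2 ⟨γ, by rw [e, mul_inv_cancel_right]⟩

/-- The filter of the centraliser enumeration. -/
noncomputable def centF (r l Q : ℕ) : Bool := H94.commF r l Q && Nat.beq (H94.pap Q 0) 0

/-- The centraliser list. -/
noncomputable def centList (r : ℕ) : List ℕ :=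
  (H94.search (centF r)).filter fun P => H94.commB r P && Nat.beq (H94.pap P 23) 23

theorem centList_card {r : ℕ} {ρ : G22} (hρ : H90.Repr ρ.1 r) :
    Nat.card (Subgroup.centralizer ({ρ} : Set G22)) ≤ (centList r).length := by
  classical
  have hR := reps_of_repr hρ
  have hex : ∀ c : Subgroup.centralizer ({ρ} : Set G22), ∃ i : Fin (centList r).length,
      H94.Reps (centList r)[i.val] (c : G22).1 := by
    intro c
    have hc : (c : G22).1 * ρ.1 = ρ.1 * (c : G22).1 :=
      congrArg Subtype.val (Subgroup.mem_centralizer_singleton_iff.1 c.2)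
    obtain ⟨⟨hM, hn⟩, h0⟩ := Subgroup.mem_inf.1 (c : G22).2
    have e0 : H94.ptN 0 = (some 0 : GolayPt) := by decide +kernel
    have e23 : H94.ptN 23 = (none : GolayPt) := by decide +kernel
    have h0' : (c : G22).1 (some 0) = some 0 := h0
    have hn' : (c : G22).1 none = none := hn
    obtain ⟨P, hP, hPR⟩ := H94.search_complete (centF r) hM (fun l hl Q hQ => by
      rw [centF, Bool.and_eq_true]
      refine ⟨H94.commF_spec hR hc l hl Q hQ, ?_⟩
      rw [hQ 0 (by omega), e0, h0', ← e0, H94.idxN_ptN (by norm_num)]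
      exact Nat.beq_refl _)
    have hmem : P ∈ centList r := by
      refine List.mem_filter.2 ⟨hP, ?_⟩
      rw [Bool.and_eq_true]
      refine ⟨H94.commB_of_commute hPR hR hc, ?_⟩
      rw [hPR 23 (by norm_num), e23, hn', ← e23, H94.idxN_ptN (by norm_num)]
      exact Nat.beq_refl _
    obtain ⟨i, hi, rfl⟩ := List.getElem_of_mem hmem
    exact ⟨⟨i, hi⟩, hPR⟩
  choose g hg using hex
  have hinj : Function.Injective g := fun c d h => Subtype.ext (Subtype.ext
    ((hg c).unique (show H94.Reps (centList r)[(g c).val] (d : G22).1 from h ▸ hg d)))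
  exact (Nat.card_le_card_of_injective g hinj).trans (by rw [Nat.card_fin])

attribute [local irreducible] centList

/-- The Sylow 3-subgroup. -/
def threeList : List ℕ :=
  [H90.idN, yN, H90.compN yN yN, wN, H90.compN wN wN, H90.compN yN wN,
    H90.compN yN (H90.compN wN wN), H90.compN (H90.compN yN yN) wN,
    H90.compN (H90.compN yN yN) (H90.compN wN wN)]

/-- The four-group. -/
def fourList : List ℕ := [H90.idN, uN, vN, H90.compN uN vN]

theorem reps_mem : (H87.mem22 zN && H87.mem22 yN &&
    H87.eqB (H90.compN yN (H90.compN yN yN)) H90.idN && !H87.eqB yN H90.idN) = true := by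
  decide +kernel

theorem three_sub : subB threeList = true := by decide +kernel
theorem four_sub : subB fourList = true := by decide +kernel
theorem four_comm : fourList.all (fun a => H87.commB a yN) = true := by decide +kernel
theorem sylow_ok : H87.subgroupOK H87.mem22 H87.dataM22 = true := by decide +kernel
theorem z_comm : (H87.mem22 zC && H87.eqB (H90.compN zC zC) H90.idN && !H87.eqB zC H90.idN &&
    (H87.buildL H87.dataM22.bs).all (fun a => H87.commB a zC)) = true := by
  decide +kernel

theorem z_conj : conjB zN zConj (H87.buildL H87.dataM22.bs)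
    (fun a => H87.eqB (H90.compN a a) H90.idN) = true := by decide +kernel

theorem y_conj : conjB yN yConj threeList (fun _ => true) = true := by decide +kernel

attribute [local semireducible] centList in
theorem z_cent : Nat.ble (centList zN).length 384 = true := by decide +kernel

attribute [local semireducible] centList in
theorem y_cent : Nat.ble (centList yN).length 36 = true := by decide +kernel

theorem card22 : Nat.card G22 = 443520 := H87.natCard_M22

theorem fac_two : (Nat.card G22).factorization 2 = 7 := by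
  rw [card22, show (443520 : ℕ) = 2 ^ 7 * 3465 by norm_num,
    Nat.factorization_mul (by norm_num) (by norm_num), Nat.prime_two.factorization_pow]
  simp [Nat.factorization_eq_zero_of_not_dvd (show ¬ 2 ∣ 3465 by norm_num)]

theorem exists_y : ∃ y : G22, H90.Repr y.1 yN ∧ orderOf y = 3 := by
  have h := reps_mem
  simp only [Bool.and_eq_true, Bool.not_eq_true'] at h
  obtain ⟨⟨⟨-, hy⟩, h3⟩, h1⟩ := h
  obtain ⟨y, hyr⟩ := H87.exists_of_mem22 hy
  refine ⟨y, hyr, ?_⟩
  haveI : Fact (Nat.Prime 3) := ⟨Nat.prime_three⟩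
  refine orderOf_eq_prime ?_ fun e => ?_
  · have := (H87.eqB_iff (hyr.mul (hyr.mul hyr)) H90.repr_one).1 h3
    exact Subtype.ext (by rw [pow_succ, pow_two, mul_assoc]; exact this)
  · rw [(H87.eqB_iff hyr H90.repr_one).2 (by rw [e]; rfl)] at h1
    exact Bool.noConfusion h1

theorem exists_three_subgroup : ∃ P : Subgroup G22, Nat.card P = 9 ∧
    ∀ {y : G22}, H90.Repr y.1 yN → ∀ w ∈ P, w ≠ 1 → IsConj y w := by
  obtain ⟨P, hP, hPl⟩ := exists_sub three_sub
  refine ⟨P, hP, fun hy w hw h1 => ?_⟩
  obtain ⟨p, hp, hr⟩ := hPl w hw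
  exact isConj_of_conjB y_conj hy hp hr h1 rfl

theorem three_conj {y g : G22} (hy : H90.Repr y.1 yN) (hg : orderOf g = 3) : IsConj y g := by
  haveI : Fact (Nat.Prime 3) := ⟨Nat.prime_three⟩
  obtain ⟨P, hP, hPc⟩ := exists_three_subgroup
  have hfac : (Nat.card G22).factorization 3 = 2 := by
    rw [card22, show (443520 : ℕ) = 3 ^ 2 * 49280 by norm_num,
      Nat.factorization_mul (by norm_num) (by norm_num), Nat.prime_three.factorization_pow]
    simp [Nat.factorization_eq_zero_of_not_dvd (show ¬ 3 ∣ 49280 by norm_num)]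
  let S : Sylow 3 G22 := Sylow.ofCard P (by rw [hP, hfac]; norm_num)
  have hp3 : IsPGroup 3 (Subgroup.zpowers g) :=
    IsPGroup.of_card (n := 1) (by rw [Nat.card_zpowers, hg, pow_one])
  obtain ⟨Q, hQ⟩ := hp3.exists_le_sylow
  obtain ⟨c, hc⟩ := MulAction.exists_smul_eq G22 Q S
  have hmem : c * g * c⁻¹ ∈ P := by
    have h1 : c * g * c⁻¹ ∈ ((c • Q : Sylow 3 G22) : Subgroup G22) := by
      rw [Sylow.coe_subgroup_smul]
      exact ⟨g, hQ (Subgroup.mem_zpowers g), by simp⟩
    rw [hc] at h1
    exact h1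
  have hne : c * g * c⁻¹ ≠ 1 := fun e => by
    rw [conj_eq_one_iff] at e; rw [e, orderOf_one] at hg; omega
  exact (hPc hy _ hmem hne).trans (isConj_iff.2 ⟨c, rfl⟩ : IsConj g (c * g * c⁻¹)).symm

theorem cent_y {y : G22} (hy : H90.Repr y.1 yN) :
    Nat.card (Subgroup.centralizer ({y} : Set G22)) ≤ 36 ∧
      4 ∣ Nat.card (Subgroup.centralizer ({y} : Set G22)) := by
  refine ⟨(centList_card hy).trans (Nat.le_of_ble_eq_true y_cent), ?_⟩
  obtain ⟨P, hP, hPl⟩ := exists_sub four_sub
  rw [show (4 : ℕ) = fourList.length from rfl, ← hP]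
  refine Subgroup.card_dvd_of_le fun σ hσ => ?_
  obtain ⟨p, hp, hr⟩ := hPl σ hσ
  exact Subgroup.mem_centralizer_singleton_iff.2
    (Subtype.ext ((H87.commB_iff hr hy).1 (List.all_eq_true.1 four_comm p hp)).eq)

theorem isConj_card_centralizer {a b : G22} (h : IsConj a b) :
    Nat.card (Subgroup.centralizer ({b} : Set G22)) =
      Nat.card (Subgroup.centralizer ({a} : Set G22)) := by
  obtain ⟨c, rfl⟩ := isConj_iff.1 h
  refine Nat.card_congr ((MulAut.conj c).symm.toEquiv.subtypeEquiv fun g => ?_)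
  simp only [Subgroup.mem_centralizer_singleton_iff, MulEquiv.toEquiv_eq_coe, MulEquiv.coe_toEquiv,
    MulAut.conj_symm_apply]
  constructor
  · intro h; simpa [mul_assoc] using congrArg (fun x => c⁻¹ * x * c) h
  · intro h; simpa [mul_assoc] using congrArg (fun x => c * x * c⁻¹) h

theorem isConj_inv {z t : G22} (hz : H90.Repr z.1 zN) (h2 : t * t = 1) (h1 : t ≠ 1) :
    IsConj z t := by
  haveI : Fact (Nat.Prime 2) := ⟨Nat.prime_two⟩
  set K := H87.genOf Cfsg.Spor.M22 H87.dataM22.bs with hK
  obtain ⟨hL, hcard⟩ := H87.subgroup_of_ok (fun _ h => H87.exists_of_mem22 h) sylow_ok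
  have hbs : H87.dataM22.bs.length = 7 := rfl
  let S : Sylow 2 G22 := Sylow.ofCard K (by rw [hcard, fac_two, hbs])
  have hp2 : IsPGroup 2 (Subgroup.zpowers t) :=
    IsPGroup.of_card (n := 1) (by
      rw [Nat.card_zpowers, pow_one]; exact orderOf_eq_prime (by rw [pow_two, h2]) h1)
  obtain ⟨Q, hQ⟩ := hp2.exists_le_sylow
  obtain ⟨c, hc⟩ := MulAction.exists_smul_eq G22 Q S
  have hmem : c * t * c⁻¹ ∈ K := by
    have h1 : c * t * c⁻¹ ∈ ((c • Q : Sylow 2 G22) : Subgroup G22) := by
      rw [Sylow.coe_subgroup_smul]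
      exact ⟨t, hQ (Subgroup.mem_zpowers t), by simp⟩
    rw [hc] at h1
    exact h1
  have hne : c * t * c⁻¹ ≠ 1 := fun e => h1 (conj_eq_one_iff.1 e)
  obtain ⟨p, hp, hr⟩ := hL.2 _ hmem
  have hsq : (c * t * c⁻¹) * (c * t * c⁻¹) = 1 := by
    rw [show c * t * c⁻¹ * (c * t * c⁻¹) = c * (t * t) * c⁻¹ by group, h2, mul_one, mul_inv_cancel]
  exact (isConj_of_conjB z_conj hz hp hr hne
    ((H87.eqB_iff (hr.mul hr) H90.repr_one).2 (congrArg Subtype.val hsq))).trans
      (isConj_iff.2 ⟨c, rfl⟩ : IsConj t (c * t * c⁻¹)).symm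

theorem involution_good (t : G22) (ht : orderOf t = 2) :
    Group.IsSolvable (Subgroup.centralizer ({t} : Set G22)) ∧
      pPrimeCore 2 (Subgroup.centralizer ({t} : Set G22)) = ⊥ := by
  haveI : Fact (Nat.Prime 2) := ⟨Nat.prime_two⟩
  have h := reps_mem
  simp only [Bool.and_eq_true] at h
  obtain ⟨z, hz⟩ := H87.exists_of_mem22 h.1.1.1
  set K := H87.genOf Cfsg.Spor.M22 H87.dataM22.bs with hK
  obtain ⟨hL, hcard⟩ := H87.subgroup_of_ok (fun _ h => H87.exists_of_mem22 h) sylow_ok
  have ht1 : t ≠ 1 := fun e => by rw [e, orderOf_one] at ht; omega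
  have ht2 : t * t = 1 := by rw [← pow_two, ← ht]; exact pow_orderOf_eq_one t
  have htz : IsConj z t := isConj_inv hz ht2 ht1
  have hup : Nat.card (Subgroup.centralizer ({t} : Set G22)) ≤ 384 := by
    rw [isConj_card_centralizer htz]
    exact (centList_card hz).trans (Nat.le_of_ble_eq_true z_cent)
  have hlow : 128 ∣ Nat.card (Subgroup.centralizer ({t} : Set G22)) := by
    have hc := z_comm
    simp only [Bool.and_eq_true, Bool.not_eq_true'] at hc
    obtain ⟨⟨⟨hc0, hc2⟩, hc1⟩, hcc⟩ := hc
    obtain ⟨w, hw⟩ := H87.exists_of_mem22 hc0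
    have hw2 : w * w = 1 := Subtype.ext ((H87.eqB_iff (hw.mul hw) H90.repr_one).1 hc2)
    have hw1 : w ≠ 1 := fun e => by
      rw [(H87.eqB_iff hw H90.repr_one).2 (by rw [e]; rfl)] at hc1
      exact Bool.noConfusion hc1
    have htw : IsConj z w := isConj_inv hz hw2 hw1
    rw [isConj_card_centralizer htz, ← isConj_card_centralizer htw,
      show (128 : ℕ) = Nat.card K by rw [hcard]; rfl]
    refine Subgroup.card_dvd_of_le fun σ hσ => ?_
    obtain ⟨p, hp, hr⟩ := hL.2 σ hσ
    exact Subgroup.mem_centralizer_singleton_iff.2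
      (Subtype.ext ((H87.commB_iff hr hw).1 (List.all_eq_true.1 hcc p hp)).eq)
  set C := Subgroup.centralizer ({t} : Set G22) with hC
  obtain ⟨m, hm⟩ := hlow
  have hm3 : m = 1 ∨ m = 2 ∨ m = 3 := by
    have : 0 < Nat.card C := Nat.card_pos
    omega
  refine ⟨?_, ?_⟩
  · obtain ⟨a, b, hab⟩ : ∃ a b : ℕ, Nat.card C = 2 ^ a * 3 ^ b := by
      rcases hm3 with rfl | rfl | rfl
      · exact ⟨7, 0, by rw [hm]; norm_num⟩
      · exact ⟨8, 0, by rw [hm]; norm_num⟩
      · exact ⟨7, 1, by rw [hm]; norm_num⟩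
    exact Cfsg.Agent.S0144.result 2 3 a b Nat.prime_two Nat.prime_three hab
  · haveI := H1.pPrimeCore_normal' 2 C
    set N := pPrimeCore 2 C with hN
    by_contra hne
    have hm' : m ≤ 3 := by omega
    have hNd : Nat.card N ∣ m := by
      have hd : Nat.card N ∣ 128 * m := hm ▸ N.card_subgroup_dvd_card
      exact ((H1.card_pPrimeCore_coprime 2 C).pow_right 7).dvd_of_dvd_mul_left hd
    have hN3 : Nat.card N = 3 := by
      have hodd : (Nat.card N).Coprime 2 := H1.card_pPrimeCore_coprime 2 C
      have h1 : Nat.card N ≠ 1 := fun e => hne (Subgroup.card_eq_one.1 e)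
      rw [Nat.coprime_two_right] at hodd
      obtain ⟨r, hr⟩ := hodd
      have hm0 : 0 < m := by rcases hm3 with h | h | h <;> omega
      have hle := Nat.le_of_dvd hm0 hNd
      omega
    haveI : Fact (Nat.Prime 3) := ⟨Nat.prime_three⟩
    obtain ⟨n, hn⟩ := exists_prime_orderOf_dvd_card' 3 (dvd_of_eq hN3.symm)
    have hgen : ∀ w : N, ∃ i < 3, n ^ i = w := by
      intro w
      have hmem : w ∈ Subgroup.zpowers n := by
        rw [Subgroup.eq_top_of_card_eq (Subgroup.zpowers n) (by rw [Nat.card_zpowers, hn, hN3])]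
        trivial
      obtain ⟨i, hi⟩ := (mem_powers_iff_mem_zpowers.2 hmem)
      refine ⟨i % 3, Nat.mod_lt _ (by norm_num), ?_⟩
      rw [← hi, ← hn]
      exact pow_mod_orderOf n i
    obtain ⟨y, hy, -⟩ := exists_y
    have hno : orderOf ((n : C) : G22) = 3 := by rw [Subgroup.orderOf_coe, Subgroup.orderOf_coe, hn]
    have hcn : Nat.card (Subgroup.centralizer ({((n : C) : G22)} : Set G22)) ≤ 36 := by
      rw [isConj_card_centralizer (three_conj hy hno)]; exact (cent_y hy).1
    -- the conjugation map takes at most two values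
    classical
    haveI := Fintype.ofFinite C
    let f : C → Fin 3 := fun c =>
      ⟨(hgen ⟨c * n * c⁻¹, ‹N.Normal›.conj_mem _ n.2 c⟩).choose,
        (hgen ⟨c * n * c⁻¹, ‹N.Normal›.conj_mem _ n.2 c⟩).choose_spec.1⟩
    have hf : ∀ c, c * (n : C) * c⁻¹ = ((n ^ (f c).val : N) : C) := fun c =>
      (congrArg Subtype.val (hgen ⟨c * n * c⁻¹, ‹N.Normal›.conj_mem _ n.2 c⟩).choose_spec.2).symm
    have hfib : ∀ i : Fin 3, (Finset.univ.filter fun c => f c = i).card ≤ 36 := by
      intro i
      rcases (Finset.univ.filter fun c => f c = i).eq_empty_or_nonempty with h0 | ⟨c0, hc0⟩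
      · rw [h0]; simp
      refine le_trans ?_ hcn
      rw [Nat.card_eq_fintype_card]
      refine Finset.card_le_card_of_injOn
        (t := (Finset.univ : Finset (Subgroup.centralizer ({((n : C) : G22)} : Set G22))))
        (fun c => if h : ((c0⁻¹ * c : C) : G22) * ((n : C) : G22) =
            ((n : C) : G22) * ((c0⁻¹ * c : C) : G22) then
          ⟨_, Subgroup.mem_centralizer_singleton_iff.2 h⟩ else 1)
        (fun _ _ => Finset.mem_coe.2 (Finset.mem_univ _)) ?_
      have key : ∀ c ∈ Finset.univ.filter (fun c => f c = i),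
          ((c0⁻¹ * c : C) : G22) * ((n : C) : G22) = ((n : C) : G22) * ((c0⁻¹ * c : C) : G22) := by
        intro c hc
        have e : c * (n : C) * c⁻¹ = c0 * (n : C) * c0⁻¹ := by
          rw [hf, hf, (Finset.mem_filter.1 hc).2, (Finset.mem_filter.1 hc0).2]
        have e' : c0⁻¹ * c * (n : C) = (n : C) * (c0⁻¹ * c) := by
          calc c0⁻¹ * c * (n : C) = c0⁻¹ * (c * (n : C) * c⁻¹) * c := by group
            _ = c0⁻¹ * (c0 * (n : C) * c0⁻¹) * c := by rw [e]
            _ = (n : C) * (c0⁻¹ * c) := by group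
        exact congrArg Subtype.val e'
      intro c hc d hd hcd
      rw [Finset.mem_coe] at hc hd
      simp only [dif_pos (key c hc), dif_pos (key d hd)] at hcd
      have e := congrArg Subtype.val hcd
      exact mul_left_cancel (a := c0⁻¹) (Subtype.ext e)
    have hcardC : Nat.card C ≤ 3 * 36 := by
      rw [Nat.card_eq_fintype_card, ← Finset.card_univ,
        Finset.card_eq_sum_card_fiberwise (f := f) (t := Finset.univ)
          (fun _ _ => Finset.mem_coe.2 (Finset.mem_univ _))]
      exact (Finset.sum_le_sum fun i _ => hfib i).trans (by simp)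
    omega

end H25.M22
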