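import Cfsg.Agent.H87.DataM22

/-! Class representatives of M22 and conjugators. -/

namespace H25.M22

/-- An involution. -/
def zN : ℕ := 974338656214362718975024378963690560

/-- An involution central in the Sylow subgroup. -/
def zC : ℕ := 958359841193275559058527489894996000

/-- An element of order three. -/
def yN : ℕ := 966241839990332354729067874495794240

/-- A second element of order three commuting with the first. -/
def wN : ℕ := 984696424929063628813077091117499488

/-- Two commuting involutions centralizing the element of order three. -/
def uN : ℕ := 967812279691448225500382947153381408

/-- The second one. -/
def vN : ℕ := 963721886883755259286232606933354528

/-- Conjugators from the involution to the involutions of the Sylow subgroup. -/
def zConj : List ℕ := [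
  958278772843602223450101325293168064,
  981977353926737496383669769067616320,
  982044446524112603380386730827089312,
  965221454209908039657515837152301760,
  983435072843990828779021698901151808,
  976948575222134519054212529634057600,
  958771662510842883882551563438501536,
  969759939571565454317285532003110208,
  959860772582086674318535927384286368,
  976534938357819796918348553683113344,
  964796454430784171696459747077308544,
  983432601683830170375962311705239648,
  969113235467352512047835897191379392,
  974945649347763031491658327544944768,
  958841232640376364171546617730049184,
  958612018452562901129893438395069056,
  984232312344490255413058426638973568,
  982136998478403098147381793448400992,
  963923379909912283500629681837124896,
  965291412609584737756926382756141184,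
  963636517939436385244952414409917856,
  958189494280768193602649755507338688,
  975125180363982612281028399315591680,
  969918386908644146193015391049551968,
  963387067571628502927653667181637248,
  983116781314688806835299270102667424,
  976884015204812503118244348944915904,
  963266639506156363624389969287817888,
  983466252031364474602657608926500096,
  963510385582746549893664995872415424,
  968540383836919550536461688123103904,
  961250797327614295485505349781401920,
  958878388061500170986276163223367776,
  976321262779482459801576538740209984,
  958883060434097825667691701157862720]

/-- Conjugators within the Sylow 3-subgroup. -/
def yConj : List ℕ := [
  968744269647876643548914405544737312,
  982909144811777136362883299048342976,
  984818244535754528103549039458486304,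
  967778248911602263855174759706929536,
  957414250344787967254413050013950656,
  979202557212185692351740521724578848,
  972387626639071109507788459363476096,
  963925531838262660866106425548804480]

end H25.M22
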