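import Cfsg.Agent.H12.Orth

/-!
# Subrepresentations of `End V` with a monomial basis
-/

set_option autoImplicit false
set_option linter.unusedSectionVars false
set_option linter.style.haveILetI false

open Cfsg Module
open scoped ComplexConjugate

namespace H25

universe u

variable {G : Type u} [Group G] [Finite G]
variable {V : Type} [AddCommGroup V] [Module ℂ V] [FiniteDimensional ℂ V]

/-- A family of operators permuted up to scalars by conjugation yields a constituent of `χ * conj χ`. -/
theorem exists_split_monomial (ρ : Representation ℂ G V) {ι : Type*} [Fintype ι] [DecidableEq ι]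
    (T : ι → Module.End ℂ V) (hT : LinearIndependent ℂ T) (s : G → ι → ι) (c : G → ι → ℂ)
    (h : ∀ g i, ρ g * T i * ρ g⁻¹ = c g i • T (s g i)) :
    IsCharacter G (fun g => ∑ i, if s g i = i then c g i else 0) ∧
    IsCharacter G (fun g => ρ.character g * conj (ρ.character g) -
      ∑ i, if s g i = i then c g i else 0) := by
  let L := Representation.linHom ρ ρ
  have hL : ∀ g i, L g (T i) = c g i • T (s g i) := fun g i => by
    rw [← h g i]; rfl
  let W : Submodule ℂ (Module.End ℂ V) := Submodule.span ℂ (Set.range T)
  have hW : ∀ g, ∀ x ∈ W, L g x ∈ W := fun g x hx => by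
    induction hx using Submodule.span_induction with
    | mem y hy =>
      obtain ⟨i, rfl⟩ := hy
      rw [hL]
      exact W.smul_mem _ (Submodule.subset_span ⟨_, rfl⟩)
    | zero => simp
    | add y z _ _ ihy ihz => rw [map_add]; exact W.add_mem ihy ihz
    | smul a y _ ih => rw [map_smul]; exact W.smul_mem _ ih
  let A : Subrepresentation L := ⟨W, fun g x hx => hW g x hx⟩
  let b : Basis ι ℂ A.toSubmodule := Basis.span hT
  have hb : ∀ i, ((b i : A.toSubmodule) : Module.End ℂ V) = T i := fun i => congrArg Subtype.val (Basis.span_apply hT i)
  have hA : A.toRepresentation.character = fun g => ∑ i, if s g i = i then c g i else 0 := by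
    funext g
    have hAb : ∀ i, A.toRepresentation g (b i) = c g i • b (s g i) := fun i => by
      apply Subtype.ext
      show L g (b i : Module.End ℂ V) = _
      rw [Submodule.coe_smul, hb, hb, hL]
    rw [Representation.character, LinearMap.trace_eq_matrix_trace ℂ b, Matrix.trace]
    refine Finset.sum_congr rfl fun i _ => ?_
    rw [Matrix.diag, LinearMap.toMatrix_apply, hAb, map_smul, b.repr_self,
      Finsupp.smul_apply, Finsupp.single_apply, smul_eq_mul, mul_ite, mul_one, mul_zero]
  haveI : NeZero (Nat.card G : ℂ) := ⟨by exact_mod_cast Nat.card_pos.ne'⟩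
  have hss : ComplementedLattice (Subrepresentation L) :=
    inferInstanceAs L.IsSemisimpleRepresentation
  obtain ⟨B, hB⟩ := exists_isCompl A
  have hAB : IsCompl A.toSubmodule B.toSubmodule := by
    refine ⟨disjoint_iff.2 ?_, codisjoint_iff.2 ?_⟩
    · exact congrArg Subrepresentation.toSubmodule hB.inf_eq_bot
    · exact congrArg Subrepresentation.toSubmodule hB.sup_eq_top
  have hsum := H12.character_eq_add_of_isCompl L A B hAB
  refine ⟨hA ▸ H12.isCharacter_character _, ?_⟩
  have hBc : (fun g => ρ.character g * conj (ρ.character g) -
      ∑ i, if s g i = i then c g i else 0) = B.toRepresentation.character := by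
    funext g
    have := congrFun hsum g
    rw [Pi.add_apply, hA, Representation.char_linHom, H12.character_inv, mul_comm] at this
    rw [this]; ring
  rw [hBc]
  exact H12.isCharacter_character _

end H25
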