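import Mathlib
import Cfsg.Agent.H19.FieldPerm

/-!
# Orbit counts for intertwined permutation modules

If two permutation actions of a group, commuting with involutions, are intertwined by an invertible
matrix over a field, then they have equally many orbits stable under the involutions.
-/

set_option autoImplicit false

namespace H25.RealP

variable {H I J : Type*}

/-- The relation generating the orbits of a family of maps. -/
def orbRel (σ : H → I → I) (x y : I) : Prop := ∃ h, σ h x = y

/-- Functions invariant under a family of maps. -/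
def famInv (F : Type*) [Field F] (σ : H → I → I) : Submodule F (I → F) :=
  ⨅ h, H19.invFun' F (σ h)

theorem mem_famInv {F : Type*} [Field F] {σ : H → I → I} {f : I → F} :
    f ∈ famInv F σ ↔ ∀ h i, f (σ h i) = f i := by
  simp only [famInv, Submodule.mem_iInf]
  rfl

/-- Invariant functions are functions on the orbits. -/
def famInvEquiv (F : Type*) [Field F] (σ : H → I → I) :
    famInv F σ ≃ₗ[F] (Quot (orbRel σ) → F) where
  toFun f := Quot.lift (f : I → F) (by rintro x _ ⟨h, rfl⟩; exact ((mem_famInv.mp f.2) h x).symm)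
  invFun g := ⟨fun i => g (Quot.mk _ i),
    mem_famInv.mpr fun h i => congrArg g (Quot.sound ⟨h, rfl⟩).symm⟩
  left_inv _ := rfl
  right_inv g := funext fun q => Quot.inductionOn q fun _ => rfl
  map_add' _ _ := funext fun q => Quot.inductionOn q fun _ => rfl
  map_smul' _ _ := funext fun q => Quot.inductionOn q fun _ => rfl

theorem finrank_famInv (F : Type*) [Field F] [Finite I] (σ : H → I → I) :
    Module.finrank F (famInv F σ) = Nat.card (Quot (orbRel σ)) := by
  haveI : Finite (Quot (orbRel σ)) := Finite.of_surjective _ Quot.mk_surjective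
  haveI := Fintype.ofFinite (Quot (orbRel σ))
  rw [(famInvEquiv F σ).finrank_eq, Module.finrank_pi, Nat.card_eq_fintype_card]

/-- Adjoin a map to a family. -/
def addMap (σ : H → I → I) (s : I → I) : Option H → I → I := fun o => o.elim s σ

theorem mem_famInv_addMap {F : Type*} [Field F] {σ : H → I → I} {s : I → I} {f : I → F} :
    f ∈ famInv F (addMap σ s) ↔ f ∈ famInv F σ ∧ ∀ i, f (s i) = f i := by
  rw [mem_famInv, mem_famInv, Option.forall]
  exact and_comm

theorem two_mul_finrank_addMap (F : Type*) [Field F] [Finite I] (σ : H → I → I) (s : I → I)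
    (hs : ∀ i, s (s i) = i) (hc : ∀ h i, s (σ h i) = σ h (s i)) :
    2 * Module.finrank F (famInv F (addMap σ s)) = Nat.card (Quot (orbRel σ)) +
      Nat.card {q : Quot (orbRel σ) // Quot.map s (fun x y ⟨h, e⟩ => ⟨h, by rw [← hc, e]⟩) q = q} := by
  classical
  haveI : Finite (Quot (orbRel σ)) := Finite.of_surjective _ Quot.mk_surjective
  haveI := Fintype.ofFinite (Quot (orbRel σ))
  have hle : famInv F (addMap σ s) ≤ famInv F σ := fun f hf => (mem_famInv_addMap.mp hf).1
  let sb : Quot (orbRel σ) → Quot (orbRel σ) :=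
    Quot.map s (fun x y ⟨h, e⟩ => ⟨h, by rw [← hc, e]⟩)
  have hsb : ∀ q, sb (sb q) = q := fun q => Quot.inductionOn q fun i => congrArg (Quot.mk _) (hs i)
  have e : famInv F (addMap σ s) ≃ₗ[F] H19.invFun' F sb :=
    { toFun := fun f => ⟨famInvEquiv F σ ⟨f, hle f.2⟩,
        fun q => Quot.inductionOn q fun i => (mem_famInv_addMap.mp f.2).2 i⟩
      invFun := fun g => ⟨fun i => (g : Quot (orbRel σ) → F) (Quot.mk _ i),
        mem_famInv_addMap.mpr ⟨((famInvEquiv F σ).symm g).2, fun i => g.2 (Quot.mk _ i)⟩⟩
      left_inv := fun f => rfl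
      right_inv := fun g => Subtype.ext (funext fun q => Quot.inductionOn q fun _ => rfl)
      map_add' := fun f g => Subtype.ext (funext fun q => Quot.inductionOn q fun _ => rfl)
      map_smul' := fun c f => Subtype.ext (funext fun q => Quot.inductionOn q fun _ => rfl) }
  rw [e.finrank_eq, H19.two_mul_finrank_invFun sb hsb]
  simp only [Nat.card_eq_fintype_card]
  rfl

/-- Mutually inverse matrices intertwining two families give equal invariant dimensions. -/
theorem finrank_famInv_eq {F : Type*} [Field F] [Fintype I] [Fintype J]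
    [DecidableEq I] [DecidableEq J] (a : I → J → F) (b : J → I → F) (n : F) (hn : n ≠ 0)
    (hab : ∀ i i', ∑ j, a i j * b j i' = if i = i' then n else 0)
    (hba : ∀ j j', ∑ i, b j i * a i j' = if j = j' then n else 0)
    (σ : H → I → I) (τ : H → J → J) (hτ : ∀ h, Function.Bijective (τ h))
    (ha : ∀ h i j, a (σ h i) (τ h j) = a i j) :
    Module.finrank F (famInv F σ) = Module.finrank F (famInv F τ) := by
  let A : (J → F) →ₗ[F] (I → F) :=
    { toFun := fun f i => ∑ j, a i j * f j
      map_add' := fun f g => by funext i; simp [mul_add, Finset.sum_add_distrib]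
      map_smul' := fun c f => by funext i; simp [Finset.mul_sum, mul_left_comm] }
  let B : (I → F) →ₗ[F] (J → F) :=
    { toFun := fun f j => ∑ i, n⁻¹ * b j i * f i
      map_add' := fun f g => by funext i; simp [mul_add, Finset.sum_add_distrib]
      map_smul' := fun c f => by funext i; simp [Finset.mul_sum, mul_left_comm] }
  have hAB : ∀ f, A (B f) = f := by
    intro f; funext i
    show ∑ j, a i j * ∑ i', n⁻¹ * b j i' * f i' = f i
    simp only [Finset.mul_sum]
    rw [Finset.sum_comm]
    have : ∀ i', ∑ j, a i j * (n⁻¹ * b j i' * f i') = n⁻¹ * f i' * ∑ j, a i j * b j i' := fun i' => by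
      rw [Finset.mul_sum]; exact Finset.sum_congr rfl fun j _ => by ring
    simp only [this, hab]
    simp [mul_ite, mul_comm n⁻¹, hn]
  have hBA : ∀ f, B (A f) = f := by
    intro f; funext j
    show ∑ i, n⁻¹ * b j i * ∑ j', a i j' * f j' = f j
    simp only [Finset.mul_sum]
    rw [Finset.sum_comm]
    have : ∀ j', ∑ i, n⁻¹ * b j i * (a i j' * f j') = n⁻¹ * f j' * ∑ i, b j i * a i j' := fun j' => by
      rw [Finset.mul_sum]; exact Finset.sum_congr rfl fun i _ => by ring
    simp only [this, hba]
    simp [mul_ite, mul_comm n⁻¹, hn]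
  let E : (J → F) ≃ₗ[F] (I → F) := LinearEquiv.ofLinearMap A B (LinearMap.ext hAB) (LinearMap.ext hBA)
  have hA : ∀ h f i, A (fun j => f (τ h j)) i = A f (σ h i) := by
    intro h f i
    show ∑ j, a i j * f (τ h j) = ∑ j, a (σ h i) j * f j
    refine Fintype.sum_equiv (Equiv.ofBijective _ (hτ h)) _ _ fun j => ?_
    show a i j * f (τ h j) = a (σ h i) (τ h j) * f (τ h j)
    rw [ha]
  have hmap : (famInv F τ).map (E : (J → F) →ₗ[F] (I → F)) = famInv F σ := by
    ext g
    constructor
    · rintro ⟨f, hf, rfl⟩
      refine mem_famInv.mpr fun h i => ?_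
      show A f (σ h i) = A f i
      rw [← hA, show (fun j => f (τ h j)) = f from funext (mem_famInv.mp hf h)]
    · intro hg
      refine ⟨B g, mem_famInv.mpr fun h j => ?_, E.apply_symm_apply g⟩
      have h1 : A (fun j => B g (τ h j)) = A (B g) := by
        funext i
        rw [hA, hAB]
        exact mem_famInv.mp hg h i
      exact congrFun (Function.LeftInverse.injective hBA h1) j
  rw [← hmap]
  exact (LinearEquiv.finrank_eq (E.submoduleMap (famInv F τ))).symm

/-- Equally many involution-stable orbits. -/
theorem card_stable_orbits_eq {F : Type*} [Field F] [Fintype I] [Fintype J]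
    [DecidableEq I] [DecidableEq J] (a : I → J → F) (b : J → I → F) (n : F) (hn : n ≠ 0)
    (hab : ∀ i i', ∑ j, a i j * b j i' = if i = i' then n else 0)
    (hba : ∀ j j', ∑ i, b j i * a i j' = if j = j' then n else 0)
    (σ : H → I → I) (τ : H → J → J) (hτ : ∀ h, Function.Bijective (τ h))
    (ha : ∀ h i j, a (σ h i) (τ h j) = a i j)
    (s : I → I) (t : J → J) (hs : ∀ i, s (s i) = i) (ht : ∀ j, t (t j) = j)
    (hst : ∀ i j, a (s i) (t j) = a i j)
    (hcs : ∀ h i, s (σ h i) = σ h (s i)) (hct : ∀ h j, t (τ h j) = τ h (t j)) :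
    Nat.card {q : Quot (orbRel σ) // Quot.map s (fun x y ⟨h, e⟩ => ⟨h, by rw [← hcs, e]⟩) q = q} =
      Nat.card {q : Quot (orbRel τ) // Quot.map t (fun x y ⟨h, e⟩ => ⟨h, by rw [← hct, e]⟩) q = q} := by
  have h1 := finrank_famInv_eq a b n hn hab hba σ τ hτ ha
  have h2 := finrank_famInv_eq a b n hn hab hba (addMap σ s) (addMap τ t)
    (fun o => by cases o with
      | none => exact Function.Involutive.bijective ht
      | some h => exact hτ h)
    (fun o i j => by cases o with
      | none => exact hst i j
      | some h => exact ha h i j)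
  rw [finrank_famInv, finrank_famInv] at h1
  have h3 := two_mul_finrank_addMap F σ s hs hcs
  have h4 := two_mul_finrank_addMap F τ t ht hct
  omega

end H25.RealP
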