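import Mathlib

/-!
# Sums of invariant weights under a p-group action
-/

set_option autoImplicit false

namespace H25

open MulAction

open scoped Classical in
/-- An invariant weight has the same sum, modulo `p`, as over the fixed points. -/
theorem sum_modEq_sum_fixedPoints {P α : Type*} [Group P] [Finite P] [MulAction P α] [Fintype α]
    {p : ℕ} [Fact p.Prime] (hP : IsPGroup p P) (f : α → ℕ) (hf : ∀ (x : P) a, f (x • a) = f a) :
    ∑ a, f a ≡ ∑ a ∈ Finset.univ.filter (fun a => a ∈ fixedPoints P α), f a [MOD p] := by
  classical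
  let β := Σ a : α, Fin (f a)
  letI act : MulAction P β :=
    { smul := fun x b => ⟨x • b.1, Fin.cast (hf x b.1).symm b.2⟩
      one_smul := fun b => by
        refine Sigma.ext (one_smul P b.1) ?_
        exact (Fin.heq_ext_iff (hf 1 b.1)).2 rfl
      mul_smul := fun x y b => by
        refine Sigma.ext (mul_smul x y b.1) ?_
        exact (Fin.heq_ext_iff ((hf (x * y) b.1).trans ((hf x (y • b.1)).trans (hf y b.1)).symm)).2 rfl }
  have h := hP.card_modEq_card_fixedPoints β
  have h1 : Nat.card β = ∑ a, f a := by simp [β, Nat.card_eq_fintype_card]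
  have h2 : Nat.card (fixedPoints P β) =
      ∑ a ∈ Finset.univ.filter (fun a => a ∈ fixedPoints P α), f a := by
    have hmem : ∀ b : β, b ∈ fixedPoints P β ↔ b.1 ∈ fixedPoints P α := by
      intro b
      simp only [mem_fixedPoints]
      refine forall_congr' fun x => ⟨fun hb => congrArg Sigma.fst hb, fun hb => ?_⟩
      exact Sigma.ext hb ((Fin.heq_ext_iff (hf x b.1)).2 rfl)
    rw [Nat.card_congr (Equiv.subtypeEquivRight hmem : fixedPoints P β ≃ {b : β // b.1 ∈ fixedPoints P α})]
    rw [Nat.card_eq_fintype_card, Fintype.card_subtype]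
    rw [show (Finset.univ.filter fun b : β => b.1 ∈ fixedPoints P α) =
        (Finset.univ.filter (fun a => a ∈ fixedPoints P α)).sigma (fun _ => Finset.univ) by
          ext b; rw [Finset.mem_sigma, Finset.mem_filter, Finset.mem_filter]; simp only [Finset.mem_univ, true_and, and_true],
      Finset.card_sigma]
    exact Finset.sum_congr rfl fun a _ => (Finset.card_univ).trans (Fintype.card_fin _)
  rwa [h1, h2] at h

end H25
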