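import Cfsg.Agent.H12.Orth
import Cfsg.Agent.H37.Two
import Cfsg.Agent.H37.Card
import Cfsg.Agent.H41.SLBounds
import Cfsg.Agent.H64.Char2Graph
import Cfsg.Agent.H28.CITGraph.Families
import Cfsg.Agent.H65.ElementaryPairs

/-!
In `PSL(2, 2ⁿ)` the number `χ(1) - χ(u)` is `2ⁿ` for every nonprincipal irreducible `χ` and every
involution `u`.
-/

set_option autoImplicit false
set_option linter.unusedSectionVars false
set_option linter.style.haveILetI false

open Cfsg Matrix
open scoped ComplexConjugate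

namespace H25.PSLConst

section SL

variable {F : Type*} [Field F] [Fintype F] [CharP F 2]

local notation "S2" => Matrix.SpecialLinearGroup (Fin 2) F

theorem exists_sqrt (x : F) : ∃ r : F, r * r = x := by
  obtain ⟨r, hr⟩ := FiniteField.isSquare_of_char_two (ringChar.eq F 2) x
  exact ⟨r, hr.symm⟩

theorem upper2_mul (b c : F) : (H37.upper2 b : S2) * H37.upper2 c = H37.upper2 (b + c) := by
  ext i j
  fin_cases i <;> fin_cases j <;> simp [Matrix.mul_apply, Fin.sum_univ_two, add_comm]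

theorem upper2_zero : (H37.upper2 (0 : F) : S2) = 1 := by
  ext i j
  fin_cases i <;> fin_cases j <;> simp

theorem upper2_sq (b : F) : (H37.upper2 b : S2) * H37.upper2 b = 1 := by
  rw [upper2_mul, CharTwo.add_self_eq_zero, upper2_zero]

theorem upper2_injective : Function.Injective (H37.upper2 : F → S2) := fun b c h => by
  simpa using congrArg (fun g : S2 => (g : Matrix (Fin 2) (Fin 2) F) 0 1) h

theorem upper2_ne_one {b : F} (hb : b ≠ 0) : (H37.upper2 b : S2) ≠ 1 := fun h =>
  hb (upper2_injective (h.trans upper2_zero.symm))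

theorem lower2_sq (b : F) : (H37.lower2 b : S2) * H37.lower2 b = 1 := by
  ext i j
  fin_cases i <;> fin_cases j <;> simp [Matrix.mul_apply, Fin.sum_univ_two, CharTwo.add_self_eq_zero]

theorem isConj_upper2_one {g : S2} (hg : g * g = 1) (hg1 : g ≠ 1) :
    IsConj (H37.upper2 (1 : F)) g := by
  obtain ⟨M, hMdef⟩ : ∃ M : Matrix (Fin 2) (Fin 2) F, (g : Matrix (Fin 2) (Fin 2) F) = M :=
    ⟨_, rfl⟩
  have hMM : M * M = 1 := hMdef ▸ congrArg Subtype.val hg
  have h00 := congrFun (congrFun hMM 0) 0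
  have h01 := congrFun (congrFun hMM 0) 1
  have h10 := congrFun (congrFun hMM 1) 0
  have h11 := congrFun (congrFun hMM 1) 1
  simp [Matrix.mul_apply, Fin.sum_univ_two] at h00 h01 h10 h11
  have hd : M 1 1 = M 0 0 := by
    apply CharTwo.sq_inj.1
    linear_combination h11 - h00
  have h2 : (2 : F) = 0 := CharP.cast_eq_zero F 2
  by_cases hc : M 1 0 = 0
  · have ha : M 0 0 = 1 := by
      apply CharTwo.sq_inj.1
      rw [hc, mul_zero, add_zero] at h00
      linear_combination h00
    obtain ⟨r, hr⟩ := exists_sqrt (M 0 1)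
    have hb : M 0 1 ≠ 0 := fun hb => hg1 (by
      ext i j
      fin_cases i <;> fin_cases j <;> simp [hMdef, hc, hb, hd, ha])
    have hr0 : r ≠ 0 := fun e => hb (by rw [← hr, e, mul_zero])
    obtain ⟨D, hD⟩ : ∃ D : S2, (D : Matrix (Fin 2) (Fin 2) F) = !![r, 0; 0, r⁻¹] :=
      ⟨⟨_, by simp [det_fin_two_of, hr0]⟩, rfl⟩
    refine isConj_iff.2 ⟨D, mul_inv_eq_iff_eq_mul.2 ?_⟩
    ext i j
    fin_cases i <;> fin_cases j <;> simp [Matrix.mul_apply, Fin.sum_univ_two, hMdef, hD, hc, hd, ha, ← hr, hr0]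
  · obtain ⟨s, hs⟩ := exists_sqrt (M 1 0)⁻¹
    have hdet : !![s * (M 0 0 + 1), s; s * M 1 0, 0].det = 1 := by
      rw [det_fin_two_of]
      have : s * s * M 1 0 = 1 := by rw [hs, inv_mul_cancel₀ hc]
      linear_combination this - s * s * M 1 0 * h2
    obtain ⟨D, hD⟩ : ∃ D : S2,
        (D : Matrix (Fin 2) (Fin 2) F) = !![s * (M 0 0 + 1), s; s * M 1 0, 0] := ⟨⟨_, hdet⟩, rfl⟩
    refine isConj_iff.2 ⟨D, mul_inv_eq_iff_eq_mul.2 ?_⟩
    ext i j
    fin_cases i <;> fin_cases j <;> simp [Matrix.mul_apply, Fin.sum_univ_two, hMdef, hD, hd]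
    · linear_combination (-s) * h00
    · linear_combination s * h2
    · linear_combination (-s * M 1 0 * M 0 0) * h2
    · ring

theorem card_centralizer_upper2_one :
    Nat.card (Subgroup.centralizer ({H37.upper2 (1 : F)} : Set S2)) = Nat.card F := by
  refine (Nat.card_congr (Equiv.ofBijective
    (fun b : F => (⟨H37.upper2 b, Subgroup.mem_centralizer_singleton_iff.2
      (by rw [upper2_mul, upper2_mul, add_comm])⟩ :
        Subgroup.centralizer ({H37.upper2 (1 : F)} : Set S2))) ⟨?_, ?_⟩)).symm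
  · exact fun b c h => upper2_injective (congrArg Subtype.val h)
  · intro x
    obtain ⟨g, hgx⟩ : ∃ g : S2, (x : S2) = g := ⟨_, rfl⟩
    have hg : g * H37.upper2 1 = H37.upper2 1 * g :=
      hgx ▸ Subgroup.mem_centralizer_singleton_iff.1 x.2
    have he := congrArg (fun y : S2 => (y : Matrix (Fin 2) (Fin 2) F)) hg
    obtain ⟨M, hMdef⟩ : ∃ M : Matrix (Fin 2) (Fin 2) F, (g : Matrix (Fin 2) (Fin 2) F) = M :=
      ⟨_, rfl⟩
    have hM : M.det = 1 := hMdef ▸ g.2
    simp only [Matrix.SpecialLinearGroup.coe_mul, H37.coe_upper2, hMdef] at he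
    have h00 := congrFun (congrFun he 0) 0
    have h01 := congrFun (congrFun he 0) 1
    simp [Matrix.mul_apply, Fin.sum_univ_two] at h00 h01
    have hc : M 1 0 = 0 := h00
    have hd : M 1 1 = M 0 0 := by linear_combination -h01
    have ha : M 0 0 = 1 := by
      apply CharTwo.sq_inj.1
      rw [det_fin_two, hc, hd, mul_zero, sub_zero] at hM
      linear_combination hM
    refine ⟨M 0 1, ?_⟩
    refine Subtype.ext (Eq.trans (Subtype.ext ?_) hgx.symm)
    ext i j
    fin_cases i <;> fin_cases j <;> simp [hMdef, hc, hd, ha]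

end SL

theorem _root_.H25.psl_const_diff {G : Type*} [Group G] [Finite G] {F : Type} [Field F] [Fintype F]
    {n : ℕ} (hn : 2 ≤ n) (hF : Fintype.card F = 2 ^ n)
    (e : G ≃* Matrix.ProjectiveSpecialLinearGroup (Fin 2) F) (u : G) (hu : u ≠ 1) (hu2 : u ^ 2 = 1)
    (χ : Cfsg.IrrCharacter G) (hχ : (χ : G → ℂ) ≠ fun _ => 1) :
    (χ : G → ℂ) 1 - (χ : G → ℂ) u = (2 ^ n : ℂ) := by
  classical
  haveI := Fintype.ofFinite G
  haveI : CharP F 2 := H28.CITGraph.charTwo_of_card hF
  obtain ⟨ι⟩ := H64.psl2_char2_equiv (F := F)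
  let f : Matrix.SpecialLinearGroup (Fin 2) F ≃* G := ι.trans e.symm
  obtain ⟨q, hq⟩ : ∃ q, q = 2 ^ n := ⟨_, rfl⟩
  have hqF : Nat.card F = q := by rw [Nat.card_eq_fintype_card, hF, hq]
  have hG : Nat.card G + q = q ^ 3 := by
    rw [Nat.card_congr e.toEquiv, H28.CITGraph.card_psl2_two (by omega) hF, ← hq]
    obtain ⟨k, rfl⟩ : ∃ k, q = k + 1 := ⟨q - 1, by have := hq ▸ Nat.one_le_two_pow (n := n); omega⟩
    simp only [Nat.add_sub_cancel]
    ring
  -- all nontrivial solutions of `x² = 1` are conjugate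
  have hconj : ∀ x y : G, x ^ 2 = 1 → x ≠ 1 → y ^ 2 = 1 → y ≠ 1 → IsConj x y := by
    intro x y hx hx1 hy hy1
    have h : ∀ z : G, z ^ 2 = 1 → z ≠ 1 → IsConj (f (H37.upper2 1)) z := fun z hz hz1 => by
      have h2 := f.toMonoidHom.map_isConj (isConj_upper2_one (g := f.symm z)
        (by rw [← map_mul, ← pow_two, hz, map_one])
        (fun h0 => hz1 (f.symm.injective (h0.trans (map_one f.symm).symm))))
      simpa using h2
    exact (h x hx hx1).symm.trans (h y hy hy1)
  have hinv : ∀ b : F, f (H37.upper2 b) ^ 2 = 1 := fun b => by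
    rw [← map_pow, pow_two, upper2_sq, map_one]
  -- the centraliser
  have hC : Nat.card (Subgroup.centralizer ({u} : Set G)) = q := by
    obtain ⟨g, rfl⟩ := isConj_iff.1 (hconj _ u (hinv 1)
      (fun h => upper2_ne_one one_ne_zero (f.injective (h.trans (map_one f).symm))) hu2 hu)
    rw [← hqF, ← card_centralizer_upper2_one (F := F)]
    let φ : Matrix.SpecialLinearGroup (Fin 2) F ≃* G := f.trans (MulAut.conj g)
    refine (Nat.card_congr (φ.toEquiv.subtypeEquiv fun x => ?_)).symm
    show x ∈ Subgroup.centralizer _ ↔ φ x ∈ Subgroup.centralizer _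
    rw [Subgroup.mem_centralizer_singleton_iff, Subgroup.mem_centralizer_singleton_iff,
      show g * f (H37.upper2 1) * g⁻¹ = φ (H37.upper2 1) from rfl, ← map_mul, ← map_mul,
      φ.injective.eq_iff]
  -- the elementary abelian subgroup of order `q`
  let P : Subgroup G :=
    { carrier := Set.range fun b : F => f (H37.upper2 b)
      one_mem' := ⟨0, by simp [upper2_zero]⟩
      mul_mem' := by
        rintro _ _ ⟨b, rfl⟩ ⟨c, rfl⟩
        exact ⟨b + c, by simp [← map_mul, upper2_mul]⟩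
      inv_mem' := by
        rintro _ ⟨b, rfl⟩
        exact ⟨b, eq_inv_of_mul_eq_one_left (by simp [← map_mul, upper2_sq])⟩ }
  have hPc : Nat.card P = q := hqF ▸ (Nat.card_congr
    (Equiv.ofInjective _ (f.injective.comp upper2_injective))).symm
  -- the integer `m`
  have key : ∀ ψ : IrrCharacter G, ∃ m : ℕ, (ψ : G → ℂ) 1 - (ψ : G → ℂ) u = (q : ℂ) * m ∧
      conj ((ψ : G → ℂ) u) = (ψ : G → ℂ) u ∧ (ψ ≠ H12.oneIrr G → 1 ≤ m) := by
    intro ψ
    have hval : ∀ y : G, y ^ 2 = 1 → y ≠ 1 → (ψ : G → ℂ) y = (ψ : G → ℂ) u := fun y hy hy1 =>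
      H12.IsClassFunction.of_isConj (H12.irr_isClassFunction ψ) (hconj y u hy hy1 hu2 hu)
    obtain ⟨x, hxP, hx1⟩ : ∃ x ∈ P, x ≠ 1 := ⟨f (H37.upper2 1), ⟨1, rfl⟩,
      fun h => upper2_ne_one one_ne_zero (f.injective (h.trans (map_one f).symm))⟩
    have hPsq : ∀ y ∈ P, y ^ 2 = 1 := by
      rintro _ ⟨b, rfl⟩
      exact hinv b
    obtain ⟨c, hc, hdiv⟩ := H65.ElemPair.exists_int_value P hxP hx1 ψ fun y hy hy1 => by
      rw [hval y (hPsq y hy) hy1, hval x (hPsq x hxP) hx1]
    rw [hval x (hPsq x hxP) hx1] at hc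
    rw [hPc] at hdiv
    obtain ⟨k, hk⟩ := hdiv
    have h1 : (ψ : G → ℂ) 1 = ((charDegree (ψ : G → ℂ) : ℤ) : ℂ) := by
      rw [H12.irr_apply_one, Int.cast_natCast]
      rfl
    have hle : c ≤ (charDegree (ψ : G → ℂ) : ℤ) := by
      have h2 := (Complex.re_le_norm _).trans
        (H12.IsCharacter.norm_le (H12.isCharacter_irr ψ) u)
      rw [hc] at h2
      simp at h2
      exact_mod_cast h2
    have hk0 : 0 ≤ k := by
      have hq0 : 0 < (q : ℤ) := by
        have := hq ▸ Nat.one_le_two_pow (n := n)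
        omega
      nlinarith
    obtain ⟨m, rfl⟩ := Int.eq_ofNat_of_zero_le hk0
    refine ⟨m, ?_, by rw [hc, map_intCast], fun hψ => ?_⟩
    · rw [h1, hc, ← Int.cast_sub, hk]
      push_cast
      ring
    by_contra hm
    obtain rfl : m = 0 := by omega
    have hu1 : (ψ : G → ℂ) u = (ψ : G → ℂ) 1 := by
      rw [h1, hc]
      congr 1
      push_cast at hk
      linarith
    obtain ⟨d, ρ, hρ, he⟩ := ψ.2
    have hker : ∀ y : G, y ^ 2 = 1 → y ∈ ρ.ker := fun y hy => by
      by_cases hy1 : y = 1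
      · exact hy1 ▸ one_mem _
      rw [MonoidHom.mem_ker]
      refine ((H12.character_eq_finrank_iff ρ y).1 ?_).trans Module.End.one_eq_id.symm
      rw [← Representation.char_one ρ]
      simp only [he, hval y hy hy1, hu1]
    have htop : ρ.ker.comap f.toMonoidHom = ⊤ := H37.eq_top_of_upper2_lower2 _
      (fun b => hker _ (hinv b))
      (fun b => hker _ (show f (H37.lower2 b) ^ 2 = 1 by rw [← map_pow, pow_two, lower2_sq, map_one]))
    have hcst : ∀ g : G, (ψ : G → ℂ) g = (ψ : G → ℂ) 1 := fun g => by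
      have : f.symm g ∈ ρ.ker.comap f.toMonoidHom := htop ▸ Subgroup.mem_top _
      simp [MonoidHom.mem_ker] at this
      rw [← he]
      simp [Representation.character, this]
    have h0 := H12.classInner_irr_ne hψ
    rw [H12.classInner_def] at h0
    simp only [hcst, H12.oneIrr_apply, map_one, mul_one, Finset.sum_const, Finset.card_univ,
      nsmul_eq_mul, ← Nat.card_eq_fintype_card, ← mul_assoc] at h0
    rw [inv_mul_cancel₀ H12.card_ne_zero', one_mul] at h0
    exact H12.irr_apply_one_ne_zero ψ h0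
  choose m hm hreal hpos using key
  have hm0 : m (H12.oneIrr G) = 0 := by
    have h := hm (H12.oneIrr G)
    rw [H12.oneIrr_apply, H12.oneIrr_apply, sub_self, eq_comm, mul_eq_zero] at h
    rcases h with h | h
    · have := hq ▸ Nat.one_le_two_pow (n := n)
      rw [Nat.cast_eq_zero] at h
      omega
    · exact_mod_cast h
  -- orthogonality
  have hsum : ∑ ψ : IrrCharacter G, m ψ ^ 2 = q := by
    have h1 := H12.column_orthogonality (G := G) u u
    rw [if_pos (IsConj.refl u), hC] at h1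
    simp only [hreal] at h1
    have h2 := H12.regular_eq_sum (G := G) u
    rw [if_neg hu] at h2
    have h3 := H12.sum_degree_sq (G := G)
    have h4 : ∑ ψ : IrrCharacter G, ((q : ℂ) * m ψ) ^ 2 = (Nat.card G : ℂ) + q := by
      simp only [← hm, sub_sq, Finset.sum_add_distrib, Finset.sum_sub_distrib, mul_assoc,
        ← Finset.mul_sum, h2, h3, mul_zero, sub_zero]
      rw [show ∑ ψ : IrrCharacter G, (ψ : G → ℂ) u ^ 2 =
        ∑ ψ : IrrCharacter G, (ψ : G → ℂ) u * (ψ : G → ℂ) u from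
        Finset.sum_congr rfl fun ψ _ => pow_two _, h1]
    have h5 : q ^ 2 * ∑ ψ : IrrCharacter G, m ψ ^ 2 = q ^ 2 * q := by
      rw [← pow_succ, ← hG, Finset.mul_sum]
      simp only [← mul_pow]
      exact_mod_cast h4
    exact Nat.eq_of_mul_eq_mul_left (pow_pos (hq ▸ Nat.two_pow_pos n) 2) h5
  have hk : q + 1 ≤ Fintype.card (IrrCharacter G) := by
    rw [← Nat.card_eq_fintype_card, H12.card_irrCharacter]
    have h1 := H41.card_SL_classes_gt (F := F) (n := 2) le_rfl
    have h2 := H41.le_gcd_mul_card_PSL_classes (F := F) (n := 2) two_pos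
    have h3 : Nat.gcd 2 (Fintype.card F - 1) = 1 := by
      rw [hF]
      exact Nat.coprime_two_left.2 (Nat.Even.sub_odd Nat.one_le_two_pow
        (Nat.even_pow.2 ⟨even_two, by omega⟩) odd_one)
    rw [h3, one_mul] at h2
    rw [show 2 - 1 = 1 from rfl, pow_one, hF, ← hq] at h1
    refine Nat.succ_le_of_lt (h1.trans_le (h2.trans (le_of_eq ?_)))
    exact Nat.card_congr
      { toFun := ConjClasses.map e.symm.toMonoidHom
        invFun := ConjClasses.map e.toMonoidHom
        left_inv := fun c => by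
          obtain ⟨a, rfl⟩ := ConjClasses.mk_surjective c
          exact congrArg ConjClasses.mk (e.apply_symm_apply a)
        right_inv := fun c => by
          obtain ⟨a, rfl⟩ := ConjClasses.mk_surjective c
          exact congrArg ConjClasses.mk (e.symm_apply_apply a) }
  have hne : χ ≠ H12.oneIrr G := fun h => hχ (funext fun g => by rw [h, H12.oneIrr_apply])
  have hle : m χ ≤ 1 := by
    by_contra hlt
    have hmem : χ ∈ Finset.univ.erase (H12.oneIrr G) :=
      Finset.mem_erase.2 ⟨hne, Finset.mem_univ _⟩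
    rw [← Finset.add_sum_erase _ _ (Finset.mem_univ (H12.oneIrr G)), hm0,
      ← Finset.add_sum_erase _ _ hmem] at hsum
    have h1 := Finset.card_nsmul_le_sum ((Finset.univ.erase (H12.oneIrr G)).erase χ)
      (fun ψ => m ψ ^ 2) 1 fun ψ hψ =>
        Nat.one_le_pow _ _ (hpos ψ (Finset.ne_of_mem_erase (Finset.mem_of_mem_erase hψ)))
    rw [Finset.card_erase_of_mem hmem, Finset.card_erase_of_mem (Finset.mem_univ _),
      Finset.card_univ, smul_eq_mul, mul_one] at h1
    have : 2 ^ 2 ≤ m χ ^ 2 := Nat.pow_le_pow_left (by omega) 2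
    omega
  rw [hm, show m χ = 1 by have := hpos χ hne; omega, Nat.cast_one, mul_one, hq, Nat.cast_pow,
    Nat.cast_ofNat]

end H25.PSLConst
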