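import Cfsg.Agent.H13.Linear
import Cfsg.Agent.H12.Linear
import Cfsg.Agent.H25.InducedStabilizer

/-!
# Linear characters against a perfect normal subgroup
-/

set_option autoImplicit false
set_option linter.style.haveILetI false

open Cfsg

namespace H25

theorem hom_trivial_of_minimal {G A : Type*} [Group G] [CommGroup A] (N : Subgroup G) [N.Normal]
    (hmin : ∀ M : Subgroup G, M.Normal → M ≤ N → M = ⊥ ∨ M = N) (hna : ¬ IsMulCommutative ↥N)
    (f : G →* A) : ∀ n ∈ N, f n = 1 := by
  have hN : ⁅N, N⁆ = N := by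
    rcases hmin ⁅N, N⁆ inferInstance (Subgroup.commutator_le_left N N) with h | h
    · refine absurd ⟨⟨fun a b => Subtype.ext ?_⟩⟩ hna
      exact ((Subgroup.mem_centralizer_iff.1
        ((Subgroup.commutator_eq_bot_iff_le_centralizer.1 h) a.2)) b b.2).symm
    · exact h
  have h : ⁅N, N⁆ ≤ f.ker := Subgroup.commutator_le.2 fun a _ b _ => by
    rw [MonoidHom.mem_ker, map_commutatorElement, commutatorElement_eq_one_iff_mul_comm, mul_comm]
  rw [hN] at h
  exact h

theorem twist_eq_iff {G : Type*} [Group G] (N : Subgroup G) [N.Normal] (φ : ↥N → ℂ) (g : G) :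
    H13.twist N g φ = φ ↔
      ∀ n n' : ↥N, (n' : G) = g * (n : G) * g⁻¹ → φ n' = φ n := by
  refine ⟨fun h n n' e => ?_, fun h => funext fun n => h n _ rfl⟩
  rw [show n' = ⟨g * (n : G) * g⁻¹, ‹N.Normal›.conj_mem n n.2 g⟩ from Subtype.ext e]
  exact congrFun h n

theorem exists_hom_of_charDegree_one {G : Type*} [Group G] [Finite G] (χ : IrrCharacter G)
    (h : charDegree (χ : G → ℂ) = 1) : ∃ f : G →* ℂˣ, H12.linIrr f = χ := by
  have h1 : (χ : G → ℂ) 1 = 1 := by rw [irr_apply_one_eq, h, Nat.cast_one]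
  exact ⟨H13.linHom (H12.isCharacter_irr χ) h1,
    Subtype.ext (funext fun g => H13.linHom_apply (H12.isCharacter_irr χ) h1 g)⟩

end H25
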