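import Mathlib.LinearAlgebra.Matrix.Rank
import Mathlib.Data.Matrix.Block

/-!
# The rank of a square matrix is unchanged by a field extension
-/

set_option autoImplicit false

namespace H25

open Matrix

theorem rank_map_field {F K : Type*} [Field F] [Field K] {m : Type*} [Fintype m] [DecidableEq m]
    (f : F →+* K) (A : Matrix m m F) : (A.map f).rank = A.rank := by
  classical
  obtain ⟨V, U, e, hV, hU, h⟩ := A.exists_rank_normal_form
  have hV' : IsUnit (V.map f).det := by
    have := ((Matrix.isUnit_iff_isUnit_det V).1 hV).map f
    rwa [RingHom.map_det] at this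
  have hU' : IsUnit (U.map f).det := by
    have := ((Matrix.isUnit_iff_isUnit_det U).1 hU).map f
    rwa [RingHom.map_det] at this
  have h1 : (A.map f).rank = ((V * A * U).map f).rank := by
    rw [Matrix.map_mul, Matrix.map_mul, Matrix.rank_mul_eq_left_of_isUnit_det _ _ hU',
      Matrix.rank_mul_eq_right_of_isUnit_det _ _ hV']
  let w : m → Bool := fun i => Sum.elim (fun _ => true) (fun _ => false) (e i)
  have hgen : ∀ {r s : ℕ} (x : Fin r ⊕ Fin s), Sum.elim (fun _ => (1 : F)) (fun _ => (0 : F)) x =
      if (Sum.elim (fun _ => true) (fun _ => false) x : Bool) = true then 1 else 0 := by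
    intro r s x
    cases x <;> simp
  have hdiag : V * A * U = diagonal (fun i => if w i then (1 : F) else 0) := by
    rw [h, ← diagonal_one, ← diagonal_zero, fromBlocks_diagonal, submatrix_diagonal_equiv]
    congr 1
    funext i
    simp only [Function.comp_apply, w]
    exact hgen _
  have h2 : A.rank = (V * A * U).rank := by
    rw [Matrix.rank_mul_eq_left_of_isUnit_det _ _ ((Matrix.isUnit_iff_isUnit_det U).1 hU),
      Matrix.rank_mul_eq_right_of_isUnit_det _ _ ((Matrix.isUnit_iff_isUnit_det V).1 hV)]
  rw [h1, h2, hdiag, diagonal_map (map_zero f), rank_diagonal, rank_diagonal]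
  refine Fintype.card_congr (Equiv.subtypeEquivRight fun i => ?_)
  by_cases hi : w i = true <;> simp [hi]

end H25
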