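import Cfsg.Agent.H25.RealOddMain
import Cfsg.Agent.H6.Basic

/-!
# Solvable groups all of whose odd-degree characters are real
-/

set_option autoImplicit false
set_option linter.unusedSectionVars false
set_option linter.style.haveILetI false

open Cfsg
open scoped ComplexConjugate

namespace H25.RealOdd

universe u

variable {G : Type u} [Group G] [Finite G]

/-- Every odd-degree character is real. -/
def AllReal (G : Type u) [Group G] : Prop :=
  ∀ χ : IrrCharacter G, Odd (charDegree (χ : G → ℂ)) → IsReal (χ : G → ℂ)

/-- Self-normalising with elementary abelian commutator quotient. -/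
def Cond (P : Subgroup G) : Prop :=
  Subgroup.normalizer (P : Set G) ≤ P ∧ ∀ x ∈ P, x * x ∈ ⁅P, P⁆

theorem lin_kills_commutator {P : Subgroup G} (μ : P →* ℂˣ) {x : P} (hx : (x : G) ∈ ⁅P, P⁆) :
    μ x = 1 := by
  rw [← Subgroup.map_subtype_commutator] at hx
  obtain ⟨y, hy, hyx⟩ := hx
  obtain rfl : y = x := Subtype.ext hyx
  exact MonoidHom.mem_ker.1 (Abelianization.commutator_subset_ker μ hy)

theorem lin_real_of_cond {P : Subgroup G} (h : ∀ x ∈ P, x * x ∈ ⁅P, P⁆) (μ : P →* ℂˣ) :
    μ * μ = 1 :=
  MonoidHom.ext fun x => by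
    rw [MonoidHom.mul_apply, ← map_mul, MonoidHom.one_apply]
    exact lin_kills_commutator μ (h x x.2)

theorem cond_of_lin {P : Subgroup G} (h : ∀ μ : P →* ℂˣ, μ * μ = 1) {x : G} (hx : x ∈ P) :
    x * x ∈ ⁅P, P⁆ := by
  by_contra hne
  rw [← Subgroup.map_subtype_commutator] at hne
  have hne' : Abelianization.of ((⟨x, hx⟩ : P) * ⟨x, hx⟩) ≠ 1 := fun h1 => hne
    ⟨(⟨x, hx⟩ : P) * ⟨x, hx⟩, by
      rwa [← MonoidHom.mem_ker, Abelianization.ker_of] at h1, rfl⟩
  obtain ⟨ξ, hξ⟩ := CommGroup.exists_apply_ne_one_of_hasEnoughRootsOfUnity (Abelianization P) ℂ hne'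
  apply hξ
  have := congrArg (fun f : P →* ℂˣ => f ⟨x, hx⟩) (h (ξ.comp Abelianization.of))
  rw [map_mul, map_mul]
  exact this

theorem normalizer_subgroupOf_le {P T : Subgroup G} (hPT : P ≤ T)
    (h : Subgroup.normalizer (P : Set G) ≤ P) :
    Subgroup.normalizer ((P.subgroupOf T : Subgroup T) : Set T) ≤ P.subgroupOf T :=
  fun _ hx => h ((mem_normalizer_subgroupOf hPT).1 hx)

theorem cond_subgroupOf {P T : Subgroup G} (hPT : P ≤ T) (h : Cond P) :
    Cond (P.subgroupOf T) := by
  refine ⟨normalizer_subgroupOf_le hPT h.1, fun x hx => ?_⟩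
  have h1 : ((x * x : T) : G) ∈ (⁅P.subgroupOf T, P.subgroupOf T⁆).map T.subtype := by
    rw [Subgroup.map_commutator, Subgroup.subgroupOf_map_subtype, inf_of_le_left hPT]
    exact h.2 _ hx
  obtain ⟨y, hy, hyx⟩ := h1
  rwa [Subtype.ext hyx] at hy

theorem cond_map {H : Type u} [Group H] [Finite H] (f : G →* H) (hf : Function.Surjective f)
    (P : Sylow 2 G) (h : Cond (P : Subgroup G)) : Cond ((P : Subgroup G).map f) := by
  haveI : Fact (Nat.Prime 2) := ⟨Nat.prime_two⟩
  refine ⟨?_, ?_⟩
  · rw [← map_normalizer_sylow 2 f hf P]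
    exact Subgroup.map_mono h.1
  · rintro _ ⟨x, hx, rfl⟩
    rw [← map_mul, ← Subgroup.map_commutator]
    exact Subgroup.mem_map_of_mem f (h.2 x hx)

theorem real_of_le_ker (L : Subgroup G) [L.Normal] (h : AllReal (G ⧸ L)) (χ : IrrCharacter G)
    (hχ : Odd (charDegree (χ : G → ℂ))) (hk : L ≤ H24.kerChar χ) : IsReal (χ : G → ℂ) := by
  obtain ⟨ψ, rfl⟩ := H24.exists_deflate L χ hk
  rw [charDegree_inflate] at hχ
  exact (isReal_inflate_iff L ψ).2 (h ψ hχ)

theorem allReal_quotient (L : Subgroup G) [L.Normal] (h : AllReal G) : AllReal (G ⧸ L) :=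
  fun ψ hψ => (isReal_inflate_iff L ψ).1 (h _ (by rwa [charDegree_inflate]))

/-- The product of the conjugates under a subgroup. -/
noncomputable def normMap (L P : Subgroup G) [L.Normal] [Fintype P]
    (hab : ∀ a b : L, a * b = b * a) : L →* L :=
  letI : CommGroup L := { (inferInstance : Group L) with mul_comm := hab }
  ∏ x : P, ((MulAut.conjNormal (x : G)).toMonoidHom : L →* L)

theorem normMap_apply_fixed (L P : Subgroup G) [L.Normal] [Fintype P]
    (hab : ∀ a b : L, a * b = b * a) (x : P) (l : L) :
    normMap L P hab (MulAut.conjNormal (x : G) l) = normMap L P hab l ∧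
      MulAut.conjNormal (x : G) (normMap L P hab l) = normMap L P hab l := by
  letI : CommGroup L := { (inferInstance : Group L) with mul_comm := hab }
  have e : ∀ l, normMap L P hab l = ∏ y : P, MulAut.conjNormal (y : G) l := fun l =>
    MonoidHom.finsetProd_apply _ _ l
  refine ⟨?_, ?_⟩
  · rw [e, e]
    refine Fintype.prod_equiv (Equiv.mulRight x) _ _ fun y => ?_
    simp only [Equiv.coe_mulRight, Subgroup.coe_mul, map_mul]
    rfl
  · rw [e, map_prod]
    refine Fintype.prod_equiv (Equiv.mulLeft x) _ _ fun y => ?_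
    simp only [Equiv.coe_mulLeft, Subgroup.coe_mul, map_mul]
    rfl

theorem normMap_apply_of_central (L P : Subgroup G) [L.Normal] [Fintype P]
    (hab : ∀ a b : L, a * b = b * a) (l : L)
    (hl : ∀ x ∈ P, x * (l : G) = (l : G) * x) :
    normMap L P hab l = l ^ Nat.card P := by
  letI : CommGroup L := { (inferInstance : Group L) with mul_comm := hab }
  refine (MonoidHom.finsetProd_apply _ _ l).trans ?_
  rw [Nat.card_eq_fintype_card, ← Finset.card_univ, ← Finset.prod_const]
  refine Finset.prod_congr rfl fun x _ => Subtype.ext ?_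
  show (x : G) * l * (x : G)⁻¹ = l
  rw [hl x x.2, mul_assoc, mul_inv_cancel, mul_one]

/-- A self-normalising Sylow subgroup fixes no nontrivial character of an odd normal subgroup. -/
theorem fixed_eq_one (L : Subgroup G) [L.Normal] (hab : ∀ a b : L, a * b = b * a)
    (hodd : Odd (Nat.card L)) (P : Sylow 2 G)
    (hN : Subgroup.normalizer ((P : Subgroup G) : Set G) ≤ (P : Subgroup G)) (lam : L →* ℂˣ)
    (hfix : (P : Subgroup G) ≤ stab L lam) : lam = 1 := by
  classical
  haveI : Fact (Nat.Prime 2) := ⟨Nat.prime_two⟩
  haveI := Fintype.ofFinite (P : Subgroup G)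
  obtain ⟨k, hk⟩ := IsPGroup.iff_card.1 P.isPGroup'
  have hcop : (Nat.card L).Coprime (Nat.card (P : Subgroup G)) := by
    rw [hk]; exact (Nat.coprime_two_right.2 hodd).pow_right k
  refine MonoidHom.ext fun l => ?_
  letI : CommGroup L := { (inferInstance : Group L) with mul_comm := hab }
  have h1 : normMap L (P : Subgroup G) hab l = 1 := by
    set c := normMap L (P : Subgroup G) hab l with hc
    have hcP : (c : G) ∈ (P : Subgroup G) := by
      refine hN (Subgroup.mem_normalizer_fintype fun x hx => ?_)
      have hfx := congrArg (fun z : L => (z : G))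
        (normMap_apply_fixed L (P : Subgroup G) hab ⟨x, hx⟩ l).2
      simp only [MulAut.conjNormal_apply, ← hc] at hfx
      have : (c : G) * x * (c : G)⁻¹ = x := by
        calc (c : G) * x * (c : G)⁻¹ = (x * c * x⁻¹) * x * (c : G)⁻¹ := by rw [hfx]
          _ = x := by group
      rw [this]; exact hx
    have h2 : orderOf c ∣ 1 := by
      rw [← hcop]
      refine Nat.dvd_gcd (orderOf_dvd_natCard c) ?_
      rw [← Subgroup.orderOf_coe, show (c : G) = ((⟨(c : G), hcP⟩ : (P : Subgroup G)) : G) from rfl,
        Subgroup.orderOf_coe]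
      exact orderOf_dvd_natCard _
    exact orderOf_eq_one_iff.1 (Nat.dvd_one.1 h2)
  have h3 : lam (normMap L (P : Subgroup G) hab l) = lam l ^ Nat.card (P : Subgroup G) := by
    rw [show normMap L (P : Subgroup G) hab l =
      ∏ x : (P : Subgroup G), MulAut.conjNormal (x : G) l from MonoidHom.finsetProd_apply _ _ l,
      map_prod, Nat.card_eq_fintype_card, ← Finset.card_univ, ← Finset.prod_const]
    refine Finset.prod_congr rfl fun x _ => ?_
    exact congrArg (fun f : L →* ℂˣ => f l) ((mem_stab L).1 (hfix x.2))
  rw [h1, map_one] at h3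
  have h4 : lam l ^ Nat.card L = 1 := by rw [← map_pow, pow_card_eq_one', map_one]
  have h5 := pow_gcd_eq_one.2 ⟨h4, h3.symm⟩
  rw [hcop, pow_one] at h5
  exact h5

theorem allReal_of_cond {G : Type u} [Group G] [Finite G] [Group.IsSolvable G] (P : Sylow 2 G)
    (hP : Cond (P : Subgroup G)) : AllReal G := by
  suffices H : ∀ n : ℕ, ∀ (G : Type u) [Group G] [Finite G] [Group.IsSolvable G], Nat.card G = n →
      ∀ P : Sylow 2 G, Cond (P : Subgroup G) → AllReal G from H _ G rfl P hP
  intro n
  induction n using Nat.strong_induction_on with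
  | _ n IH =>
    intro G _ _ _ hG P hC χ hodd
    classical
    haveI : Fact (Nat.Prime 2) := ⟨Nat.prime_two⟩
    haveI := Fintype.ofFinite G
    rcases subsingleton_or_nontrivial G with hs | hn
    · intro g
      rw [Subsingleton.elim g 1, H24.irr_one χ, map_natCast]
    obtain ⟨L, q, hL, hq, hL0, hLq, hLab, -⟩ :=
      H15.exists_minimal_normal_elementary (G := G)
    haveI := hL
    haveI : Fact q.Prime := ⟨hq⟩
    haveI := Fintype.ofFinite L
    have hab : ∀ a b : L, a * b = b * a := fun a b => Subtype.ext (hLab a a.2 b b.2)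
    have hLp : IsPGroup q L := fun x => ⟨1, by
      rw [pow_one]; exact Subtype.ext (hLq x x.2)⟩
    have hL1 : 1 < Nat.card L := Subgroup.one_lt_card_iff_ne_bot L |>.2 hL0
    obtain ⟨lam, hfix, hlam⟩ := exists_fixed_constituent L P hab χ hodd
    rcases eq_or_ne q 2 with rfl | hq2
    · have hsq : lam * lam = 1 := MonoidHom.ext fun x => by
        rw [MonoidHom.mul_apply, ← map_mul, MonoidHom.one_apply,
          show x * x = 1 from Subtype.ext (by rw [← sq]; exact hLq x x.2), map_one]
      set T := stab L lam with hT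
      haveI := Fintype.ofFinite T
      haveI := Fintype.ofFinite ↥(L.subgroupOf T)
      have hl := H12.isIrrCharacter_monoidHom lam
      obtain ⟨ψ, hψ, hψN, hind⟩ :=
        H13.clifford_correspondence_exists L (T := T) hl rfl (le_stab L lam) χ.2 hlam
      have hdeg : charDegree (χ : G → ℂ) = T.index * charDegree ψ :=
        degree_trans (by
          rw [← hind]
          show indFun T ψ 1 = _
          rw [H13.indFun_apply_one,
            show ψ 1 = _ from H24.irr_one (⟨ψ, hψ⟩ : IrrCharacter T)]
          push_cast; rfl)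
      rw [hdeg, Nat.odd_mul] at hodd
      have hC' : Cond (P.subtype hfix : Subgroup T) := cond_subgroupOf hfix hC
      have hLT : L.subgroupOf T ≤ (P.subtype hfix : Subgroup T) :=
        fun x hx => le_sylow_of_normal L hLp P hx
      have hinv : ∀ t : T, twh (L.subgroupOf T) t (onStab L lam) = onStab L lam := fun t =>
        MonoidHom.ext fun x =>
          congrArg (fun f : L →* ℂˣ => f ⟨((x : T) : G), x.2⟩) ((mem_stab L).1 t.2)
      have hsq' : onStab L lam * onStab L lam = 1 := MonoidHom.ext fun x => congrArg
        (fun f : L →* ℂˣ => f (Subgroup.subgroupOfEquivOfLe (le_stab L lam) x)) hsq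
      have hψN' : classInner (fun x : L.subgroupOf T => ψ x) (fun x => (onStab L lam x : ℂ)) ≠ 0 := by
        rw [inner_onStab]; exact hψN
      have hinv' : ∀ t : T, H13.twist (L.subgroupOf T) t (fun x => (onStab L lam x : ℂ)) =
          fun x => (onStab L lam x : ℂ) := fun t => by rw [← coe_twh, hinv]
      have hres := res_eq_of_invariant (L.subgroupOf T) hψ (onStab L lam) hinv' hψN'
      haveI := Fintype.ofFinite (P.subtype hfix : Subgroup T)
      obtain ⟨μ0, hμ1, -⟩ := exists_linear_on_two (H12.isCharacter_of_isIrrCharacter hψ) hodd.2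
        (P.subtype hfix : Subgroup T) (P.subtype hfix).isPGroup'
      have hext : ExtP (L.subgroupOf T) (P.subtype hfix : Subgroup T) (onStab L lam) := by
        refine ⟨μ0, lin_real_of_cond hC'.2 μ0, fun l hl' => ?_⟩
        have h3 := constituent_trans (H12.isCharacter_of_isIrrCharacter hψ) hLT
          (H12.isIrrCharacter_monoidHom μ0) hμ1
          (l := fun x => (μ0.comp (Subgroup.inclusion hLT) x : ℂ)) (H13.Twist.linChar _) (by
            show classInner (fun x => (μ0.comp (Subgroup.inclusion hLT) x : ℂ))
              (fun x => (μ0.comp (Subgroup.inclusion hLT) x : ℂ)) ≠ 0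
            rw [show classInner (fun x => (μ0.comp (Subgroup.inclusion hLT) x : ℂ))
              (fun x => (μ0.comp (Subgroup.inclusion hLT) x : ℂ)) = 1 from
              H12.classInner_irr_self (H12.linIrr (μ0.comp (Subgroup.inclusion hLT)))]
            exact one_ne_zero)
        have h4 : (fun x : L.subgroupOf T => ψ x) =
            ψ 1 • fun x => (onStab L lam x : ℂ) := funext fun x => hres x
        rw [h4, H12.classInner_smul_left] at h3
        exact congrArg (fun f : L.subgroupOf T →* ℂˣ => f l)
          (hom_eq_of_classInner_ne (right_ne_zero_of_mul h3)).symm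
      obtain ⟨μ, hμ, hμl⟩ :=
        exists_real_extension (L.subgroupOf T) (P.subtype hfix) hLT _ hinv hsq' hext
      have hlt : Nat.card (T ⧸ L.subgroupOf T) < n := by
        have h1 := (L.subgroupOf T).card_eq_card_quotient_mul_card_subgroup
        rw [Nat.card_congr (Subgroup.subgroupOfEquivOfLe (le_stab L lam)).toEquiv] at h1
        have h2 : Nat.card T ≤ Nat.card G := Subgroup.card_le_card_group T
        have h3 : 0 < Nat.card (T ⧸ L.subgroupOf T) := Nat.card_pos
        nlinarith
      have hIH : AllReal (T ⧸ L.subgroupOf T) := IH _ hlt _ rfl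
        ((P.subtype hfix).mapSurjective (QuotientGroup.mk'_surjective _))
        (cond_map _ (QuotientGroup.mk'_surjective _) (P.subtype hfix) hC')
      have hd' : Odd (charDegree (H13.Twist.twi (⟨ψ, hψ⟩ : IrrCharacter T) μ : T → ℂ)) := by
        rw [degree_trans (χ := H13.Twist.twi (⟨ψ, hψ⟩ : IrrCharacter T) μ) (d := charDegree ψ)
          (by rw [H13.Twist.twi_degree]; exact H24.irr_one (⟨ψ, hψ⟩ : IrrCharacter T))]
        exact hodd.2
      have hr := real_of_le_ker (L.subgroupOf T) hIH _ hd' (by
        intro x hx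
        rw [H24.mem_kerChar, H13.Twist.twi_apply, H13.Twist.twi_degree,
          show μ x = onStab L lam ⟨x, hx⟩ from hμl ⟨x, hx⟩]
        show ψ x * _ = ψ 1
        rw [hres ⟨x, hx⟩, mul_assoc, ← Units.val_mul,
          show onStab L lam ⟨x, hx⟩ * onStab L lam ⟨x, hx⟩ = 1 from
            congrArg (fun f : L.subgroupOf T →* ℂˣ => f ⟨x, hx⟩) hsq', Units.val_one, mul_one])
      have hψr : IsReal ψ := fun t => by
        have h := hr t
        rw [H13.Twist.twi_apply, map_mul, isReal_lin hμ t] at h
        exact mul_right_cancel₀ (Units.ne_zero (μ t)) h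
      intro g
      rw [← hind, ← indFun_conj_fun]
      exact congrArg (fun f => indFun T f g) (funext hψr)
    · have hodd' : Odd (Nat.card L) := by
        obtain ⟨k, hk⟩ := IsPGroup.iff_card.1 hLp
        rw [hk]
        exact (hq.odd_of_ne_two hq2).pow
      have h1 := fixed_eq_one L hab hodd' P hC.1 lam hfix
      subst h1
      have hker : L ≤ H24.kerChar χ := fun x hx => by
        rw [H24.mem_kerChar]
        have := res_eq_of_invariant L χ.2 1
          (fun g => by funext y; simp [H13.twist_apply]) hlam ⟨x, hx⟩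
        simpa using this
      have hlt : Nat.card (G ⧸ L) < n := by
        have h1 := L.card_eq_card_quotient_mul_card_subgroup
        have h3 : 0 < Nat.card (G ⧸ L) := Nat.card_pos
        nlinarith
      exact real_of_le_ker L (IH _ hlt (G ⧸ L) rfl (P.mapSurjective (QuotientGroup.mk'_surjective L))
        (cond_map _ (QuotientGroup.mk'_surjective L) P hC)) χ hodd hker

theorem cond_of_allReal {G : Type u} [Group G] [Finite G] [Group.IsSolvable G] (P : Sylow 2 G)
    (hA : AllReal G) : Cond (P : Subgroup G) := by
  suffices H : ∀ n : ℕ, ∀ (G : Type u) [Group G] [Finite G] [Group.IsSolvable G], Nat.card G = n →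
      ∀ P : Sylow 2 G, AllReal G → Cond (P : Subgroup G) from H _ G rfl P hA
  intro n
  induction n using Nat.strong_induction_on with
  | _ n IH =>
    intro G _ _ _ hG P hA
    classical
    haveI : Fact (Nat.Prime 2) := ⟨Nat.prime_two⟩
    haveI := Fintype.ofFinite G
    rcases subsingleton_or_nontrivial G with hs | hn
    · exact ⟨fun x _ => by rw [Subsingleton.elim x 1]; exact one_mem _,
        fun x _ => by rw [Subsingleton.elim (x * x) 1]; exact one_mem _⟩
    obtain ⟨L, q, hL, hq, hL0, hLq, hLab, -⟩ :=
      H15.exists_minimal_normal_elementary (G := G)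
    haveI := hL
    haveI : Fact q.Prime := ⟨hq⟩
    haveI := Fintype.ofFinite L
    have hab : ∀ a b : L, a * b = b * a := fun a b => Subtype.ext (hLab a a.2 b b.2)
    have hLp : IsPGroup q L := fun x => ⟨1, by
      rw [pow_one]; exact Subtype.ext (hLq x x.2)⟩
    have hL1 : 1 < Nat.card L := Subgroup.one_lt_card_iff_ne_bot L |>.2 hL0
    have hlt : Nat.card (G ⧸ L) < n := by
      have h1 := L.card_eq_card_quotient_mul_card_subgroup
      have h3 : 0 < Nat.card (G ⧸ L) := Nat.card_pos
      nlinarith
    obtain ⟨hN', hS'⟩ := IH _ hlt (G ⧸ L) rfl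
      (P.mapSurjective (QuotientGroup.mk'_surjective L)) (allReal_quotient L hA)
    change Subgroup.normalizer (((P : Subgroup G).map (QuotientGroup.mk' L)) : Set (G ⧸ L)) ≤ _
      at hN'
    rw [← map_normalizer_sylow 2 _ (QuotientGroup.mk'_surjective L) P] at hN'
    change (Subgroup.normalizer ((P : Subgroup G) : Set G)).map (QuotientGroup.mk' L) ≤
      (P : Subgroup G).map (QuotientGroup.mk' L) at hN'
    rw [Subgroup.map_le_map_iff, QuotientGroup.ker_mk'] at hN'
    rcases eq_or_ne q 2 with rfl | hq2
    · have hLP := le_sylow_of_normal L hLp P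
      refine ⟨fun x hx => (sup_le le_rfl hLP) (hN' hx), fun x hx => cond_of_lin (fun μ => ?_) hx⟩
      let lam : L →* ℂˣ := μ.comp (Subgroup.inclusion hLP)
      have hsq : lam * lam = 1 := MonoidHom.ext fun y => by
        rw [MonoidHom.mul_apply, ← map_mul, MonoidHom.one_apply,
          show y * y = 1 from Subtype.ext (by rw [← sq]; exact hLq y y.2), map_one]
      have hfix : (P : Subgroup G) ≤ stab L lam := fun y hy => (mem_stab L).2 <|
        MonoidHom.ext fun l => by
          show μ ⟨y * l * y⁻¹, _⟩ = μ ⟨l, _⟩
          rw [show (⟨y * l * y⁻¹, _⟩ : (P : Subgroup G)) = ⟨y, hy⟩ * ⟨l, hLP l.2⟩ * ⟨y, hy⟩⁻¹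
            from rfl, map_mul, map_mul, map_inv, mul_comm (μ ⟨y, hy⟩), mul_inv_cancel_right]
      set T := stab L lam with hT
      haveI := Fintype.ofFinite T
      haveI := Fintype.ofFinite ↥(L.subgroupOf T)
      have hinv : ∀ t : T, twh (L.subgroupOf T) t (onStab L lam) = onStab L lam := fun t =>
        MonoidHom.ext fun x =>
          congrArg (fun f : L →* ℂˣ => f ⟨((x : T) : G), x.2⟩) ((mem_stab L).1 t.2)
      have hsq' : onStab L lam * onStab L lam = 1 := MonoidHom.ext fun x => congrArg
        (fun f : L →* ℂˣ => f (Subgroup.subgroupOfEquivOfLe (le_stab L lam) x)) hsq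
      let μT : (P.subtype hfix : Subgroup T) →* ℂˣ :=
        μ.comp (Subgroup.subgroupOfEquivOfLe hfix).toMonoidHom
      let V : T →* ℂˣ := MonoidHom.transfer μT
      have hV : ∀ l : L.subgroupOf T, V l = onStab L lam l := fun l =>
        transfer_restrict (L.subgroupOf T) (P.subtype hfix) (fun y hy => hLP hy) _ hinv hsq' μT
          (fun l _ => rfl) l
      have hl := H12.isIrrCharacter_monoidHom lam
      have hkey : ∀ ξ : IrrCharacter T, Odd (charDegree (ξ : T → ℂ)) →
          classInner (fun y : L.subgroupOf T => (ξ : T → ℂ) y) (fun y => (onStab L lam y : ℂ)) ≠ 0 →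
          IsReal (ξ : T → ℂ) := by
        intro ξ hξ hne
        rw [inner_onStab] at hne
        obtain ⟨hirr, -⟩ := H13.clifford_correspondence L (T := T) hl rfl (le_stab L lam) ξ.2 hne
        have hd : Odd (charDegree (indFun T (ξ : T → ℂ))) := by
          rw [degree_trans (χ := ⟨_, hirr⟩) (d := T.index * charDegree (ξ : T → ℂ))
            (by
              show indFun T (ξ : T → ℂ) 1 = _
              rw [H13.indFun_apply_one, H24.irr_one ξ]; push_cast; rfl)]
          exact (odd_index_of_sylow_le P hfix).mul hξ
        have hr := hA ⟨_, hirr⟩ hd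
        have hne' : classInner (H13.resTo (le_stab L lam) fun t => conj ((ξ : T → ℂ) t))
            (fun y => (lam y : ℂ)) ≠ 0 := by
          have h1 : classInner (H13.resTo (le_stab L lam) fun t => conj ((ξ : T → ℂ) t))
              (fun y => (lam y : ℂ)) =
              conj (classInner (H13.resTo (le_stab L lam) (ξ : T → ℂ)) (fun y => (lam y : ℂ))) := by
            rw [H12.classInner_def, H12.classInner_def, map_mul, map_inv₀, map_natCast, map_sum]
            congr 1
            refine Finset.sum_congr rfl fun y _ => ?_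
            rw [map_mul, isReal_lin hsq y, H13.resTo_apply, H13.resTo_apply, isReal_lin hsq y]
          rw [h1]
          simpa using hne
        exact congrFun (H13.clifford_correspondence_inj L (T := T) hl rfl (le_stab L lam)
          (H12.isIrrCharacter_conj ξ.2) ξ.2 hne' hne
          (funext fun g => (indFun_conj_fun T _ g).trans (hr g)))
      have hVone : Odd (charDegree (fun t : T => (V t : ℂ))) := by
        show Odd (charDegree (H12.linIrr V : T → ℂ))
        rw [degree_trans (χ := H12.linIrr V) (d := 1) (by simp [H12.linIrr_apply])]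
        exact odd_one
      have hover : classInner (fun y : L.subgroupOf T => (V y : ℂ))
          (fun y => (onStab L lam y : ℂ)) ≠ 0 := by
        rw [show (fun y : L.subgroupOf T => (V y : ℂ)) = fun y => (onStab L lam y : ℂ) from
          funext fun y => by rw [hV]]
        rw [show classInner (fun y => (onStab L lam y : ℂ)) (fun y => (onStab L lam y : ℂ)) = 1 from
          H12.classInner_irr_self (H12.linIrr (onStab L lam))]
        exact one_ne_zero
      have hVr : V * V = 1 := mul_self_of_isReal (hkey (H12.linIrr V) hVone hover)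
      have hAQ : AllReal (T ⧸ L.subgroupOf T) := fun ξ hξ => by
        have h1 := hkey (H13.Twist.twi (H24.inflate _ ξ) V) (by
            rw [degree_trans (χ := H13.Twist.twi (H24.inflate _ ξ) V)
              (d := charDegree (ξ : T ⧸ L.subgroupOf T → ℂ))
              (by rw [H13.Twist.twi_degree]; exact H24.irr_one ξ)]
            exact hξ) (by
          rw [show (fun y : L.subgroupOf T =>
              (H13.Twist.twi (H24.inflate _ ξ) V : T → ℂ) y) =
              (ξ : T ⧸ L.subgroupOf T → ℂ) 1 • fun y => (onStab L lam y : ℂ) from funext fun y => by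
            rw [H13.Twist.twi_apply, hV, H24.inflate_apply,
              (QuotientGroup.eq_one_iff (y : T)).2 y.2]
            rfl]
          rw [H12.classInner_smul_left]
          refine mul_ne_zero (H12.irr_apply_one_ne_zero ξ) ?_
          rw [show classInner (fun y => (onStab L lam y : ℂ)) (fun y => (onStab L lam y : ℂ)) = 1
            from H12.classInner_irr_self (H12.linIrr (onStab L lam))]
          exact one_ne_zero)
        intro z
        obtain ⟨t, rfl⟩ := QuotientGroup.mk_surjective z
        have h2 := h1 t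
        rw [H13.Twist.twi_apply, map_mul, isReal_lin hVr t] at h2
        exact mul_right_cancel₀ (Units.ne_zero (V t)) h2
      have hlt' : Nat.card (T ⧸ L.subgroupOf T) < n := by
        have h1 := (L.subgroupOf T).card_eq_card_quotient_mul_card_subgroup
        rw [Nat.card_congr (Subgroup.subgroupOfEquivOfLe (le_stab L lam)).toEquiv] at h1
        have h2 : Nat.card T ≤ Nat.card G := Subgroup.card_le_card_group T
        have h3 : 0 < Nat.card (T ⧸ L.subgroupOf T) := Nat.card_pos
        nlinarith
      obtain ⟨-, hS⟩ := IH _ hlt' _ rfl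
        ((P.subtype hfix).mapSurjective (QuotientGroup.mk'_surjective _)) hAQ
      refine MonoidHom.ext fun y => ?_
      have hy := hS _ (Subgroup.mem_map_of_mem (QuotientGroup.mk' (L.subgroupOf T))
        (show (⟨y, hfix y.2⟩ : T) ∈ (P.subtype hfix : Subgroup T) from y.2))
      change _ ∈ ⁅(P.subtype hfix : Subgroup T).map (QuotientGroup.mk' (L.subgroupOf T)),
        (P.subtype hfix : Subgroup T).map (QuotientGroup.mk' (L.subgroupOf T))⁆ at hy
      rw [← map_mul, ← Subgroup.map_commutator] at hy
      obtain ⟨c, hc, hcy⟩ := hy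
      rw [QuotientGroup.mk'_apply, QuotientGroup.mk'_apply, QuotientGroup.eq] at hcy
      have hcP : c ∈ (P.subtype hfix : Subgroup T) := Subgroup.commutator_le_self _ hc
      let w : (P.subtype hfix : Subgroup T) := ⟨⟨y, hfix y.2⟩, y.2⟩
      have e1 : μT ⟨c, hcP⟩ = 1 ∧ V c = 1 :=
        ⟨lin_kills_commutator μT (x := ⟨c, hcP⟩) hc, by
          have := lin_kills_commutator (V.comp (P.subtype hfix : Subgroup T).subtype)
            (x := ⟨c, hcP⟩) hc
          exact this⟩
      have e2 : μT ((⟨c, hcP⟩ : (P.subtype hfix : Subgroup T))⁻¹ * (w * w)) =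
          V (c⁻¹ * ((w : T) * (w : T))) :=
        (hV ⟨_, hcy⟩).symm
      simp only [map_mul, map_inv, e1.1, e1.2, inv_one, one_mul] at e2
      rw [MonoidHom.mul_apply, MonoidHom.one_apply]
      exact e2.trans (congrArg (fun f : T →* ℂˣ => f (w : T)) hVr)
    · have hodd' : Odd (Nat.card L) := by
        obtain ⟨k, hk⟩ := IsPGroup.iff_card.1 hLp
        rw [hk]
        exact (hq.odd_of_ne_two hq2).pow
      haveI := Fintype.ofFinite (P : Subgroup G)
      obtain ⟨a, ha⟩ := IsPGroup.iff_card.1 P.isPGroup'
      have hcop : (Nat.card L).Coprime (Nat.card (P : Subgroup G)) := by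
        rw [ha]; exact (Nat.coprime_two_right.2 hodd').pow_right a
      have hdisj : L ⊓ (P : Subgroup G) = ⊥ := Subgroup.inf_eq_bot_of_coprime hcop
      have hfree : ∀ c : L, (∀ x ∈ (P : Subgroup G), x * (c : G) = (c : G) * x) → c = 1 := by
        intro c hc
        by_contra hne
        letI : CommGroup L := { (inferInstance : Group L) with mul_comm := hab }
        have hne' : c ^ Nat.card (P : Subgroup G) ≠ 1 := fun h => hne (by
          have h5 := pow_gcd_eq_one.2 ⟨pow_card_eq_one' (x := c), h⟩
          rwa [hcop, pow_one] at h5)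
        obtain ⟨ξ, hξ⟩ := CommGroup.exists_apply_ne_one_of_hasEnoughRootsOfUnity L ℂ hne'
        let lam : L →* ℂˣ := ξ.comp (normMap L (P : Subgroup G) hab)
        have hlam : lam ≠ 1 := fun h => hξ (by
          have := congrArg (fun f : L →* ℂˣ => f c) h
          simpa [lam, normMap_apply_of_central L (P : Subgroup G) hab c hc] using this)
        set K := (P : Subgroup G) ⊔ L with hK
        haveI := Fintype.ofFinite K
        have hfixK : K ≤ stab L lam := sup_le (fun x hx => (mem_stab L).2 <| MonoidHom.ext fun l =>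
          congrArg ξ (normMap_apply_fixed L (P : Subgroup G) hab ⟨x, hx⟩ l).1) (le_stab L lam)
        have hcopK : Nat.Coprime (L.subgroupOf K).index
            (orderOf (lam.comp (Subgroup.subgroupOfEquivOfLe
              (le_sup_right : L ≤ K)).toMonoidHom)) := by
          refine Nat.Coprime.coprime_dvd_left (?_ : _ ∣ Nat.card (P : Subgroup G)) ?_
          · show L.relIndex K ∣ _
            rw [hK, Subgroup.relIndex_sup_right]
            exact Subgroup.index_dvd_card _
          · refine Nat.Coprime.coprime_dvd_right (?_ : _ ∣ Nat.card L) hcop.symm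
            rw [orderOf_dvd_iff_pow_eq_one]
            exact MonoidHom.ext fun y => by
              rw [MonoidHom.pow_apply, MonoidHom.comp_apply, ← map_pow, pow_card_eq_one',
                map_one, MonoidHom.one_apply]
        obtain ⟨ν, hν, -⟩ := H14.exists_unique_coprime_extension (L.subgroupOf K) _
          (fun g l => congrArg (fun f : L →* ℂˣ => f ⟨((l : K) : G), l.2⟩)
            ((mem_stab L).1 (hfixK g.2))) hcopK
        obtain ⟨m, hm⟩ := H12.IsCharacter.exists_mult
          (H13.isCharacter_indFun K (H13.Twist.linChar ν))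
        have hoddK : Odd K.index := odd_index_of_sylow_le P le_sup_left
        have hsum : K.index = ∑ φ : IrrCharacter G, m φ * charDegree (φ : G → ℂ) := by
          have h1 := congrFun hm 1
          rw [H13.indFun_apply_one, map_one, Units.val_one, mul_one, Finset.sum_apply] at h1
          have h2 : (K.index : ℂ) = ((∑ φ : IrrCharacter G, m φ * charDegree (φ : G → ℂ) : ℕ) : ℂ) := by
            rw [h1]; push_cast
            exact Finset.sum_congr rfl fun φ _ => by
              rw [Pi.smul_apply, smul_eq_mul, H24.irr_one φ]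
          exact_mod_cast h2
        obtain ⟨φ, hφ⟩ : ∃ φ : IrrCharacter G, Odd (m φ * charDegree (φ : G → ℂ)) := by
          by_contra hno
          simp only [not_exists] at hno
          exact Nat.not_even_iff_odd.2 hoddK (hsum ▸
            Finset.even_sum _ fun φ _ => Nat.not_odd_iff_even.1 (hno φ))
        obtain ⟨hmo, hdo⟩ := Nat.odd_mul.1 hφ
        have hne1 : classInner (fun x : K => (φ : G → ℂ) x) (fun x => (ν x : ℂ)) ≠ 0 := by
          intro h0
          have h1 := H12.classInner_sum_smul_irr (fun χ => (m χ : ℂ)) φ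
          rw [← hm, H13.classInner_indFun_left K _ (H12.irr_isClassFunction φ),
            ← H12.conj_classInner, h0, map_zero] at h1
          exact hmo.pos.ne' (by exact_mod_cast h1.symm)
        have hne2 := constituent_trans (H12.isCharacter_irr φ) (le_sup_right : L ≤ K)
          (H12.isIrrCharacter_monoidHom ν) hne1 (l := fun y : L => (lam y : ℂ))
          (H13.Twist.linChar _) (by
            rw [show H13.resTo (le_sup_right : L ≤ K) (fun x : K => (ν x : ℂ)) =
              fun y : L => (lam y : ℂ) from funext fun y =>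
                congrArg (fun z : ℂˣ => (z : ℂ))
                  (hν ⟨⟨y, (le_sup_right : L ≤ K) y.2⟩, y.2⟩)]
            rw [show classInner (fun y => (lam y : ℂ)) (fun y => (lam y : ℂ)) = 1 from
              H12.classInner_irr_self (H12.linIrr lam)]
            exact one_ne_zero)
        have hker := le_ker_of_odd L hodd' ⟨φ, hA φ hdo, hdo⟩
        rw [show (fun y : L => (φ : G → ℂ) y) = (φ : G → ℂ) 1 • fun y => (((1 : L →* ℂˣ) y : ℂˣ) : ℂ)
          from funext fun y => by simpa using H24.mem_kerChar.1 (hker y.2),
          H12.classInner_smul_left] at hne2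
        exact hlam (hom_eq_of_classInner_ne (right_ne_zero_of_mul hne2)).symm
      refine ⟨fun x hx => ?_, fun x hx => ?_⟩
      · have hxs : x ∈ ((P : Subgroup G) ⊔ L : Subgroup G) := hN' hx
        rw [← SetLike.mem_coe, Subgroup.mul_normal] at hxs
        obtain ⟨y, hy, l, hl, rfl⟩ := hxs
        have hln : l ∈ Subgroup.normalizer ((P : Subgroup G) : Set G) := by
          have := Subgroup.mul_mem _ (Subgroup.inv_mem _ (Subgroup.le_normalizer hy)) hx
          simpa using this
        have : (⟨l, hl⟩ : L) = 1 := hfree _ fun z hz => by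
          have h1 : l * z * l⁻¹ * z⁻¹ ∈ L ⊓ (P : Subgroup G) := ⟨by
              rw [mul_assoc l, mul_assoc l]
              exact L.mul_mem hl (hL.conj_mem _ (L.inv_mem hl) z),
            Subgroup.mul_mem _ ((Subgroup.mem_normalizer_iff.1 hln z).1 hz) (Subgroup.inv_mem _ hz)⟩
          rw [hdisj, Subgroup.mem_bot, mul_inv_eq_one, mul_inv_eq_iff_eq_mul] at h1
          exact h1.symm
        show y * l ∈ (P : Subgroup G)
        rw [show l = 1 from congrArg Subtype.val this, mul_one]
        exact hy
      · have hy := hS' _ (Subgroup.mem_map_of_mem (QuotientGroup.mk' L) hx)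
        change _ ∈ ⁅(P : Subgroup G).map (QuotientGroup.mk' L),
          (P : Subgroup G).map (QuotientGroup.mk' L)⁆ at hy
        rw [← map_mul, ← Subgroup.map_commutator] at hy
        obtain ⟨c, hc, hcy⟩ := hy
        rw [QuotientGroup.mk'_apply, QuotientGroup.mk'_apply, QuotientGroup.eq] at hcy
        have h1 : c⁻¹ * (x * x) ∈ L ⊓ (P : Subgroup G) :=
          ⟨hcy, Subgroup.mul_mem _ (Subgroup.inv_mem _ (Subgroup.commutator_le_self _ hc))
            (Subgroup.mul_mem _ hx hx)⟩
        rw [hdisj, Subgroup.mem_bot, inv_mul_eq_one] at h1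
        exact h1 ▸ hc

end H25.RealOdd
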