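import Cfsg.Agent.H12.Linear
import Cfsg.Agent.H12.Integral
import Cfsg.Agent.H12.Transport
import Cfsg.Agent.H13.Correspondence
import Cfsg.Agent.H13.PermutationLemma
import Cfsg.Agent.H13.Linear
import Cfsg.Agent.H13.RealLinTwist
import Cfsg.Agent.H24.Quot

/-!
# Real-valued characters of odd degree: parity lemmas, odd normal subgroups, inflation
-/

set_option autoImplicit false
set_option linter.unusedSectionVars false
set_option linter.style.haveILetI false

open Cfsg
open scoped ComplexConjugate

namespace H25.RealOdd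

universe u v

variable {G : Type u} [Group G] [Finite G]

/-- A real-valued function. -/
def IsReal {α : Type*} (f : α → ℂ) : Prop := ∀ a, conj (f a) = f a

theorem isReal_iff_im {α : Type*} {f : α → ℂ} : IsReal f ↔ ∀ a, (f a).im = 0 :=
  forall_congr' fun _ => Complex.conj_eq_iff_im

/-- A real-valued irreducible character of odd degree. -/
def RO (G : Type u) [Group G] : Type u :=
  {χ : IrrCharacter G // IsReal (χ : G → ℂ) ∧ Odd (charDegree (χ : G → ℂ))}

noncomputable instance RO.finite (G : Type u) [Group G] [Finite G] : Finite (RO G) :=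
  Subtype.finite

theorem degree_trans {χ : IrrCharacter G} {d : ℕ} (h : (χ : G → ℂ) 1 = d) :
    charDegree (χ : G → ℂ) = d := by
  simp [charDegree, h]

/-- An odd-degree character has an odd-degree constituent on every subgroup, a real one if the
character is real. -/
theorem exists_odd_constituent [Fintype G] {χ : G → ℂ} (hχ : IsCharacter G χ)
    (hodd : Odd (charDegree χ)) (K : Subgroup G) [Fintype K] :
    ∃ θ : IrrCharacter K, classInner (fun k : K => χ k) θ ≠ 0 ∧
      Odd (charDegree (θ : K → ℂ)) ∧ (IsReal χ → IsReal (θ : K → ℂ)) := by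
  classical
  obtain ⟨m, hm⟩ := H12.IsCharacter.exists_mult (H12.IsCharacter.res hχ K)
  have hmult : ∀ θ : IrrCharacter K, classInner (fun k : K => χ k) θ = (m θ : ℂ) := fun θ => by
    rw [hm]; exact H12.classInner_sum_smul_irr (fun φ => (m φ : ℂ)) θ
  have hd : ((charDegree χ : ℕ) : ℂ) =
      ((∑ θ : IrrCharacter K, m θ * charDegree (θ : K → ℂ) : ℕ) : ℂ) := by
    rw [H24.charDegree_eq_degree, ← H12.IsCharacter.apply_one_eq_degree hχ]
    have h1 := congrFun hm 1
    simp only [OneMemClass.coe_one, Finset.sum_apply, Pi.smul_apply, smul_eq_mul] at h1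
    rw [h1]
    push_cast
    exact Finset.sum_congr rfl fun θ _ => by rw [H24.irr_one θ]
  have hd' : charDegree χ = ∑ θ : IrrCharacter K, m θ * charDegree (θ : K → ℂ) := by
    exact_mod_cast hd
  rw [hd'] at hodd
  by_cases hreal : IsReal χ
  · by_contra hno
    simp only [not_exists, not_and] at hno
    have hsum : ((∑ θ : IrrCharacter K, m θ * charDegree (θ : K → ℂ) : ℕ) : ZMod 2) = 0 := by
      push_cast
      have hconj : ∀ θ : IrrCharacter K, m (H12.conjIrr θ) = m θ := fun θ => by
        have h1 := hmult (H12.conjIrr θ)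
        have h2 : classInner (fun k : K => χ k) (H12.conjIrr θ : K → ℂ) =
            conj (classInner (fun k : K => χ k) θ) := by
          rw [H12.classInner_def, H12.classInner_def, map_mul, map_inv₀, map_natCast, map_sum]
          congr 1
          refine Finset.sum_congr rfl fun k _ => ?_
          rw [H12.conjIrr_apply, map_mul, hreal]
        rw [h2, hmult, map_natCast] at h1
        exact_mod_cast h1.symm
      have hdeg : ∀ θ : IrrCharacter K,
          charDegree ((H12.conjIrr θ : IrrCharacter K) : K → ℂ) = charDegree (θ : K → ℂ) := fun θ =>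
        degree_trans (by rw [H12.conjIrr_apply, H24.irr_one θ, map_natCast])
      refine Finset.sum_involution (fun θ _ => H12.conjIrr θ) (fun θ _ => ?_) (fun θ _ h0 hfix => ?_)
        (fun θ _ => Finset.mem_univ _) (fun θ _ => H12.conjIrr_conjIrr θ)
      · rw [hconj, hdeg]; exact CharTwo.add_self_eq_zero _
      · apply h0
        have hrθ : IsReal (θ : K → ℂ) := fun k => by
          rw [← H12.conjIrr_apply, hfix]
        by_contra hne
        obtain ⟨hm0, hdd⟩ := mul_ne_zero_iff.1 hne
        refine hno θ ?_ ?_ (fun _ => hrθ)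
        · rw [hmult]
          intro h
          exact hm0 (by rw [Nat.cast_eq_zero.1 h, Nat.cast_zero])
        · rcases Nat.even_or_odd (charDegree (θ : K → ℂ)) with he | ho
          · exact absurd ((ZMod.natCast_eq_zero_iff_even).2 he) hdd
          · exact ho
    rw [ZMod.natCast_eq_zero_iff_even] at hsum
    exact Nat.not_even_iff_odd.2 hodd hsum
  · obtain ⟨θ, hθ⟩ : ∃ θ : IrrCharacter K, Odd (m θ * charDegree (θ : K → ℂ)) := by
      by_contra hno
      simp only [not_exists, not_and] at hno
      exact Nat.not_even_iff_odd.2 hodd (Finset.even_sum _ fun θ _ => Nat.not_odd_iff_even.1 (hno θ))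
    obtain ⟨h1, h2⟩ := Nat.odd_mul.1 hθ
    refine ⟨θ, ?_, h2, fun h => absurd h hreal⟩
    rw [hmult]
    exact_mod_cast h1.pos.ne'

/-- Constituents of constituents are constituents. -/
theorem constituent_trans [Fintype G] {χ : G → ℂ} (hχ : IsCharacter G χ) {L K : Subgroup G}
    [Fintype L] [Fintype K] (hLK : L ≤ K) {θ : K → ℂ} (hθ : IsIrrCharacter K θ)
    (h1 : classInner (fun k : K => χ k) θ ≠ 0) {l : L → ℂ} (hl : IsCharacter L l)
    (h2 : classInner (H13.resTo hLK θ) l ≠ 0) :
    classInner (fun x : L => χ x) l ≠ 0 := by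
  have hsub := H13.isCharacter_sub_irr (H12.IsCharacter.res hχ K) hθ h1
  have hθc := H12.isCharacter_of_isIrrCharacter hθ
  obtain ⟨a, ha⟩ := H12.IsCharacter.classInner_nat (H13.isCharacter_resTo hLK hθc) hl
  obtain ⟨b, hb⟩ := H12.IsCharacter.classInner_nat (H13.isCharacter_resTo hLK hsub) hl
  have he : classInner (fun x : L => χ x) l = (a : ℂ) + b := by
    rw [← ha, ← hb, ← H12.classInner_add_left]
    congr 1
    funext x
    simp [H13.resTo_apply]
  have ha0 : a ≠ 0 := fun h0 => h2 (by rw [ha, h0, Nat.cast_zero])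
  rw [he]
  exact_mod_cast (show a + b ≠ 0 by omega)

/-- A constituent which is invariant and linear is the whole restriction. -/
theorem res_eq_of_invariant [Fintype G] (L : Subgroup G) [L.Normal] [Fintype L] {χ : G → ℂ}
    (hχ : IsIrrCharacter G χ) (lam : L →* ℂˣ)
    (hinv : ∀ g : G, H13.twist L g (fun x => (lam x : ℂ)) = fun x => (lam x : ℂ))
    (hne : classInner (fun x : L => χ x) (fun x => (lam x : ℂ)) ≠ 0) (x : L) :
    χ x = χ 1 * (lam x : ℂ) := by
  classical
  have hlam := H12.isIrrCharacter_monoidHom lam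
  have hcl := H13.clifford_res L hχ hlam hne {⟨_, hlam⟩} (fun φ => by
    rw [Finset.mem_singleton]
    constructor
    · rintro rfl; exact ⟨1, hinv 1⟩
    · rintro ⟨g, hg⟩; exact Subtype.ext (hg.symm.trans (hinv g)))
  rw [Finset.sum_singleton] at hcl
  have h1 := congrFun hcl 1
  have hx := congrFun hcl x
  simp only [Pi.smul_apply, smul_eq_mul, map_one, Units.val_one, mul_one,
    OneMemClass.coe_one] at h1 hx
  rw [hx, h1]

/-- An odd-order normal subgroup lies in the kernel of a real character of odd degree. -/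
theorem le_ker_of_odd (L : Subgroup G) [L.Normal] (hL : Odd (Nat.card L)) (χ : RO G) :
    L ≤ H24.kerChar χ.1 := by
  classical
  haveI := Fintype.ofFinite G
  haveI := Fintype.ofFinite L
  obtain ⟨θ, h1, -, hr⟩ := exists_odd_constituent (H12.isCharacter_irr χ.1) χ.2.2 L
  have hθ := H13.eq_one_of_real_of_odd hL θ.2 (hr χ.2.1)
  intro x hx
  rw [H24.mem_kerChar]
  have hne : classInner (fun x : L => (χ.1 : G → ℂ) x) (fun x => (((1 : L →* ℂˣ) x : ℂˣ) : ℂ)) ≠ 0 := by
    simpa [hθ] using h1
  have := res_eq_of_invariant L χ.1.2 1 (fun g => by funext y; simp [H13.twist_apply]) hne ⟨x, hx⟩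
  simpa using this

theorem isReal_irrCongr {K : Type v} [Group K] (e : K ≃* G) {χ : IrrCharacter G}
    (h : IsReal (χ : G → ℂ)) : IsReal (H12.irrCongr e χ : K → ℂ) := fun k => by
  rw [H12.irrCongr_apply]; exact h _

/-- The number of real characters of odd degree is an invariant of the group. -/
theorem card_RO_congr {K : Type v} [Group K] [Finite K] (e : K ≃* G) :
    Nat.card (RO K) = Nat.card (RO G) := by
  refine Nat.card_congr (Equiv.subtypeEquiv (H12.irrCongr e).symm fun χ => ?_)
  obtain ⟨φ, rfl⟩ := (H12.irrCongr e).surjective χ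
  rw [Equiv.symm_apply_apply]
  have hd : charDegree (H12.irrCongr e φ : K → ℂ) = charDegree (φ : G → ℂ) :=
    degree_trans (by rw [H12.irrCongr_apply, map_one]; exact H24.irr_one φ)
  rw [hd]
  refine and_congr_left fun _ => ⟨fun h g => ?_, isReal_irrCongr e⟩
  have := h (e.symm g)
  rwa [H12.irrCongr_apply, MulEquiv.apply_symm_apply] at this

theorem charDegree_inflate (L : Subgroup G) [L.Normal] (ψ : IrrCharacter (G ⧸ L)) :
    charDegree (H24.inflate L ψ : G → ℂ) = charDegree (ψ : G ⧸ L → ℂ) :=
  degree_trans (by rw [H24.inflate_apply]; exact H24.irr_one ψ)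

theorem isReal_inflate_iff (L : Subgroup G) [L.Normal] (ψ : IrrCharacter (G ⧸ L)) :
    IsReal (H24.inflate L ψ : G → ℂ) ↔ IsReal (ψ : G ⧸ L → ℂ) := by
  constructor
  · intro h x
    obtain ⟨g, rfl⟩ := QuotientGroup.mk_surjective x
    exact h g
  · intro h g
    exact h _

/-- Inflation between real characters of odd degree. -/
noncomputable def inflateRO (L : Subgroup G) [L.Normal] (ψ : RO (G ⧸ L)) : RO G :=
  ⟨H24.inflate L ψ.1, (isReal_inflate_iff L ψ.1).2 ψ.2.1, by
    rw [charDegree_inflate]; exact ψ.2.2⟩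

theorem card_RO_quotient_of_odd (L : Subgroup G) [L.Normal] (hL : Odd (Nat.card L)) :
    Nat.card (RO (G ⧸ L)) = Nat.card (RO G) := by
  refine Nat.card_congr (Equiv.ofBijective (inflateRO L) ⟨fun a b h => ?_, fun χ => ?_⟩)
  · exact Subtype.ext (H24.inflate_injective L (congrArg Subtype.val h))
  · obtain ⟨ψ, hψ⟩ := H24.exists_deflate L χ.1 (le_ker_of_odd L hL χ)
    refine ⟨⟨ψ, ?_, ?_⟩, Subtype.ext hψ⟩
    · rw [← isReal_inflate_iff L, hψ]; exact χ.2.1
    · rw [← charDegree_inflate L, hψ]; exact χ.2.2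

/-- A linear constituent of a character of odd degree on a two-subgroup. -/
theorem exists_linear_on_two [Fintype G] {χ : G → ℂ} (hχ : IsCharacter G χ)
    (hodd : Odd (charDegree χ)) (P : Subgroup G) [Fintype P] (hP : IsPGroup 2 P) :
    ∃ μ : P →* ℂˣ, classInner (fun x : P => χ x) (fun x => (μ x : ℂ)) ≠ 0 ∧
      (IsReal χ → μ * μ = 1) := by
  obtain ⟨θ, h1, h2, h3⟩ := exists_odd_constituent hχ hodd P
  obtain ⟨n, hn⟩ := IsPGroup.iff_card.1 hP
  have hdvd := H24.charDegree_dvd_card θ
  rw [hn] at hdvd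
  obtain ⟨k, -, hk⟩ := (Nat.dvd_prime_pow Nat.prime_two).1 hdvd
  have hdeg : charDegree (θ : P → ℂ) = 1 := by
    rcases k with _ | k
    · simpa using hk
    · rw [hk, pow_succ'] at h2
      exact absurd h2 (Nat.not_odd_iff_even.2 ⟨2 ^ k, by ring⟩)
  have hone : (θ : P → ℂ) 1 = 1 := by rw [H24.irr_one θ, hdeg, Nat.cast_one]
  refine ⟨H13.linHom (H12.isCharacter_irr θ) hone, ?_, fun hr => ?_⟩
  · exact h1
  · refine MonoidHom.ext fun x => Units.ext ?_
    simp only [MonoidHom.mul_apply, Units.val_mul, MonoidHom.one_apply, Units.val_one,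
      H13.linHom_apply]
    have h4 := H13.Twist.lin_mul_conj (H13.linHom (H12.isCharacter_irr θ) hone) x
    rwa [H13.linHom_apply, h3 hr x] at h4

theorem isReal_lin {X : Type*} [Group X] {μ : X →* ℂˣ} (h : μ * μ = 1) :
    IsReal (fun x => (μ x : ℂ)) := fun x => by
  have h1 : (μ x : ℂ) * (μ x : ℂ) = 1 := by
    simpa using congrArg (fun f : X →* ℂˣ => ((f x : ℂˣ) : ℂ)) h
  rcases mul_self_eq_one_iff.1 h1 with h2 | h2 <;>
    simp [h2]

theorem mul_self_of_isReal {X : Type u} [Group X] [Finite X] {μ : X →* ℂˣ}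
    (h : IsReal (fun x => (μ x : ℂ))) : μ * μ = 1 := by
  haveI := Fintype.ofFinite X
  refine MonoidHom.ext fun x => Units.ext ?_
  simp only [MonoidHom.mul_apply, Units.val_mul, MonoidHom.one_apply, Units.val_one]
  have h2 := H13.Twist.lin_mul_conj μ x
  rwa [h x] at h2

theorem hom_eq_of_classInner_ne {X : Type u} [Group X] [Fintype X] {f f' : X →* ℂˣ}
    (h : classInner (fun x => (f x : ℂ)) (fun x => (f' x : ℂ)) ≠ 0) : f = f' := by
  by_contra hne
  exact h (H12.classInner_irr_ne (χ := H12.linIrr f) (ψ := H12.linIrr f')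
    fun e => hne (H12.linIrr_injective e))

end H25.RealOdd
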