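import Cfsg.Agent.H25.RealOddBase
import Cfsg.Agent.H14.LinExt
import Cfsg.Agent.H78.SylowConj

/-!
# Real odd-degree characters over an elementary abelian normal two-subgroup
-/

set_option autoImplicit false
set_option linter.unusedSectionVars false
set_option linter.style.haveILetI false

open Cfsg
open scoped ComplexConjugate

namespace H25.RealOdd

universe u

variable {G : Type u} [Group G] [Finite G]

/-- Conjugate of a linear character of a normal subgroup. -/
def twh (L : Subgroup G) [L.Normal] (g : G) (lam : L →* ℂˣ) : L →* ℂˣ :=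
  lam.comp (MulAut.conjNormal g).toMonoidHom

/-- The stabiliser of a linear character of a normal subgroup. -/
def stab (L : Subgroup G) [L.Normal] (lam : L →* ℂˣ) : Subgroup G :=
  H13.inertia L (fun x => (lam x : ℂ))

variable (L : Subgroup G) [L.Normal]

theorem coe_twh (g : G) (lam : L →* ℂˣ) :
    (fun x => (twh L g lam x : ℂ)) = H13.twist L g (fun x => (lam x : ℂ)) := rfl

theorem twh_twh (g h : G) (lam : L →* ℂˣ) : twh L g (twh L h lam) = twh L (h * g) lam := by
  refine MonoidHom.ext fun x => congrArg lam (Subtype.ext ?_)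
  simp [MulAut.conjNormal_apply, mul_assoc]

theorem twh_one (lam : L →* ℂˣ) : twh L 1 lam = lam :=
  MonoidHom.ext fun x => congrArg lam (Subtype.ext (by simp))

theorem mem_stab {lam : L →* ℂˣ} {g : G} : g ∈ stab L lam ↔ twh L g lam = lam := by
  rw [stab, H13.mem_inertia, ← coe_twh]
  exact ⟨fun h => MonoidHom.ext fun x => Units.ext (congrFun h x), fun h => by rw [h]⟩

theorem le_stab (lam : L →* ℂˣ) : L ≤ stab L lam :=
  H13.le_inertia L (H12.irr_isClassFunction (H12.linIrr lam))

theorem inner_res_twh [Fintype G] [Fintype L] {χ : G → ℂ} (hχ : IsClassFunction G χ) (g : G) (lam : L →* ℂˣ) :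
    classInner (fun x : L => χ x) (fun x => (twh L g lam x : ℂ)) =
      classInner (fun x : L => χ x) (fun x => (lam x : ℂ)) := by
  rw [coe_twh]
  exact H13.classInner_res_twist L hχ _ g

/-- Real odd-degree characters over a linear character of a normal subgroup. -/
def ROver [Fintype L] (lam : L →* ℂˣ) : Type u :=
  {χ : RO G // classInner (fun x : L => (χ.1 : G → ℂ) x) (fun x => (lam x : ℂ)) ≠ 0}

noncomputable instance ROver.finite [Fintype L] (lam : L →* ℂˣ) : Finite (ROver L lam) :=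
  Subtype.finite

/-- Existence of a real extension to a given subgroup. -/
def ExtP (P : Subgroup G) (lam : L →* ℂˣ) : Prop :=
  ∃ μ : P →* ℂˣ, μ * μ = 1 ∧ ∀ (l : L) (h : (l : G) ∈ P), μ ⟨l, h⟩ = lam l

theorem indFun_conj_fun [Fintype G] (T : Subgroup G) (ψ : T → ℂ) (g : G) :
    indFun T (fun t => conj (ψ t)) g = conj (indFun T ψ g) := by
  simp only [indFun, map_mul, map_inv₀, map_natCast, map_sum]
  congr 1
  refine Finset.sum_congr rfl fun x _ => ?_
  by_cases h : x⁻¹ * g * x ∈ T
  · rw [H14.extendByZero_of_mem _ _ h, H14.extendByZero_of_mem _ _ h]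
  · rw [H14.extendByZero_of_not_mem _ _ h, H14.extendByZero_of_not_mem _ _ h, map_zero]

/-- A character over a linear character restricted to the stabiliser. -/
def onStab (lam : L →* ℂˣ) : ↥(L.subgroupOf (stab L lam)) →* ℂˣ :=
  lam.comp (Subgroup.subgroupOfEquivOfLe (le_stab L lam)).toMonoidHom

theorem inner_onStab [Fintype L] (lam : L →* ℂˣ) [Fintype ↥(L.subgroupOf (stab L lam))]
    (ψ : ↥(stab L lam) → ℂ) :
    classInner (fun x : ↥(L.subgroupOf (stab L lam)) => ψ x) (fun x => (onStab L lam x : ℂ)) =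
      classInner (H13.resTo (le_stab L lam) ψ) (fun x => (lam x : ℂ)) := by
  rw [← H13.classInner_comp_equiv (Subgroup.subgroupOfEquivOfLe (le_stab L lam))]
  rfl

/-- Clifford reduction to the stabiliser. -/
theorem card_ROver_stab [Fintype L] (lam : L →* ℂˣ) [Fintype ↥(L.subgroupOf (stab L lam))]
    (hlam : lam * lam = 1) (hidx : Odd (stab L lam).index) :
    Nat.card (ROver L lam) = Nat.card (ROver (L.subgroupOf (stab L lam)) (onStab L lam)) := by
  classical
  haveI := Fintype.ofFinite G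
  haveI := Fintype.ofFinite (stab L lam)
  have hl := H12.isIrrCharacter_monoidHom lam
  have hT : stab L lam = H13.inertia L (fun x => (lam x : ℂ)) := rfl
  have hcor := fun (ψ : ↥(stab L lam) → ℂ) (h1 : IsIrrCharacter _ ψ) h2 =>
    H13.clifford_correspondence L hl hT (le_stab L lam) (ψ := ψ) h1 h2
  have hdeg : ∀ ψ : IrrCharacter ↥(stab L lam),
      indFun (stab L lam) (ψ : ↥(stab L lam) → ℂ) 1 =
        (((stab L lam).index * charDegree (ψ : ↥(stab L lam) → ℂ) : ℕ) : ℂ) := fun ψ => by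
    rw [H13.indFun_apply_one, H24.irr_one ψ]; push_cast; ring
  let Φ : ROver (L.subgroupOf (stab L lam)) (onStab L lam) → ROver L lam := fun ψ =>
    have hne : classInner (H13.resTo (le_stab L lam) (ψ.1.1 : ↥(stab L lam) → ℂ))
        (fun x => (lam x : ℂ)) ≠ 0 := by rw [← inner_onStab]; exact ψ.2
    ⟨⟨⟨_, (hcor _ ψ.1.1.2 hne).1⟩, fun g => by
        show conj (indFun (stab L lam) (ψ.1.1 : ↥(stab L lam) → ℂ) g) = _
        rw [← indFun_conj_fun]
        congr 1
        exact funext ψ.1.2.1, by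
        show Odd (charDegree (indFun (stab L lam) (ψ.1.1 : ↥(stab L lam) → ℂ)))
        rw [degree_trans (χ := ⟨_, (hcor _ ψ.1.1.2 hne).1⟩) (hdeg ψ.1.1)]
        exact hidx.mul ψ.1.2.2⟩, by
      show classInner (fun x : L => indFun (stab L lam) (ψ.1.1 : ↥(stab L lam) → ℂ) x) _ ≠ 0
      rw [(hcor _ ψ.1.1.2 hne).2]; exact hne⟩
  refine (Nat.card_congr (Equiv.ofBijective Φ ⟨fun a b h => ?_, fun χ => ?_⟩)).symm
  · have h1 : indFun (stab L lam) (a.1.1 : ↥(stab L lam) → ℂ) =
        indFun (stab L lam) (b.1.1 : ↥(stab L lam) → ℂ) :=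
      congrArg (fun z : ROver L lam => (z.1.1 : G → ℂ)) h
    exact Subtype.ext (Subtype.ext (Subtype.ext (H13.clifford_correspondence_inj L hl hT
      (le_stab L lam) a.1.1.2 b.1.1.2 (by rw [← inner_onStab]; exact a.2)
      (by rw [← inner_onStab]; exact b.2) h1)))
  · obtain ⟨ψ, hψ, hψN, hind⟩ :=
      H13.clifford_correspondence_exists L hl hT (le_stab L lam) χ.1.1.2 χ.2
    have hψN' : classInner (H13.resTo (le_stab L lam) fun t => conj (ψ t))
        (fun x => (lam x : ℂ)) ≠ 0 := by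
      have h1 : classInner (H13.resTo (le_stab L lam) fun t => conj (ψ t))
          (fun x => (lam x : ℂ)) =
          conj (classInner (H13.resTo (le_stab L lam) ψ) (fun x => (lam x : ℂ))) := by
        rw [H12.classInner_def, H12.classInner_def, map_mul, map_inv₀, map_natCast, map_sum]
        congr 1
        refine Finset.sum_congr rfl fun x _ => ?_
        rw [map_mul, isReal_lin hlam x, H13.resTo_apply, H13.resTo_apply, isReal_lin hlam x]
      rw [h1]
      simpa using hψN
    have hre : (fun t => conj (ψ t)) = ψ := by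
      refine H13.clifford_correspondence_inj L hl hT (le_stab L lam)
        (H12.isIrrCharacter_conj hψ) hψ hψN' hψN ?_
      funext g
      rw [indFun_conj_fun, hind]
      exact χ.1.2.1 g
    have hd : charDegree (χ.1.1 : G → ℂ) = (stab L lam).index * charDegree ψ :=
      degree_trans (by rw [← hind]; exact hdeg ⟨ψ, hψ⟩)
    have ho := χ.1.2.2
    rw [hd, Nat.odd_mul] at ho
    refine ⟨⟨⟨⟨ψ, hψ⟩, fun t => congrFun hre t, ho.2⟩, by rw [inner_onStab]; exact hψN⟩, ?_⟩
    exact Subtype.ext (Subtype.ext (Subtype.ext hind))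

theorem transfer_mul_self {A : Subgroup G} [A.FiniteIndex] (μ : A →* ℂˣ) (hμ : μ * μ = 1) :
    MonoidHom.transfer μ * MonoidHom.transfer μ = 1 := by
  classical
  letI : Fintype (G ⧸ A) := Fintype.ofFinite _
  let T : A.LeftTransversal := default
  refine MonoidHom.ext fun g => ?_
  rw [MonoidHom.mul_apply, MonoidHom.transfer_def μ T, MonoidHom.one_apply]
  unfold Subgroup.leftTransversals.diff
  rw [← Finset.prod_mul_distrib]
  refine Finset.prod_eq_one fun q _ => ?_
  exact congrArg (fun f : A →* ℂˣ => f _) hμ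

/-- Transfer restricted to an elementary abelian invariant part. -/
theorem transfer_restrict (P : Sylow 2 G) (hLP : L ≤ (P : Subgroup G)) (lam : L →* ℂˣ)
    (hinv : ∀ g : G, twh L g lam = lam) (hlam : lam * lam = 1) (μ0 : (P : Subgroup G) →* ℂˣ)
    (h2 : ∀ (l : L) (h : (l : G) ∈ (P : Subgroup G)), μ0 ⟨l, h⟩ = lam l) (l : L) :
    MonoidHom.transfer μ0 (l : G) = lam l := by
  haveI : Fact (Nat.Prime 2) := ⟨Nat.prime_two⟩
  rw [H14.transfer_apply_of_invariant L (P : Subgroup G) hLP μ0 (fun g n hn => ?_) (l : G) l.2]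
  · rw [h2 l]
    obtain ⟨k, hk⟩ : Odd (P : Subgroup G).index :=
      Nat.not_even_iff_odd.1 fun he => P.not_dvd_index (even_iff_two_dvd.1 he)
    have h3 : lam l * lam l = 1 := congrArg (fun f : L →* ℂˣ => f l) hlam
    rw [hk, pow_succ, pow_mul, sq, h3, one_pow, one_mul]
  · refine (h2 ⟨g * n * g⁻¹, Subgroup.Normal.conj_mem inferInstance n hn g⟩ _).trans ?_
    refine Eq.trans ?_ (h2 ⟨n, hn⟩ _).symm
    exact congrArg (fun f : L →* ℂˣ => f ⟨n, hn⟩) (hinv g)

/-- Transfer gives a real extension. -/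
theorem exists_real_extension (P : Sylow 2 G) (hLP : L ≤ (P : Subgroup G)) (lam : L →* ℂˣ)
    (hinv : ∀ g : G, twh L g lam = lam) (hlam : lam * lam = 1)
    (h : ExtP L (P : Subgroup G) lam) :
    ∃ μ : G →* ℂˣ, μ * μ = 1 ∧ ∀ l : L, μ l = lam l := by
  obtain ⟨μ0, h1, h2⟩ := h
  exact ⟨MonoidHom.transfer μ0, transfer_mul_self μ0 h1,
    transfer_restrict L P hLP lam hinv hlam μ0 h2⟩

/-- The invariant case. -/
theorem card_ROver_invariant [Fintype L] (P : Sylow 2 G) (hLP : L ≤ (P : Subgroup G))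
    (lam : L →* ℂˣ) (hinv : ∀ g : G, twh L g lam = lam) (hlam : lam * lam = 1)
    [Decidable (ExtP L (P : Subgroup G) lam)] :
    Nat.card (ROver L lam) =
      if ExtP L (P : Subgroup G) lam then Nat.card (RO (G ⧸ L)) else 0 := by
  classical
  haveI := Fintype.ofFinite G
  have hinv' : ∀ g : G, H13.twist L g (fun x => (lam x : ℂ)) = fun x => (lam x : ℂ) := fun g => by
    rw [← coe_twh, hinv]
  split_ifs with h
  · obtain ⟨μ, hμ, hμl⟩ := exists_real_extension L P hLP lam hinv hlam h
    have hμμ : ∀ χ : IrrCharacter G, H13.Twist.twi (H13.Twist.twi χ μ) μ = χ := fun χ => by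
      rw [H13.Twist.twi_mul, hμ, H13.Twist.twi_one]
    have hreal : ∀ χ : IrrCharacter G, IsReal (χ : G → ℂ) →
        IsReal (H13.Twist.twi χ μ : G → ℂ) := fun χ hχ g => by
      rw [H13.Twist.twi_apply, map_mul, hχ, isReal_lin hμ g]
    have hdeg : ∀ χ : IrrCharacter G,
        charDegree (H13.Twist.twi χ μ : G → ℂ) = charDegree (χ : G → ℂ) := fun χ =>
      degree_trans (by rw [H13.Twist.twi_degree]; exact H24.irr_one χ)
    let Φ : RO (G ⧸ L) → ROver L lam := fun ξ =>
      ⟨⟨H13.Twist.twi (inflateRO L ξ).1 μ, hreal _ (inflateRO L ξ).2.1, by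
        rw [hdeg]; exact (inflateRO L ξ).2.2⟩, by
        have h1 : (fun x : L => (H13.Twist.twi (inflateRO L ξ).1 μ : G → ℂ) x) =
            (ξ.1 : G ⧸ L → ℂ) 1 • fun x : L => (lam x : ℂ) := by
          funext x
          rw [H13.Twist.twi_apply, hμl, Pi.smul_apply, smul_eq_mul]
          congr 1
          show (ξ.1 : G ⧸ L → ℂ) ((x : G) : G ⧸ L) = _
          rw [(QuotientGroup.eq_one_iff (x : G)).2 x.2]
        show classInner (fun x : L => (H13.Twist.twi (inflateRO L ξ).1 μ : G → ℂ) x) _ ≠ 0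
        rw [h1, H12.classInner_smul_left]
        refine mul_ne_zero (H12.irr_apply_one_ne_zero ξ.1) ?_
        rw [show classInner (fun x : L => (lam x : ℂ)) (fun x : L => (lam x : ℂ)) = 1 from
          H12.classInner_irr_self (H12.linIrr lam)]
        exact one_ne_zero⟩
    refine (Nat.card_congr (Equiv.ofBijective Φ ⟨fun a b hab => ?_, fun χ => ?_⟩)).symm
    · have h1 : H13.Twist.twi (inflateRO L a).1 μ = H13.Twist.twi (inflateRO L b).1 μ :=
        congrArg (fun z : ROver L lam => z.1.1) hab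
      have h2 := congrArg (fun z => H13.Twist.twi z μ) h1
      simp only [hμμ] at h2
      exact Subtype.ext (H24.inflate_injective L h2)
    · have hker : L ≤ H24.kerChar (H13.Twist.twi χ.1.1 μ) := by
        intro x hx
        rw [H24.mem_kerChar, H13.Twist.twi_apply, H13.Twist.twi_degree,
          res_eq_of_invariant L χ.1.1.2 lam hinv' χ.2 ⟨x, hx⟩,
          show μ x = lam ⟨x, hx⟩ from hμl ⟨x, hx⟩, mul_assoc, ← Units.val_mul,
          show lam ⟨x, hx⟩ * lam ⟨x, hx⟩ = 1 from congrArg (fun f : L →* ℂˣ => f ⟨x, hx⟩) hlam,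
          Units.val_one, mul_one]
      obtain ⟨ψ, hψ⟩ := H24.exists_deflate L _ hker
      refine ⟨⟨ψ, ?_, ?_⟩, Subtype.ext (Subtype.ext ?_)⟩
      · rw [← isReal_inflate_iff L, hψ]; exact hreal _ χ.1.2.1
      · rw [← charDegree_inflate L, hψ, hdeg]; exact χ.1.2.2
      · show H13.Twist.twi (H24.inflate L ψ) μ = χ.1.1
        rw [hψ, hμμ]
  · rw [Nat.card_eq_zero]
    refine Or.inl ⟨fun χ => h ?_⟩
    haveI := Fintype.ofFinite (P : Subgroup G)
    obtain ⟨μ0, h1, h2⟩ := exists_linear_on_two (H12.isCharacter_irr χ.1.1) χ.1.2.2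
      (P : Subgroup G) P.isPGroup'
    refine ⟨μ0, h2 χ.1.2.1, fun l hl => ?_⟩
    have h3 := constituent_trans (H12.isCharacter_irr χ.1.1) hLP
      (H12.isIrrCharacter_monoidHom μ0) h1
      (l := fun x : L => (μ0.comp (Subgroup.inclusion hLP) x : ℂ))
      (H13.Twist.linChar _) (by
        show classInner (fun x : L => (μ0.comp (Subgroup.inclusion hLP) x : ℂ))
          (fun x : L => (μ0.comp (Subgroup.inclusion hLP) x : ℂ)) ≠ 0
        rw [show classInner (fun x : L => (μ0.comp (Subgroup.inclusion hLP) x : ℂ))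
          (fun x : L => (μ0.comp (Subgroup.inclusion hLP) x : ℂ)) = 1 from
          H12.classInner_irr_self (H12.linIrr (μ0.comp (Subgroup.inclusion hLP)))]
        exact one_ne_zero)
    have h4 : (fun x : L => (χ.1.1 : G → ℂ) x) =
        (χ.1.1 : G → ℂ) 1 • fun x : L => (lam x : ℂ) := by
      funext x
      rw [res_eq_of_invariant L χ.1.1.2 lam hinv' χ.2 x]
      rfl
    rw [h4, H12.classInner_smul_left] at h3
    exact congrArg (fun f : L →* ℂˣ => f l) (hom_eq_of_classInner_ne (right_ne_zero_of_mul h3)).symm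

/-- Conjugate fixed linear characters are conjugate in the normaliser of the Sylow subgroup. -/
theorem fixed_fusion (P : Sylow 2 G) {lam lam' : L →* ℂˣ}
    (h : (P : Subgroup G) ≤ stab L lam) (h' : (P : Subgroup G) ≤ stab L lam') {g : G}
    (hg : twh L g lam = lam') :
    ∃ n ∈ Subgroup.normalizer ((P : Subgroup G) : Set G), twh L n lam = lam' := by
  haveI : Fact (Nat.Prime 2) := ⟨Nat.prime_two⟩
  set A := (P : Subgroup G).map (MulAut.conj g⁻¹).toMonoidHom with hA
  have hAL : A ≤ stab L lam' := by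
    rintro _ ⟨x, hx, rfl⟩
    rw [mem_stab, ← hg, twh_twh]
    show twh L (g * (g⁻¹ * x * g⁻¹⁻¹)) lam = twh L g lam
    rw [show g * (g⁻¹ * x * g⁻¹⁻¹) = x * g by group, ← twh_twh, (mem_stab L).1 (h hx)]
  have hcard : Nat.card A = Nat.card (P : Subgroup G) :=
    Subgroup.card_map_of_injective (MulAut.conj g⁻¹).injective
  have hAi : A.index = (P : Subgroup G).index := by
    have h1 := A.card_mul_index
    have h2 := (P : Subgroup G).card_mul_index
    rw [hcard, ← h2] at h1
    exact Nat.eq_of_mul_eq_mul_left Nat.card_pos h1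
  obtain ⟨t, ht, hmap⟩ := H78.sylow_conj_in (p := 2) (P.isPGroup'.map _) hAL
    (fun hd => P.not_dvd_index (hAi ▸ hd.trans (Subgroup.relIndex_dvd_index_of_le hAL)))
    P.isPGroup' h' hcard.le
  refine ⟨g * t⁻¹, ?_, ?_⟩
  · rw [← inv_inv (g * t⁻¹)]
    refine Subgroup.inv_mem _ ?_
    refine Subgroup.mem_normalizer_fintype ?_
    intro x hx
    have h1 : t * (g⁻¹ * x * g⁻¹⁻¹) * t⁻¹ ∈ A.map (MulAut.conj t).toMonoidHom :=
      ⟨_, ⟨x, hx, rfl⟩, rfl⟩
    rw [hmap] at h1
    show (g * t⁻¹)⁻¹ * x * (g * t⁻¹)⁻¹⁻¹ ∈ ((P : Subgroup G) : Set G)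
    rw [SetLike.mem_coe]
    simpa [mul_assoc, SetLike.mem_coe] using h1
  · rw [← twh_twh, hg]
    exact (mem_stab L).1 ((stab L lam').inv_mem ht)

/-- An odd-degree character lies over a linear character fixed by the Sylow subgroup. -/
theorem exists_fixed_constituent [Fintype L] [Fintype G] (P : Sylow 2 G)
    (hab : ∀ a b : L, a * b = b * a) (χ : IrrCharacter G) (ho0 : Odd (charDegree (χ : G → ℂ))) :
    ∃ f : L →* ℂˣ, (P : Subgroup G) ≤ stab L f ∧
      classInner (fun x : L => (χ : G → ℂ) x) (fun x => (f x : ℂ)) ≠ 0 := by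
  haveI : Fact (Nat.Prime 2) := ⟨Nat.prime_two⟩
  obtain ⟨θ, hθ⟩ := H13.exists_constituent L (H12.isCharacter_irr χ)
    (fun h0 => H12.irr_apply_one_ne_zero χ (congrFun h0 1))
  let f := H13.linHom (H12.isCharacter_irr θ) (H13.degree_one_of_commutative hab θ)
  have hf : classInner (fun x : L => (χ : G → ℂ) x) (fun x => (f x : ℂ)) ≠ 0 := hθ
  have hd := H13.clifford_degree L χ.2 (H12.isIrrCharacter_monoidHom f) hf
  obtain ⟨e, he⟩ := H12.IsCharacter.classInner_nat
    (H12.IsCharacter.res (H12.isCharacter_irr χ) L) (H13.Twist.linChar f)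
  rw [H24.irr_one χ, he, map_one, Units.val_one, mul_one] at hd
  have hd' : charDegree (χ : G → ℂ) = e * (stab L f).index := by
    unfold stab; exact_mod_cast hd
  have ho := ho0
  rw [hd', Nat.odd_mul] at ho
  obtain ⟨S⟩ : Nonempty (Sylow 2 ↥(stab L f)) := inferInstance
  let Q := (S : Subgroup ↥(stab L f)).map (stab L f).subtype
  have hQi : ¬ 2 ∣ Q.index := by
    rw [Subgroup.index_map_subtype]
    exact fun hd2 => (Nat.prime_two.dvd_mul.1 hd2).elim S.not_dvd_index
      fun h2 => Nat.not_even_iff_odd.2 ho.2 (even_iff_two_dvd.2 h2)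
  let Q' : Sylow 2 G := IsPGroup.toSylow (S.isPGroup'.map _) hQi
  obtain ⟨g, hg⟩ := MulAction.exists_smul_eq G Q' P
  have hfixed : (P : Subgroup G) ≤ stab L (twh L g⁻¹ f) := by
    intro x hx
    rw [← hg, Sylow.smul_def, Sylow.pointwise_smul_def, Subgroup.pointwise_smul_def] at hx
    obtain ⟨q, hq, rfl⟩ := hx
    have hqs : q ∈ stab L f := by
      obtain ⟨z, -, rfl⟩ : q ∈ Q := hq
      exact z.2
    rw [mem_stab, twh_twh]
    show twh L (g⁻¹ * (g * q * g⁻¹)) f = twh L g⁻¹ f
    rw [show g⁻¹ * (g * q * g⁻¹) = q * g⁻¹ by group, ← twh_twh, (mem_stab L).1 hqs]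
  refine ⟨_, hfixed, ?_⟩
  rwa [inner_res_twh L (H12.irr_isClassFunction χ)]

/-- The decomposition over representatives of fixed linear characters. -/
theorem card_RO_eq_sum [Fintype L] (P : Sylow 2 G) (hab : ∀ a b : L, a * b = b * a)
    {I : Type u} [Fintype I] (rep : I → (L →* ℂˣ))
    (hfix : ∀ i, (P : Subgroup G) ≤ stab L (rep i))
    (hex : ∀ lam : L →* ℂˣ, (P : Subgroup G) ≤ stab L lam →
      ∃ i, ∃ n ∈ Subgroup.normalizer ((P : Subgroup G) : Set G), twh L n (rep i) = lam)
    (huniq : ∀ i j, ∀ n ∈ Subgroup.normalizer ((P : Subgroup G) : Set G),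
      twh L n (rep i) = rep j → i = j) :
    Nat.card (RO G) = ∑ i, Nat.card (ROver L (rep i)) := by
  classical
  haveI : Fact (Nat.Prime 2) := ⟨Nat.prime_two⟩
  haveI := Fintype.ofFinite G
  rw [← Nat.card_sigma]
  refine (Nat.card_congr (Equiv.ofBijective (fun z : Σ i, ROver L (rep i) => z.2.1) ⟨?_, ?_⟩)).symm
  · rintro ⟨i, a⟩ ⟨j, b⟩ (hab' : a.1 = b.1)
    have hij : i = j := by
      obtain ⟨g, hg⟩ : ∃ g : G, H13.twist L g (fun x => (rep i x : ℂ)) = fun x => (rep j x : ℂ) := by
        by_contra hno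
        simp only [not_exists] at hno
        exact b.2 (H13.classInner_res_eq_zero_of_not_conj L b.1.1.2
          (H12.isIrrCharacter_monoidHom (rep i)) (H12.isIrrCharacter_monoidHom (rep j))
          (hab' ▸ a.2) hno)
      have hg' : twh L g (rep i) = rep j :=
        MonoidHom.ext fun x => Units.ext (congrFun hg x)
      obtain ⟨n, hn, hn'⟩ := fixed_fusion L P (hfix i) (hfix j) hg'
      exact huniq i j n hn hn'
    subst hij
    exact congrArg _ (Subtype.ext hab')
  · intro χ
    obtain ⟨f, hfixed, hf⟩ := exists_fixed_constituent L P hab χ.1 χ.2.2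
    obtain ⟨i, n, -, hn⟩ := hex _ hfixed
    refine ⟨⟨i, χ, ?_⟩, rfl⟩
    have hcl := H12.irr_isClassFunction χ.1
    rwa [← inner_res_twh L hcl n, hn]

end H25.RealOdd
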