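import Cfsg.Agent.H25.RealOddDecomp
import Cfsg.Agent.H15.Homogeneous

/-!
# Real characters of odd degree in solvable groups: the local count
-/

set_option autoImplicit false
set_option linter.unusedSectionVars false
set_option linter.style.haveILetI false

open Cfsg
open scoped ComplexConjugate

namespace H25.RealOdd

universe u v

variable {G : Type u} [Group G] [Finite G]

/-- Normalisers of Sylow subgroups map onto normalisers. -/
theorem map_normalizer_sylow {H : Type v} [Group H] (p : ℕ) [Fact p.Prime] (f : G →* H)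
    (hf : Function.Surjective f) (P : Sylow p G) :
    (Subgroup.normalizer ((P : Subgroup G) : Set G)).map f =
      Subgroup.normalizer (((P : Subgroup G).map f : Subgroup H) : Set H) := by
  refine le_antisymm (Subgroup.le_normalizer_map f) fun z hz => ?_
  obtain ⟨x, rfl⟩ := hf z
  set K := ((P : Subgroup G).map f).comap f with hK
  have hPK : (P : Subgroup G) ≤ K := fun y hy => ⟨y, hy, rfl⟩
  set A := (P : Subgroup G).map (MulAut.conj x).toMonoidHom with hA
  have hAK : A ≤ K := by
    rintro _ ⟨y, hy, rfl⟩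
    show f (x * y * x⁻¹) ∈ (P : Subgroup G).map f
    rw [map_mul, map_mul, map_inv]
    exact (Subgroup.mem_normalizer_iff.1 hz (f y)).1 ⟨y, hy, rfl⟩
  have hcard : Nat.card A = Nat.card (P : Subgroup G) :=
    Subgroup.card_map_of_injective (MulAut.conj x).injective
  have hAi : A.index = (P : Subgroup G).index := by
    have h1 := A.card_mul_index
    have h2 := (P : Subgroup G).card_mul_index
    rw [hcard, ← h2] at h1
    exact Nat.eq_of_mul_eq_mul_left Nat.card_pos h1
  obtain ⟨k, hk, hmap⟩ := H78.sylow_conj_in (p := p) (P.isPGroup'.map _) hAK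
    (fun hd => P.not_dvd_index (hAi ▸ hd.trans (Subgroup.relIndex_dvd_index_of_le hAK)))
    P.isPGroup' hPK hcard.le
  have hkx : k * x ∈ Subgroup.normalizer ((P : Subgroup G) : Set G) := by
    refine Subgroup.mem_normalizer_fintype fun y hy => ?_
    have h1 : k * (x * y * x⁻¹) * k⁻¹ ∈ A.map (MulAut.conj k).toMonoidHom :=
      ⟨_, ⟨y, hy, rfl⟩, rfl⟩
    rw [hmap] at h1
    rw [SetLike.mem_coe]
    simpa [mul_assoc] using h1
  obtain ⟨y, hy, hyk⟩ : f k ∈ (P : Subgroup G).map f := hk
  have : f x = f (y⁻¹ * (k * x)) := by rw [map_mul, map_mul, map_inv, hyk]; group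
  rw [this]
  exact Subgroup.mem_map_of_mem f
    (Subgroup.mul_mem _ (Subgroup.inv_mem _ (Subgroup.le_normalizer hy)) hkx)

/-- Counting through a homomorphism with prescribed range and kernel. -/
theorem card_RO_image {B : Type v} [Group B] [Finite B] (f : G →* B) (R : Subgroup B)
    (hr : f.range = R) (L : Subgroup G) [L.Normal] (hk : f.ker = L) :
    Nat.card (RO (G ⧸ L)) = Nat.card (RO R) :=
  card_RO_congr <| ((QuotientGroup.quotientMulEquivOfEq hk.symm).trans
    (QuotientGroup.quotientKerEquivRange f)).trans (MulEquiv.subgroupCongr hr)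

theorem mem_normalizer_subgroupOf {P T : Subgroup G} (hPT : P ≤ T) {x : T} :
    x ∈ Subgroup.normalizer ((P.subgroupOf T : Subgroup T) : Set T) ↔
      (x : G) ∈ Subgroup.normalizer (P : Set G) := by
  rw [Subgroup.mem_normalizer_iff, Subgroup.mem_normalizer_iff]
  constructor
  · intro h y
    refine ⟨fun hy => by simpa [Subgroup.mem_subgroupOf] using (h ⟨y, hPT hy⟩).1 hy, fun hy => ?_⟩
    have hyT : y ∈ T := by
      have := T.mul_mem (T.mul_mem (T.inv_mem x.2) (hPT hy)) x.2
      simpa [mul_assoc] using this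
    exact (h ⟨y, hyT⟩).2 (by simpa [Subgroup.mem_subgroupOf] using hy)
  · intro h y
    simpa [Subgroup.mem_subgroupOf] using h (y : G)

theorem extP_transport {L P X : Subgroup G} [L.Normal] (hPX : P ≤ X) (hLX : L ≤ X)
    (lam : L →* ℂˣ) :
    ExtP (L.subgroupOf X) (P.subgroupOf X)
      (lam.comp (Subgroup.subgroupOfEquivOfLe hLX).toMonoidHom) ↔ ExtP L P lam := by
  constructor
  · rintro ⟨μ, h1, h2⟩
    refine ⟨μ.comp (Subgroup.subgroupOfEquivOfLe hPX).symm.toMonoidHom,
      MonoidHom.ext fun x => congrArg (fun f : P.subgroupOf X →* ℂˣ =>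
        f ((Subgroup.subgroupOfEquivOfLe hPX).symm x)) h1, fun l h => ?_⟩
    exact h2 ⟨⟨l, hLX l.2⟩, l.2⟩ h
  · rintro ⟨μ, h1, h2⟩
    refine ⟨μ.comp (Subgroup.subgroupOfEquivOfLe hPX).toMonoidHom,
      MonoidHom.ext fun x => congrArg (fun f : P →* ℂˣ =>
        f (Subgroup.subgroupOfEquivOfLe hPX x)) h1, fun l h => ?_⟩
    exact h2 ⟨((l : X) : G), l.2⟩ h

theorem odd_index_of_sylow_le (P : Sylow 2 G) {T : Subgroup G} (h : (P : Subgroup G) ≤ T) :
    Odd T.index := by
  haveI : Fact (Nat.Prime 2) := ⟨Nat.prime_two⟩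
  exact Nat.not_even_iff_odd.1 fun he =>
    P.not_dvd_index ((even_iff_two_dvd.1 he).trans (Subgroup.index_dvd_of_le h))

theorem le_sylow_of_normal {p : ℕ} (L : Subgroup G) [L.Normal] (hL : IsPGroup p L)
    (P : Sylow p G) : L ≤ (P : Subgroup G) := by
  have h := P.is_maximal' (P.isPGroup'.to_sup_of_normal_right hL) le_sup_left
  exact le_sup_right.trans h.le

/-- The count over one fixed linear character. -/
theorem card_ROver_fixed (L : Subgroup G) [L.Normal] [Fintype L] (P : Sylow 2 G)
    (hLP : L ≤ (P : Subgroup G)) (lam : L →* ℂˣ) (hlam : lam * lam = 1)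
    (hfix : (P : Subgroup G) ≤ stab L lam) [Decidable (ExtP L (P : Subgroup G) lam)] :
    Nat.card (ROver L lam) = if ExtP L (P : Subgroup G) lam then
      Nat.card (RO (↥(stab L lam) ⧸ L.subgroupOf (stab L lam))) else 0 := by
  classical
  haveI : Fact (Nat.Prime 2) := ⟨Nat.prime_two⟩
  haveI := Fintype.ofFinite ↥(L.subgroupOf (stab L lam))
  have hinv : ∀ t : stab L lam, twh (L.subgroupOf (stab L lam)) t (onStab L lam) = onStab L lam :=
    fun t => MonoidHom.ext fun x =>
      congrArg (fun f : L →* ℂˣ => f ⟨((x : ↥(stab L lam)) : G), x.2⟩) ((mem_stab L).1 t.2)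
  have hsq' : onStab L lam * onStab L lam = 1 := MonoidHom.ext fun x => congrArg
    (fun f : L →* ℂˣ => f (Subgroup.subgroupOfEquivOfLe (le_stab L lam) x)) hlam
  rw [card_ROver_stab L lam hlam (odd_index_of_sylow_le P hfix),
    card_ROver_invariant (L.subgroupOf (stab L lam)) (P.subtype hfix)
      (fun x hx => hLP hx) (onStab L lam) hinv hsq']
  by_cases h : ExtP L (P : Subgroup G) lam
  · rw [if_pos h, if_pos (show ExtP (L.subgroupOf (stab L lam))
      (P.subtype hfix : Subgroup ↥(stab L lam)) (onStab L lam) from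
      (extP_transport hfix (le_stab L lam) lam).2 h)]
  · rw [if_neg h, if_neg (show ¬ ExtP (L.subgroupOf (stab L lam))
      (P.subtype hfix : Subgroup ↥(stab L lam)) (onStab L lam) from
      mt (extP_transport hfix (le_stab L lam) lam).1 h)]

/-- The stabiliser in a subgroup. -/
theorem mem_stab_subgroupOf (L : Subgroup G) [L.Normal] {X : Subgroup G} (hLX : L ≤ X)
    (lam : L →* ℂˣ) (x : X) :
    x ∈ stab (L.subgroupOf X) (lam.comp (Subgroup.subgroupOfEquivOfLe hLX).toMonoidHom) ↔
      (x : G) ∈ stab L lam := by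
  rw [mem_stab, mem_stab]
  constructor
  · intro h
    exact MonoidHom.ext fun l => congrArg (fun f : L.subgroupOf X →* ℂˣ =>
      f ⟨⟨l, hLX l.2⟩, l.2⟩) h
  · intro h
    exact MonoidHom.ext fun l => congrArg (fun f : L →* ℂˣ => f ⟨((l : X) : G), l.2⟩) h

/-- The inductive step for a normal two-subgroup. -/
theorem card_RO_step_two (L : Subgroup G) [L.Normal] (P : Sylow 2 G)
    (hLP : L ≤ (P : Subgroup G)) (hab : ∀ a b : L, a * b = b * a) (hsq : ∀ a ∈ L, a * a = 1)
    (ih : ∀ (T : Subgroup G) (hPT : (P : Subgroup G) ≤ T) [(L.subgroupOf T).Normal],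
      Nat.card (RO (↥T ⧸ L.subgroupOf T)) = Nat.card (RO ↥(Subgroup.normalizer
        ((((P : Subgroup G).subgroupOf T).map (QuotientGroup.mk' (L.subgroupOf T)) :
          Subgroup (↥T ⧸ L.subgroupOf T)) : Set (↥T ⧸ L.subgroupOf T))))) :
    Nat.card (RO G) = Nat.card (RO (Subgroup.normalizer ((P : Subgroup G) : Set G))) := by
  classical
  haveI : Fact (Nat.Prime 2) := ⟨Nat.prime_two⟩
  haveI := Fintype.ofFinite G
  haveI := Fintype.ofFinite L
  set N := Subgroup.normalizer ((P : Subgroup G) : Set G) with hNdef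
  have hPN : (P : Subgroup G) ≤ N := Subgroup.le_normalizer
  have hLN : L ≤ N := hLP.trans hPN
  haveI := Fintype.ofFinite ↥(L.subgroupOf N)
  let sd : Setoid {lam : L →* ℂˣ // (P : Subgroup G) ≤ stab L lam} :=
    { r := fun a b => ∃ n ∈ N, twh L n a.1 = b.1
      iseqv := ⟨fun a => ⟨1, N.one_mem, twh_one L a.1⟩,
        fun {a b} ⟨n, hn, h⟩ => ⟨n⁻¹, N.inv_mem hn, by rw [← h, twh_twh, mul_inv_cancel, twh_one]⟩,
        fun {a b c} ⟨n, hn, h⟩ ⟨m, hm, h'⟩ => ⟨n * m, N.mul_mem hn hm, by
          rw [← twh_twh, h, h']⟩⟩ }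
  haveI : Finite (L →* ℂˣ) := Finite.of_injective H12.linIrr H12.linIrr_injective
  haveI : Finite (Quotient sd) := Quotient.finite _
  letI : Fintype (Quotient sd) := Fintype.ofFinite _
  let rep : Quotient sd → (L →* ℂˣ) := fun q => q.out.1
  have hfix : ∀ q, (P : Subgroup G) ≤ stab L (rep q) := fun q => q.out.2
  have hlam : ∀ f : L →* ℂˣ, f * f = 1 := fun f => MonoidHom.ext fun x => by
    rw [MonoidHom.mul_apply, ← map_mul,
      show x * x = 1 from Subtype.ext (hsq x x.2), map_one, MonoidHom.one_apply]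
  have huniq : ∀ i j, ∀ n ∈ N, twh L n (rep i) = rep j → i = j := fun i j n hn h => by
    rw [← Quotient.out_eq i, ← Quotient.out_eq j]
    exact Quotient.sound ⟨n, hn, h⟩
  have hex : ∀ lam : L →* ℂˣ, (P : Subgroup G) ≤ stab L lam →
      ∃ i, ∃ n ∈ N, twh L n (rep i) = lam := fun lam h =>
    ⟨Quotient.mk sd ⟨lam, h⟩, Quotient.mk_out (s := sd) ⟨lam, h⟩⟩
  let e := Subgroup.subgroupOfEquivOfLe hLN
  let rep' : Quotient sd → (L.subgroupOf N →* ℂˣ) := fun q => (rep q).comp e.toMonoidHom
  let PN : Sylow 2 N := P.subtype hPN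
  have hnorm : Subgroup.normalizer ((PN : Subgroup N) : Set N) = ⊤ :=
    eq_top_iff.2 fun x _ => (mem_normalizer_subgroupOf hPN).2 x.2
  rw [card_RO_eq_sum L P hab rep hfix hex huniq,
    card_RO_eq_sum (L.subgroupOf N) PN (fun a b => by
      refine Subtype.ext (Subtype.ext ?_)
      have h1 := congrArg (fun z : L => (z : G)) (hab ⟨((a : N) : G), a.2⟩ ⟨((b : N) : G), b.2⟩)
      exact h1)
      rep' (fun q x hx => (mem_stab_subgroupOf L hLN (rep q) x).2 (hfix q hx))
      (fun lam h => ?_) (fun i j n _ h => ?_)]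
  · refine Finset.sum_congr rfl fun q _ => ?_
    have hfix' : (PN : Subgroup N) ≤ stab (L.subgroupOf N) (rep' q) :=
      fun x hx => (mem_stab_subgroupOf L hLN (rep q) x).2 (hfix q hx)
    rw [card_ROver_fixed L P hLP (rep q) (hlam _) (hfix q),
      card_ROver_fixed (L.subgroupOf N) PN (fun x hx => hLP hx) (rep' q)
        (MonoidHom.ext fun x => congrArg (fun f : L →* ℂˣ => f (e x)) (hlam (rep q))) hfix']
    by_cases hE : ExtP L (P : Subgroup G) (rep q)
    swap
    · rw [if_neg hE, if_neg (show ¬ ExtP (L.subgroupOf N) (PN : Subgroup N) (rep' q) from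
        mt (extP_transport hPN hLN (rep q)).1 hE)]
    rw [if_pos hE, if_pos (show ExtP (L.subgroupOf N) (PN : Subgroup N) (rep' q) from
        (extP_transport hPN hLN (rep q)).2 hE)]
    rw [ih (stab L (rep q)) (hfix q)]
    set T := stab L (rep q) with hTdef
    set TN := stab (L.subgroupOf N) (rep' q) with hTNdef
    let j : TN →* T := MonoidHom.mk'
      (fun x => ⟨((x : N) : G), (mem_stab_subgroupOf L hLN (rep q) (x : N)).1 x.2⟩)
      (fun x y => Subtype.ext rfl)
    refine (card_RO_image ((QuotientGroup.mk' (L.subgroupOf T)).comp j) _ ?_ _ ?_).symm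
    · rw [MonoidHom.range_comp]
      refine Eq.trans ?_ (map_normalizer_sylow 2 _ (QuotientGroup.mk'_surjective (L.subgroupOf T))
        (P.subtype (hfix q)))
      congr 1
      ext t
      refine ⟨?_, fun ht => ?_⟩
      · rintro ⟨x, rfl⟩
        exact (mem_normalizer_subgroupOf (hfix q)).2 (x : N).2
      · have htN : (t : G) ∈ N := (mem_normalizer_subgroupOf (hfix q)).1 ht
        exact ⟨⟨⟨t, htN⟩, (mem_stab_subgroupOf L hLN (rep q) ⟨t, htN⟩).2 t.2⟩, rfl⟩
    · ext x
      rw [MonoidHom.mem_ker, MonoidHom.comp_apply, QuotientGroup.mk'_apply,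
        QuotientGroup.eq_one_iff]
      rfl
  · have hP' : (P : Subgroup G) ≤ stab L (lam.comp e.symm.toMonoidHom) := fun x hx => by
      refine (mem_stab L).2 (MonoidHom.ext fun l => ?_)
      exact congrArg (fun f : L.subgroupOf N →* ℂˣ => f ⟨⟨l, hLN l.2⟩, l.2⟩)
        ((mem_stab (L.subgroupOf N)).1 (h (show (⟨x, hPN hx⟩ : N) ∈ (PN : Subgroup N) from hx)))
    obtain ⟨i, n, hn, hn'⟩ := hex _ hP'
    refine ⟨i, ⟨n, hn⟩, hnorm ▸ Subgroup.mem_top _, MonoidHom.ext fun l => ?_⟩
    exact congrArg (fun f : L →* ℂˣ => f (e l)) hn'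
  · refine huniq i j n n.2 (MonoidHom.ext fun l => ?_)
    exact congrArg (fun f : L.subgroupOf N →* ℂˣ => f ⟨⟨l, hLN l.2⟩, l.2⟩) h

/-- In a solvable group the real characters of odd degree are counted by the Sylow normaliser. -/
theorem card_RO_normalizer {G : Type u} [Group G] [Finite G] [Group.IsSolvable G] (P : Sylow 2 G) :
    Nat.card (RO G) = Nat.card (RO (Subgroup.normalizer ((P : Subgroup G) : Set G))) := by
  suffices H : ∀ n : ℕ, ∀ (G : Type u) [Group G] [Finite G] [Group.IsSolvable G], Nat.card G = n →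
      ∀ P : Sylow 2 G, Nat.card (RO G) =
        Nat.card (RO (Subgroup.normalizer ((P : Subgroup G) : Set G))) from H _ G rfl P
  intro n
  induction n using Nat.strong_induction_on with
  | _ n IH =>
    intro G _ _ _ hG P
    haveI : Fact (Nat.Prime 2) := ⟨Nat.prime_two⟩
    rcases subsingleton_or_nontrivial G with hs | hn
    · have htop : Subgroup.normalizer ((P : Subgroup G) : Set G) = ⊤ :=
        eq_top_iff.2 fun x _ => by rw [Subsingleton.elim x 1]; exact Subgroup.one_mem _
      exact (card_RO_congr ((MulEquiv.subgroupCongr htop).trans Subgroup.topEquiv)).symm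
    obtain ⟨L, q, hL, hq, hL0, hLq, hLab, -⟩ :=
      H15.exists_minimal_normal_elementary (G := G)
    haveI := hL
    haveI : Fact q.Prime := ⟨hq⟩
    have hLp : IsPGroup q L := fun x => ⟨1, by
      rw [pow_one]; exact Subtype.ext (hLq x x.2)⟩
    have hL1 : 1 < Nat.card L := Subgroup.one_lt_card_iff_ne_bot L |>.2 hL0
    have hsmall : ∀ (T : Subgroup G), L ≤ T → ∀ [(L.subgroupOf T).Normal],
        Nat.card (↥T ⧸ L.subgroupOf T) < n := by
      intro T hLT _
      have h1 : Nat.card (↥T ⧸ L.subgroupOf T) * Nat.card (L.subgroupOf T) = Nat.card T :=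
        (Subgroup.card_eq_card_quotient_mul_card_subgroup _).symm
      rw [Nat.card_congr (Subgroup.subgroupOfEquivOfLe hLT).toEquiv] at h1
      have h2 : Nat.card T ≤ Nat.card G := Subgroup.card_le_card_group T
      have h3 : 0 < Nat.card (↥T ⧸ L.subgroupOf T) := Nat.card_pos
      nlinarith
    rcases eq_or_ne q 2 with rfl | hq2
    · refine card_RO_step_two L P (le_sylow_of_normal L hLp P) (fun a b => Subtype.ext (hLab a a.2 b b.2))
        (fun a ha => by rw [← sq]; exact hLq a ha) fun T hPT _ => ?_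
      exact IH _ (hsmall T ((le_sylow_of_normal L hLp P).trans hPT)) _ rfl
        ((P.subtype hPT).mapSurjective (QuotientGroup.mk'_surjective _))
    · have hodd : Odd (Nat.card L) := by
        obtain ⟨k, hk⟩ := IsPGroup.iff_card.1 hLp
        rw [hk]
        exact (hq.odd_of_ne_two hq2).pow
      set N := Subgroup.normalizer ((P : Subgroup G) : Set G) with hNdef
      have hLN : Odd (Nat.card (L.subgroupOf N)) := by
        refine hodd.of_dvd_nat ?_
        rw [← Subgroup.card_map_of_injective (K := L.subgroupOf N) N.subtype_injective]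
        exact Subgroup.card_dvd_of_le (by rintro _ ⟨x, hx, rfl⟩; exact hx)
      have hlt : Nat.card (G ⧸ L) < n := by
        have h1 := L.card_eq_card_quotient_mul_card_subgroup
        have h3 : 0 < Nat.card (G ⧸ L) := Nat.card_pos
        nlinarith
      rw [← card_RO_quotient_of_odd L hodd, ← card_RO_quotient_of_odd (L.subgroupOf N) hLN,
        IH _ hlt (G ⧸ L) rfl (P.mapSurjective (QuotientGroup.mk'_surjective L))]
      refine (card_RO_image ((QuotientGroup.mk' L).comp N.subtype) _ ?_ _ ?_).symm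
      · rw [MonoidHom.range_comp, Subgroup.range_subtype,
          map_normalizer_sylow 2 _ (QuotientGroup.mk'_surjective L) P]
        rfl
      · ext x
        rw [MonoidHom.mem_ker, MonoidHom.comp_apply, QuotientGroup.mk'_apply,
          QuotientGroup.eq_one_iff]
        rfl

end H25.RealOdd
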