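import Cfsg.Agent.H25.OrbitIntertwine
import Cfsg.Agent.H19.RealFixed

/-!
# Real characters and classes fixed by a Sylow subgroup, up to the normalizer

For a normal subgroup `K` of odd index and order prime to `p`: if each real irreducible character
of `K` is fixed by some Sylow `p`-subgroup of `G`, then every real class of `K` meets the
normalizer of each Sylow `p`-subgroup.
-/

set_option autoImplicit false
set_option linter.unusedSectionVars false
set_option linter.style.haveILetI false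

open Cfsg
open scoped ComplexConjugate

namespace H25.RealP

universe u

variable {G : Type u} [Group G] {α : Type*} [MulAction G α]

section Generic

variable (P N : Subgroup G) (hN : N ≤ Subgroup.normalizer (P : Set G))

/-- The normalizing group permutes fixed points. -/
def fixAct (n : N) (x : MulAction.fixedPoints P α) : MulAction.fixedPoints P α :=
  ⟨(n : G) • x.1, fun u => by
    have hu : (n : G)⁻¹ * (u : G) * n ∈ P :=
      (Subgroup.mem_normalizer_iff''.mp (hN n.2) u).mp u.2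
    have h := x.2 ⟨_, hu⟩
    rw [Subgroup.smul_def, mul_smul, mul_smul, inv_smul_eq_iff] at h
    exact h⟩

theorem fixAct_bijective (n : N) : Function.Bijective (fixAct (α := α) P N hN n) := by
  refine Function.bijective_iff_has_inverse.mpr ⟨fixAct P N hN n⁻¹, fun x => ?_, fun x => ?_⟩
  · exact Subtype.ext (inv_smul_smul (n : G) x.1)
  · exact Subtype.ext (smul_inv_smul (n : G) x.1)

variable (s : α → α) (hsc : ∀ (g : G) x, s (g • x) = g • s x)

/-- The involution on fixed points. -/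
def fixInv (x : MulAction.fixedPoints P α) : MulAction.fixedPoints P α :=
  ⟨s x.1, fun u => by
    show (u : G) • s x.1 = s x.1
    rw [← hsc]
    exact congrArg s (x.2 u)⟩

/-- Involution-fixed `P`-fixed points up to `N`. -/
def RealQuot : Type _ :=
  Quot (fun x y : {x : MulAction.fixedPoints P α // s x.1 = x.1} => ∃ n : N, (n : G) • x.1.1 = y.1.1)

theorem card_realQuot [Finite α] (hs : ∀ x, s (s x) = x) {m : ℕ} (hm : Odd m) (hpow : ∀ (g : G) (x : α), g ^ m • x = x) :
    Nat.card (RealQuot P N s) =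
      Nat.card {q : Quot (orbRel (fixAct (α := α) P N hN)) // Quot.map (fixInv P s hsc)
        (fun x y ⟨h, e⟩ => ⟨h, by rw [← e]; exact Subtype.ext (hsc _ _).symm⟩) q = q} := by
  classical
  let toS : {x : MulAction.fixedPoints P α // s x.1 = x.1} →
      {q : Quot (orbRel (fixAct (α := α) P N hN)) // Quot.map (fixInv P s hsc)
        (fun x y ⟨h, e⟩ => ⟨h, by rw [← e]; exact Subtype.ext (hsc _ _).symm⟩) q = q} :=
    fun x => ⟨Quot.mk _ x.1, congrArg (Quot.mk _) (Subtype.ext x.2)⟩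
  have heqv : Equivalence (orbRel (fixAct (α := α) P N hN)) :=
    ⟨fun x => ⟨1, Subtype.ext (one_smul G x.1)⟩,
      fun {x y} ⟨n, e⟩ => ⟨n⁻¹, by rw [← e]; exact Subtype.ext (inv_smul_smul (n : G) x.1)⟩,
      fun {x y z} ⟨n, e⟩ ⟨k, e'⟩ => ⟨k * n, by rw [← e', ← e]; exact Subtype.ext (mul_smul (k : G) (n : G) x.1)⟩⟩
  refine Nat.card_eq_of_bijective (Quot.lift toS ?_) ⟨?_, ?_⟩
  · rintro x y ⟨n, e⟩
    exact Subtype.ext (Quot.sound ⟨n, Subtype.ext e⟩)
  · rintro ⟨x⟩ ⟨y⟩ h
    obtain ⟨n, e⟩ := heqv.quot_mk_eq_iff _ _ |>.mp (congrArg Subtype.val h)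
    exact Quot.sound ⟨n, congrArg Subtype.val e⟩
  · rintro ⟨q, hq⟩
    induction q using Quot.inductionOn with
    | _ x =>
      obtain ⟨n, e⟩ := (heqv.quot_mk_eq_iff _ _).mp hq
      have e' : (n : G) • s x.1 = x.1 := congrArg Subtype.val e
      have h1 : (n : G) • x.1 = s x.1 := by
        have h := congrArg s e'
        rwa [hsc, hs] at h
      have h2 : ((n : G) ^ 2) • x.1 = x.1 := by rw [pow_two, mul_smul, h1, e']
      have h3 : ∀ j : ℕ, ((n : G) ^ 2) ^ j • x.1 = x.1 := fun j => by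
        induction j with
        | zero => rw [pow_zero, one_smul]
        | succ j ih => rw [pow_succ, mul_smul, h2, ih]
      obtain ⟨j, rfl⟩ := hm
      have h4 := hpow (n : G) x.1
      rw [pow_succ', pow_mul, mul_smul, h3, h1] at h4
      exact ⟨Quot.mk _ ⟨x, h4⟩, rfl⟩

/-- The Sylow trick. -/
theorem exists_normalizer_smul [Finite G] {p : ℕ} [Fact p.Prime] (S : Sylow p G) {x y : α}
    (hx : ∀ u ∈ S, u • x = x) (hy : ∀ u ∈ S, u • y = y) {g : G} (h : g • x = y) :
    ∃ n ∈ Subgroup.normalizer ((S : Subgroup G) : Set G), n • x = y := by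
  let T := MulAction.stabilizer G y
  have h1 : (S : Subgroup G) ≤ T := hy
  have h2 : ((g • S : Sylow p G) : Subgroup G) ≤ T := by
    intro u hu
    rw [Sylow.coe_subgroup_smul, Subgroup.mem_pointwise_smul_iff_inv_smul_mem] at hu
    have h4 : g⁻¹ * u * g ∈ (S : Subgroup G) := by simpa [MulAut.smul_def, ← map_inv] using hu
    have h3 : (g⁻¹ * u * g) • x = x := hx _ h4
    rw [mul_smul, mul_smul, h, inv_smul_eq_iff, h] at h3
    exact h3
  obtain ⟨t, ht⟩ := MulAction.exists_smul_eq T ((g • S).subtype h2) (S.subtype h1)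
  simp_rw [Sylow.smul_subtype, Subgroup.smul_def, smul_smul] at ht
  refine ⟨(t : G) * g, Sylow.smul_eq_iff_mem_normalizer.mp (Sylow.subtype_injective ht), ?_⟩
  rw [mul_smul, h]
  exact t.2

end Generic

section Actions

variable [Finite G] (K : Subgroup G) [K.Normal]

/-- Conjugation action on the irreducible characters of a normal subgroup. -/
scoped instance irrAct : MulAction G (IrrCharacter ↥K) where
  smul g χ := ⟨(χ : ↥K → ℂ) ∘ (MulAut.conjNormal (H := K) g⁻¹),
    H12.IsIrrCharacter.comp_surjective χ.2 (f := (MulAut.conjNormal (H := K) g⁻¹).toMonoidHom)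
      (MulAut.conjNormal (H := K) g⁻¹).surjective⟩
  one_smul χ := by
    apply Subtype.ext; funext k
    show (χ : ↥K → ℂ) (MulAut.conjNormal (H := K) (1 : G)⁻¹ k) = _
    simp
  mul_smul u v χ := by
    apply Subtype.ext; funext k
    show (χ : ↥K → ℂ) (MulAut.conjNormal (H := K) (u * v)⁻¹ k) =
      (χ : ↥K → ℂ) (MulAut.conjNormal (H := K) v⁻¹ (MulAut.conjNormal (H := K) u⁻¹ k))
    rw [mul_inv_rev, map_mul]
    rfl

/-- Conjugation action on the classes of a normal subgroup. -/
scoped instance classAct : MulAction G (ConjClasses ↥K) where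
  smul g := ConjClasses.map (MulAut.conjNormal (H := K) g).toMonoidHom
  one_smul C := by
    obtain ⟨k, rfl⟩ := ConjClasses.mk_surjective C
    show ConjClasses.mk (MulAut.conjNormal (H := K) (1 : G) k) = _
    rw [map_one, MulAut.one_apply]
  mul_smul u v C := by
    obtain ⟨k, rfl⟩ := ConjClasses.mk_surjective C
    show ConjClasses.mk (MulAut.conjNormal (H := K) (u * v) k) =
      ConjClasses.mk (MulAut.conjNormal (H := K) u (MulAut.conjNormal (H := K) v k))
    rw [map_mul, MulAut.mul_apply]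

theorem irr_smul_apply (g : G) (χ : IrrCharacter ↥K) (k : ↥K) :
    ((g • χ : IrrCharacter ↥K) : ↥K → ℂ) k = (χ : ↥K → ℂ) (MulAut.conjNormal (H := K) g⁻¹ k) := rfl

theorem class_smul_mk (g : G) (k : ↥K) :
    g • ConjClasses.mk k = ConjClasses.mk (MulAut.conjNormal (H := K) g k) := rfl

/-- The inverse class. -/
noncomputable def invClass (C : ConjClasses ↥K) : ConjClasses ↥K :=
  ConjClasses.mk (H13.classRep C)⁻¹

theorem invClass_mk (k : ↥K) : invClass K (ConjClasses.mk k) = ConjClasses.mk k⁻¹ :=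
  ConjClasses.mk_eq_mk_iff_isConj.mpr
    (H19.isConj_inv_iff.mpr (ConjClasses.mk_eq_mk_iff_isConj.mp (H13.mk_classRep _)))

theorem invClass_invClass (C : ConjClasses ↥K) : invClass K (invClass K C) = C := by
  obtain ⟨k, rfl⟩ := ConjClasses.mk_surjective C
  rw [invClass_mk, invClass_mk, inv_inv]

theorem invClass_smul (g : G) (C : ConjClasses ↥K) : invClass K (g • C) = g • invClass K C := by
  obtain ⟨k, rfl⟩ := ConjClasses.mk_surjective C
  rw [class_smul_mk, invClass_mk, invClass_mk, class_smul_mk, map_inv]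

theorem conjIrr_smul (g : G) (χ : IrrCharacter ↥K) :
    H12.conjIrr (g • χ) = g • H12.conjIrr χ := by
  apply Subtype.ext; funext k
  rw [H12.conjIrr_apply, irr_smul_apply, irr_smul_apply, H12.conjIrr_apply]

theorem pow_index_smul_class (g : G) (C : ConjClasses ↥K) : g ^ K.index • C = C := by
  obtain ⟨k, rfl⟩ := ConjClasses.mk_surjective C
  rw [class_smul_mk, ConjClasses.mk_eq_mk_iff_isConj]
  refine IsConj.symm (isConj_iff.mpr ⟨⟨_, Subgroup.pow_index_mem K g⟩, Subtype.ext ?_⟩)
  rw [MulAut.conjNormal_apply]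
  rfl

theorem pow_index_smul_irr (g : G) (χ : IrrCharacter ↥K) : g ^ K.index • χ = χ := by
  apply Subtype.ext; funext k
  rw [irr_smul_apply]
  refine H12.IsClassFunction.of_isConj (H12.irr_isClassFunction χ)
    (IsConj.symm (isConj_iff.mpr ⟨⟨_, Subgroup.pow_index_mem K g⟩⁻¹, Subtype.ext ?_⟩))
  rw [MulAut.conjNormal_apply]
  rfl

theorem card_realQuot_eq {p : ℕ} [hp : Fact p.Prime] (hodd : Odd K.index) (hK : ¬ p ∣ Nat.card ↥K)
    (P N : Subgroup G) (hP : IsPGroup p ↥P) (hN : N ≤ Subgroup.normalizer (P : Set G)) :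
    Nat.card (RealQuot (α := IrrCharacter ↥K) P N H12.conjIrr) =
      Nat.card (RealQuot (α := ConjClasses ↥K) P N (invClass K)) := by
  classical
  haveI := Fintype.ofFinite ↥K
  haveI := Fintype.ofFinite (ConjClasses ↥K)
  haveI := Fintype.ofFinite (MulAction.fixedPoints P (IrrCharacter ↥K))
  haveI := Fintype.ofFinite (MulAction.fixedPoints P (ConjClasses ↥K))
  rw [card_realQuot P N hN H12.conjIrr (conjIrr_smul K) H12.conjIrr_conjIrr hodd (pow_index_smul_irr K),
    card_realQuot P N hN (invClass K) (invClass_smul K) (invClass_invClass K) hodd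
      (pow_index_smul_class K)]
  obtain ⟨M, hM⟩ := H22.exists_isPModular p hp.out
  haveI := hM.2.1
  letI : Field (AlgInt ⧸ M) := Ideal.Quotient.field M
  let red : AlgInt →+* AlgInt ⧸ M := Ideal.Quotient.mk M
  have hpF : (p : AlgInt ⧸ M) = 0 := by
    rw [← map_natCast red]
    exact (Ideal.Quotient.eq_zero_iff_mem).mpr hM.2.2
  have hnF : (Nat.card ↥K : AlgInt ⧸ M) ≠ 0 := by
    intro h
    haveI : CharP (AlgInt ⧸ M) p := (CharP.charP_iff_prime_eq_zero hp.out).mpr hpF
    exact hK ((CharP.cast_eq_zero_iff (AlgInt ⧸ M) p _).mp h)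
  let r : ConjClasses ↥K → ↥K := H13.classRep
  have hr : ∀ C, ConjClasses.mk (r C) = C := H13.mk_classRep
  obtain ⟨hT1, hT2⟩ := H19.class_table r hr
  have hval : ∀ (χ : IrrCharacter ↥K) (k : ↥K), IsIntegral ℤ ((χ : ↥K → ℂ) k) := fun χ k =>
    H12.IsCharacter.isIntegral (H12.isCharacter_irr χ) k
  let A0 : IrrCharacter ↥K → ConjClasses ↥K → AlgInt := fun χ C => ⟨(χ : ↥K → ℂ) (r C), hval χ _⟩
  let B0 : ConjClasses ↥K → IrrCharacter ↥K → AlgInt := fun C χ =>
    ((Subgroup.centralizer ({r C} : Set ↥K)).index : AlgInt) *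
      ⟨conj ((χ : ↥K → ℂ) (r C)), hval (H12.conjIrr χ) _⟩
  have hAB : ∀ χ ψ, ∑ C, A0 χ C * B0 C ψ = if χ = ψ then (Nat.card ↥K : AlgInt) else 0 := by
    intro χ ψ
    apply Subtype.ext
    have := hT1 χ ψ
    push_cast [A0, B0]
    rw [this]
    split_ifs <;> simp
  have hBA : ∀ C D, ∑ χ, B0 C χ * A0 χ D = if C = D then (Nat.card ↥K : AlgInt) else 0 := by
    intro C D
    apply Subtype.ext
    have := hT2 C D
    push_cast [A0, B0]
    rw [this]
    split_ifs <;> simp
  have hsmulJ : ∀ (g : G) (C : ConjClasses ↥K), IsConj (r (g • C)) (MulAut.conjNormal (H := K) g (r C)) := by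
    intro g C
    rw [← ConjClasses.mk_eq_mk_iff_isConj, hr, ← class_smul_mk, hr]
  have hinv : ∀ (g : G) (k : ↥K), MulAut.conjNormal (H := K) g⁻¹ (MulAut.conjNormal (H := K) g k) = k :=
    fun g k => by rw [← MulAut.mul_apply, ← map_mul, inv_mul_cancel, map_one, MulAut.one_apply]
  have hAeq : ∀ (g : G) χ C, A0 (g • χ) (g • C) = A0 χ C := by
    intro g χ C
    apply Subtype.ext
    show ((g • χ : IrrCharacter ↥K) : ↥K → ℂ) (r (g • C)) = (χ : ↥K → ℂ) (r C)
    rw [H12.IsClassFunction.of_isConj (H12.irr_isClassFunction _) (hsmulJ g C), irr_smul_apply, hinv]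
  have hBeq : ∀ (g : G) χ C, B0 (g • C) (g • χ) = B0 C χ := by
    intro g χ C
    have hc := hsmulJ g C
    apply Subtype.ext
    show ((Subgroup.centralizer ({r (g • C)} : Set ↥K)).index : ℂ) *
        conj (((g • χ : IrrCharacter ↥K) : ↥K → ℂ) (r (g • C))) =
      ((Subgroup.centralizer ({r C} : Set ↥K)).index : ℂ) * conj ((χ : ↥K → ℂ) (r C))
    rw [H12.IsClassFunction.of_isConj (H12.irr_isClassFunction _) hc, H19.centralizer_index_isConj hc,
      H19.centralizer_index_congr (MulAut.conjNormal (H := K) g) (r C), irr_smul_apply, hinv]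
  let a : MulAction.fixedPoints P (IrrCharacter ↥K) → MulAction.fixedPoints P (ConjClasses ↥K) →
      AlgInt ⧸ M := fun χ C => red (A0 χ C)
  let b : MulAction.fixedPoints P (ConjClasses ↥K) → MulAction.fixedPoints P (IrrCharacter ↥K) →
      AlgInt ⧸ M := fun C χ => red (B0 C χ)
  have hp0 : ∀ x : AlgInt ⧸ M, p • x = 0 := fun x => by rw [nsmul_eq_mul, hpF, zero_mul]
  have hab : ∀ i i', ∑ j, a i j * b j i' = if i = i' then (Nat.card ↥K : AlgInt ⧸ M) else 0 := by
    intro i i'
    have h := congrArg red (hAB i.1 i'.1)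
    rw [map_sum, H20.sum_eq_sum_fixedPoints hP hp0 (fun C => red (A0 i.1 C * B0 C i'.1)) (fun u C => by
      have e1 := hAeq u i.1 C
      have e2 := hBeq u i'.1 C
      rw [← Subgroup.smul_def, ← Subgroup.smul_def, i.2 u] at e1
      rw [← Subgroup.smul_def, ← Subgroup.smul_def, i'.2 u] at e2
      rw [e1, e2]),
      Finset.sum_subtype (p := fun C => C ∈ MulAction.fixedPoints P (ConjClasses ↥K)) _
        (fun x => by simp)] at h
    simp only [map_mul] at h
    refine h.trans ?_
    by_cases hii : i = i'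
    · rw [if_pos hii, if_pos (congrArg Subtype.val hii), map_natCast]
    · rw [if_neg hii, if_neg (fun h' => hii (Subtype.ext h')), map_zero]
  have hba : ∀ j j', ∑ i, b j i * a i j' = if j = j' then (Nat.card ↥K : AlgInt ⧸ M) else 0 := by
    intro j j'
    have h := congrArg red (hBA j.1 j'.1)
    rw [map_sum, H20.sum_eq_sum_fixedPoints hP hp0 (fun χ => red (B0 j.1 χ * A0 χ j'.1)) (fun u χ => by
      have e1 := hAeq u χ j'.1
      have e2 := hBeq u χ j.1
      rw [← Subgroup.smul_def, ← Subgroup.smul_def, j'.2 u] at e1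
      rw [← Subgroup.smul_def, ← Subgroup.smul_def, j.2 u] at e2
      rw [e1, e2]),
      Finset.sum_subtype (p := fun χ => χ ∈ MulAction.fixedPoints P (IrrCharacter ↥K)) _
        (fun x => by simp)] at h
    simp only [map_mul] at h
    refine h.trans ?_
    by_cases hii : j = j'
    · rw [if_pos hii, if_pos (congrArg Subtype.val hii), map_natCast]
    · rw [if_neg hii, if_neg (fun h' => hii (Subtype.ext h')), map_zero]
  exact card_stable_orbits_eq a b _ hnF hab hba _ _ (fixAct_bijective P N hN)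
    (fun n χ C => congrArg red (hAeq (n : G) χ.1 C.1)) _ _
    (fun χ => Subtype.ext (H12.conjIrr_conjIrr _))
    (fun C => Subtype.ext (invClass_invClass K _))
    (fun χ C => by
      show red _ = red _
      congr 1
      apply Subtype.ext
      show (H12.conjIrr χ.1 : ↥K → ℂ) (r (invClass K C.1)) = (χ.1 : ↥K → ℂ) (r C.1)
      rw [H12.conjIrr_apply]
      exact H19.conj_irr_pair χ.1 (ConjClasses.mk_eq_mk_iff_isConj.mp (hr (invClass K C.1))))
    (fun n χ => Subtype.ext (conjIrr_smul K _ _)) (fun n C => Subtype.ext (invClass_smul K _ _))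

/-- Every real class meets the normalizer of a Sylow subgroup, if every real character is
fixed by some Sylow subgroup. -/
theorem exists_mem_normalizer {p : ℕ} [hp : Fact p.Prime] (hodd : Odd K.index)
    (hK : ¬ p ∣ Nat.card ↥K) (P : Sylow p G)
    (hI : ∀ θ : IrrCharacter ↥K, H12.conjIrr θ = θ → ∃ g : G, ∀ u ∈ P, u • g • θ = g • θ)
    (k : ↥K) (hk : IsConj k k⁻¹) :
    ∃ y ∈ Subgroup.normalizer ((P : Subgroup G) : Set G), IsConj (k : G) y := by
  classical
  set N := Subgroup.normalizer ((P : Subgroup G) : Set G)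
  have hN : N ≤ Subgroup.normalizer ((P : Subgroup G) : Set G) := le_rfl
  have hT : (⊤ : Subgroup G) ≤ Subgroup.normalizer ((⊥ : Subgroup G) : Set G) := by
    rw [Subgroup.normalizer_eq_top]
  haveI : ∀ (S M : Subgroup G), Finite (RealQuot (α := IrrCharacter ↥K) S M H12.conjIrr) :=
    fun S M => Finite.of_surjective _ Quot.mk_surjective
  haveI : ∀ (S M : Subgroup G), Finite (RealQuot (α := ConjClasses ↥K) S M (invClass K)) :=
    fun S M => Finite.of_surjective _ Quot.mk_surjective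
  have hbotI : ∀ θ : IrrCharacter ↥K, θ ∈ MulAction.fixedPoints (⊥ : Subgroup G) (IrrCharacter ↥K) :=
    fun θ u => by rw [Subgroup.smul_def, Subgroup.mem_bot.mp u.2, one_smul]
  have hbotJ : ∀ C : ConjClasses ↥K, C ∈ MulAction.fixedPoints (⊥ : Subgroup G) (ConjClasses ↥K) :=
    fun C u => by rw [Subgroup.smul_def, Subgroup.mem_bot.mp u.2, one_smul]
  let fI : RealQuot (α := IrrCharacter ↥K) (P : Subgroup G) N H12.conjIrr →
      RealQuot (α := IrrCharacter ↥K) ⊥ ⊤ H12.conjIrr :=
    Quot.map (fun x => ⟨⟨x.1.1, hbotI _⟩, x.2⟩) (fun x y ⟨n, e⟩ => ⟨⟨n, Subgroup.mem_top _⟩, e⟩)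
  let fJ : RealQuot (α := ConjClasses ↥K) (P : Subgroup G) N (invClass K) →
      RealQuot (α := ConjClasses ↥K) ⊥ ⊤ (invClass K) :=
    Quot.map (fun x => ⟨⟨x.1.1, hbotJ _⟩, x.2⟩) (fun x y ⟨n, e⟩ => ⟨⟨n, Subgroup.mem_top _⟩, e⟩)
  have hsI : Function.Surjective fI := by
    rintro ⟨θ⟩
    obtain ⟨g, hg⟩ := hI θ.1.1 θ.2
    refine ⟨Quot.mk _ ⟨⟨g • θ.1.1, fun u => hg u u.2⟩, ?_⟩, (Quot.sound ⟨⟨g, Subgroup.mem_top _⟩, rfl⟩).symm⟩
    show H12.conjIrr (g • θ.1.1) = g • θ.1.1
    rw [conjIrr_smul, θ.2]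
  have heq : ∀ (x y : {x : MulAction.fixedPoints (⊥ : Subgroup G) (ConjClasses ↥K) // invClass K x.1 = x.1}),
      (Quot.mk _ x : RealQuot (α := ConjClasses ↥K) ⊥ ⊤ (invClass K)) = Quot.mk _ y →
        ∃ g : G, g • x.1.1 = y.1.1 := by
    intro x y h
    have he : Equivalence (fun a b : {x : MulAction.fixedPoints (⊥ : Subgroup G) (ConjClasses ↥K) //
        invClass K x.1 = x.1} => ∃ n : (⊤ : Subgroup G), (n : G) • a.1.1 = b.1.1) :=
      ⟨fun a => ⟨1, one_smul G _⟩,
        fun {a b} ⟨n, e⟩ => ⟨n⁻¹, by rw [← e]; exact inv_smul_smul (n : G) _⟩,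
        fun {a b c} ⟨n, e⟩ ⟨m, e'⟩ => ⟨m * n, by rw [← e', ← e]; exact mul_smul (m : G) (n : G) _⟩⟩
    obtain ⟨n, hn⟩ := (he.quot_mk_eq_iff x y).mp h
    exact ⟨n, hn⟩
  have hiJ : Function.Injective fJ := by
    rintro ⟨x⟩ ⟨y⟩ h
    obtain ⟨g, hg⟩ := heq _ _ h
    obtain ⟨n, hn, e⟩ := exists_normalizer_smul P (fun u hu => x.1.2 ⟨u, hu⟩) (fun u hu => y.1.2 ⟨u, hu⟩) hg
    exact Quot.sound ⟨⟨n, hn⟩, e⟩
  have h1 := card_realQuot_eq K hodd hK (P : Subgroup G) N P.2 hN
  have h2 := card_realQuot_eq K hodd hK (⊥ : Subgroup G) ⊤ (IsPGroup.of_bot (p := p) (G := G)) hT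
  have h3 := Nat.card_le_card_of_surjective fI hsI
  have h4 := Nat.card_le_card_of_injective fJ hiJ
  have hsJ : Function.Surjective fJ :=
    ((Nat.bijective_iff_injective_and_card fJ).mpr ⟨hiJ, by omega⟩).2
  have hC : invClass K (ConjClasses.mk k) = ConjClasses.mk k := by
    rw [invClass_mk]; exact ConjClasses.mk_eq_mk_iff_isConj.mpr hk.symm
  obtain ⟨⟨x⟩, hx⟩ := hsJ (Quot.mk _ ⟨⟨ConjClasses.mk k, hbotJ _⟩, hC⟩)
  obtain ⟨g, hg⟩ := heq _ _ hx
  -- the fixed class contains a centralised element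
  obtain ⟨a, ha⟩ := ConjClasses.mk_surjective x.1.1
  have hfix : ∀ (u : (P : Subgroup G)) (b : ↥K), IsConj a b →
      IsConj a (MulAut.conjNormal (H := K) (u : G) b) := by
    intro u b hb
    have h5 := x.1.2 u
    rw [← ha, ConjClasses.mk_eq_mk_iff_isConj.mpr hb, Subgroup.smul_def, class_smul_mk] at h5
    exact hb.trans (ConjClasses.mk_eq_mk_iff_isConj.mp h5).symm
  letI : MulAction (P : Subgroup G) {b : ↥K // IsConj a b} :=
    { smul := fun u b => ⟨MulAut.conjNormal (H := K) (u : G) b.1, hfix u b.1 b.2⟩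
      one_smul := fun b => Subtype.ext (by
        show MulAut.conjNormal (H := K) ((1 : (P : Subgroup G)) : G) b.1 = _
        rw [OneMemClass.coe_one, map_one, MulAut.one_apply])
      mul_smul := fun u v b => Subtype.ext (by
        show MulAut.conjNormal (H := K) ((u * v : (P : Subgroup G)) : G) b.1 = _
        rw [Subgroup.coe_mul, map_mul]; rfl) }
  have hcard : ¬ p ∣ Nat.card {b : ↥K // IsConj a b} := by
    haveI := Fintype.ofFinite ↥K
    intro hd
    refine hK (hd.trans ?_)
    rw [← H12.card_conjClass_mul_card_centralizer a]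
    refine Dvd.intro (Nat.card (Subgroup.centralizer ({a} : Set ↥K))) ?_
    congr 1
    rw [Nat.card_eq_fintype_card, Fintype.card_subtype]
    congr 1
    ext b
    simp
  obtain ⟨b, hb⟩ := P.2.nonempty_fixed_point_of_prime_not_dvd_card _ hcard
  refine ⟨(b.1 : G), ?_, ?_⟩
  · refine Subgroup.centralizer_le_normalizer _ (Subgroup.mem_centralizer_iff.mpr fun u hu => ?_)
    have h6 : (MulAut.conjNormal (H := K) u b.1 : ↥K) = b.1 :=
      congrArg Subtype.val (hb ⟨u, hu⟩)
    have h7 := congrArg (fun z : ↥K => (z : G)) h6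
    simp only [MulAut.conjNormal_apply] at h7
    exact (mul_inv_eq_iff_eq_mul.mp h7)
  · rw [← ha, class_smul_mk, ConjClasses.mk_eq_mk_iff_isConj] at hg
    have h8 : IsConj ((MulAut.conjNormal (H := K) g a : ↥K) : G) (k : G) :=
      K.subtype.map_isConj hg
    have h9 : IsConj (a : G) (b.1 : G) := K.subtype.map_isConj b.2
    refine h8.symm.trans (IsConj.trans ?_ h9)
    exact (isConj_iff.mpr ⟨g, (MulAut.conjNormal_apply g a).symm⟩ : IsConj (a : G) _).symm

end Actions

end H25.RealP
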