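import Cfsg.Agent.H25.RealPDegree
import Cfsg.Agent.H25.RealPOrbits
import Cfsg.Agent.H12.Orth
import Cfsg.Agent.H25.RealOddAll
import Cfsg.Agent.H12.Induction

/-!
# Consequences for groups whose real characters have degree prime to `p`
-/

set_option autoImplicit false
set_option linter.unusedSectionVars false
set_option linter.style.haveILetI false

open Cfsg
open scoped ComplexConjugate

namespace H25.RealP

universe u

variable {G : Type u} [Group G]

/-- Normal `p`-subgroups lie in every Sylow subgroup. -/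
theorem normal_le_sylow [Finite G] {p : ℕ} [Fact p.Prime] {A : Subgroup G} [hAn : A.Normal]
    (hA : IsPGroup p A) (Q : Sylow p G) : A ≤ (Q : Subgroup G) := by
  obtain ⟨S, hS⟩ := hA.exists_le_sylow
  obtain ⟨g, hg⟩ := MulAction.exists_smul_eq G S Q
  intro x hx
  rw [← hg, Sylow.coe_subgroup_smul, Subgroup.mem_pointwise_smul_iff_inv_smul_mem]
  exact hS (by simpa [MulAut.smul_def, mul_assoc] using hAn.conj_mem x hx g⁻¹)

/-- A normal `p`-subgroup of index prime to `p` in `U` gives normal Sylow subgroups of `U`. -/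
theorem sylow_normal_of [Finite G] {p : ℕ} [Fact p.Prime] (M U : Subgroup G) [M.Normal] (hMU : M ≤ U)
    (hM : IsPGroup p M) (hi : ¬ p ∣ M.relIndex U) (Q : Sylow p U) : (Q : Subgroup U).Normal := by
  have hp' : IsPGroup p (M.subgroupOf U) := hM.of_equiv (Subgroup.subgroupOfEquivOfLe hMU).symm
  haveI : (M.subgroupOf U).Normal := inferInstance
  have hle : M.subgroupOf U ≤ (Q : Subgroup U) := normal_le_sylow hp' Q
  have heq : M.subgroupOf U = (Q : Subgroup U) := by
    refine le_antisymm hle ?_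
    rw [← Subgroup.relIndex_eq_one]
    obtain ⟨k, hk⟩ := IsPGroup.iff_card.mp Q.2
    have h1 : (M.subgroupOf U).relIndex (Q : Subgroup U) ∣ p ^ k := hk ▸ Subgroup.relIndex_dvd_card _ _
    have h2 : (M.subgroupOf U).relIndex (Q : Subgroup U) ∣ M.relIndex U :=
      Subgroup.relIndex_dvd_index_of_normal _ _
    obtain ⟨j, -, hj⟩ := (Nat.dvd_prime_pow (Fact.out : p.Prime)).mp h1
    rcases j with _ | j
    · rw [hj, pow_zero]
    · exact absurd ((dvd_pow_self p (Nat.succ_ne_zero j)).trans (hj ▸ h2)) hi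
  rw [← heq]
  infer_instance

/-- An inverting element can be taken of two-power order. -/
theorem exists_two_inverter [Finite G] {x g : G} (h : g * x * g⁻¹ = x⁻¹) :
    ∃ (t : G) (k : ℕ), orderOf t = 2 ^ k ∧ t * x * t⁻¹ = x⁻¹ := by
  obtain ⟨e, m, hm, hg⟩ :=
    Nat.exists_eq_pow_mul_and_not_dvd (orderOf_pos g).ne' 2 (by norm_num)
  have hmpos : m ≠ 0 := fun h0 => hm (h0 ▸ dvd_zero 2)
  have hsq : g ^ 2 * x * (g ^ 2)⁻¹ = x := by
    calc g ^ 2 * x * (g ^ 2)⁻¹ = g * (g * x * g⁻¹) * g⁻¹ := by rw [pow_two]; group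
    _ = g * x⁻¹ * g⁻¹ := by rw [h]
    _ = (g * x * g⁻¹)⁻¹ := by group
    _ = x := by rw [h, inv_inv]
  have hpow : ∀ j : ℕ, (g ^ 2) ^ j * x * ((g ^ 2) ^ j)⁻¹ = x := fun j => by
    induction j with
    | zero => simp
    | succ j ih =>
      calc (g ^ 2) ^ (j + 1) * x * ((g ^ 2) ^ (j + 1))⁻¹
          = (g ^ 2) ^ j * (g ^ 2 * x * (g ^ 2)⁻¹) * ((g ^ 2) ^ j)⁻¹ := by rw [pow_succ]; group
      _ = x := by rw [hsq, ih]
  refine ⟨g ^ m, e, ?_, ?_⟩
  · rw [orderOf_pow' g hmpos, hg, Nat.gcd_eq_right (dvd_mul_left m _),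
      Nat.mul_div_cancel _ (Nat.pos_of_ne_zero hmpos)]
  · obtain ⟨j, hj⟩ := Nat.not_even_iff_odd.mp (fun h2 => hm (even_iff_two_dvd.mp h2))
    rw [hj, pow_succ', pow_mul]
    calc g * (g ^ 2) ^ j * x * (g * (g ^ 2) ^ j)⁻¹
        = g * ((g ^ 2) ^ j * x * ((g ^ 2) ^ j)⁻¹) * g⁻¹ := by group
    _ = x⁻¹ := by rw [hpow, h]

/-- Real classes of a quotient by an odd-order subgroup lift. -/
theorem exists_real_lift [Finite G] (M : Subgroup G) [M.Normal] (hM : Odd (Nat.card M))
    (c : G ⧸ M) (hc : IsConj c c⁻¹) : ∃ z : G, QuotientGroup.mk z = c ∧ IsConj z z⁻¹ := by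
  classical
  obtain ⟨gb, hgb⟩ := isConj_iff.mp hc
  obtain ⟨tb, k, htk, htb⟩ := exists_two_inverter hgb
  obtain ⟨t, rfl, j, htj⟩ := exists_lift (QuotientGroup.mk' M) (QuotientGroup.mk'_surjective M) Nat.prime_two htk
  let S := {z : G // (QuotientGroup.mk z : G ⧸ M) = c}
  haveI := Fintype.ofFinite S
  have hmem : ∀ z : S, (QuotientGroup.mk (t * (z.1)⁻¹ * t⁻¹) : G ⧸ M) = c := fun z => by
    rw [QuotientGroup.mk_mul, QuotientGroup.mk_mul, QuotientGroup.mk_inv, QuotientGroup.mk_inv, z.2]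
    have := congrArg (fun a => a⁻¹) htb
    simp only [mul_inv_rev, inv_inv, QuotientGroup.mk'_apply, ← mul_assoc] at this
    exact this
  let f : S → S := fun z => ⟨t * (z.1)⁻¹ * t⁻¹, hmem z⟩
  have hff : ∀ z : S, ((f (f z)).1) = t ^ 2 * z.1 * (t ^ 2)⁻¹ := fun z => by
    show t * (t * (z.1)⁻¹ * t⁻¹)⁻¹ * t⁻¹ = _
    rw [pow_two]; group
  have hbij : Function.Bijective f := by
    refine Finite.injective_iff_bijective.mp fun a b h => ?_
    have := congrArg Subtype.val h
    exact Subtype.ext (inv_injective (mul_left_cancel (mul_right_cancel this)))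
  let σ : Equiv.Perm S := Equiv.ofBijective f hbij
  have hpow : ∀ i : ℕ, ∀ z : S, (((σ ^ 2) ^ i) z).1 = (t ^ 2) ^ i * z.1 * ((t ^ 2) ^ i)⁻¹ := fun i => by
    induction i with
    | zero => intro z; simp
    | succ i ih =>
      intro z
      rw [pow_succ' (σ ^ 2), Equiv.Perm.mul_apply, pow_two σ, Equiv.Perm.mul_apply]
      show (f (f (((σ ^ 2) ^ i) z))).1 = _
      rw [hff, ih, pow_succ' (t ^ 2)]
      group
  have hσ : σ ^ 2 ^ (j + 1) = 1 := by
    refine Equiv.ext fun z => Subtype.ext ?_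
    rw [pow_succ', pow_mul, hpow, ← pow_mul, mul_comm 2, pow_mul, ← htj, pow_orderOf_eq_one]
    simp
  have hcard : ¬ 2 ∣ Fintype.card S := by
    obtain ⟨z0, hz0⟩ := QuotientGroup.mk_surjective c
    rw [← Nat.card_eq_fintype_card, show Nat.card S = Nat.card M from ?_]
    · exact Nat.not_even_iff_odd.mpr hM ∘ even_iff_two_dvd.mpr
    · refine Nat.card_congr
        { toFun := fun z => ⟨z0⁻¹ * z.1, QuotientGroup.eq.mp (hz0.trans z.2.symm)⟩
          invFun := fun m => ⟨z0 * m.1, by rw [QuotientGroup.mk_mul_of_mem _ m.2, hz0]⟩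
          left_inv := fun z => Subtype.ext (by simp)
          right_inv := fun m => Subtype.ext (by simp) }
  haveI : Fact (Nat.Prime 2) := ⟨Nat.prime_two⟩
  obtain ⟨z, hz⟩ := Equiv.Perm.exists_fixed_point_of_prime hcard hσ
  refine ⟨z.1, z.2, isConj_iff.mpr ⟨t⁻¹, ?_⟩⟩
  have h1 : t * (z.1)⁻¹ * t⁻¹ = z.1 := congrArg Subtype.val hz
  calc t⁻¹ * z.1 * t⁻¹⁻¹ = t⁻¹ * (t * (z.1)⁻¹ * t⁻¹) * t⁻¹⁻¹ := by rw [h1]
  _ = (z.1)⁻¹ := by group

/-- Real characters and real classes. -/
theorem card_real_irr [Finite G] :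
    Nat.card {χ : IrrCharacter G // ∀ g, ((χ : G → ℂ) g).im = 0} =
      Nat.card {C : ConjClasses G // ∀ g, ConjClasses.mk g = C → IsConj g g⁻¹} := by
  haveI := Fintype.ofFinite G
  have h := H13.card_fixed_irr_eq (fun g : G => g⁻¹) (fun a b h => H19.isConj_inv_iff.mpr h)
    (fun χ => by
      rw [show ((χ : G → ℂ) ∘ fun g : G => g⁻¹) = fun g => conj ((χ : G → ℂ) g) from
        funext fun g => H12.irr_inv χ g]
      exact H12.isIrrCharacter_conj χ.2)
  refine Eq.trans ?_ (h.trans ?_)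
  · refine Nat.card_congr (Equiv.subtypeEquivRight fun χ => ?_)
    rw [funext_iff]
    refine forall_congr' fun g => ?_
    rw [Function.comp_apply, H12.irr_inv, Complex.conj_eq_iff_im]
  · refine Nat.card_congr (Equiv.subtypeEquivRight fun C => ⟨fun hC g hg => ?_, fun hC => (hC _ (H13.mk_classRep C)).symm⟩)
    have h1 : IsConj g (H13.classRep C) :=
      ConjClasses.mk_eq_mk_iff_isConj.mp (hg.trans (H13.mk_classRep C).symm)
    exact (h1.trans hC.symm).trans (H19.isConj_inv_iff.mpr h1.symm)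

/-- An element of two-power order acting nontrivially inverts some nontrivial element. -/
theorem exists_inverted_mem (M : Subgroup G) [M.Normal] (k : ℕ) :
    ∀ t : G, t ^ 2 ^ k = 1 → (∃ y ∈ M, t * y * t⁻¹ ≠ y) →
      ∃ (s m : G), m ∈ M ∧ m ≠ 1 ∧ s * m * s⁻¹ = m⁻¹ := by
  induction k with
  | zero =>
    rintro t ht ⟨y, -, hy⟩
    rw [pow_zero, pow_one] at ht
    exact absurd (by rw [ht]; group) hy
  | succ k ih =>
    rintro t ht ⟨y, hy, hne⟩
    by_cases h2 : ∃ z ∈ M, t ^ 2 * z * (t ^ 2)⁻¹ ≠ z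
    · exact ih (t ^ 2) (by rw [← pow_mul, ← pow_succ', ht]) h2
    · push Not at h2
      refine ⟨t, (t * y * t⁻¹) * y⁻¹, M.mul_mem (Subgroup.Normal.conj_mem inferInstance y hy t) (M.inv_mem hy),
        fun e => hne (mul_inv_eq_one.mp e), ?_⟩
      calc t * (t * y * t⁻¹ * y⁻¹) * t⁻¹
          = (t ^ 2 * y * (t ^ 2)⁻¹) * (t * y * t⁻¹)⁻¹ := by rw [pow_two]; group
      _ = (t * y * t⁻¹ * y⁻¹)⁻¹ := by rw [h2 y hy]; group

/-- Normal subgroups inside `P′` are in the kernels of real characters of degree prime to `p`. -/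
theorem le_kerChar_of_le_commutator [Finite G] {p : ℕ} [Fact p.Prime] (P : Sylow p G)
    (M : Subgroup G) [M.Normal] (hMP : M ≤ ⁅(P : Subgroup G), (P : Subgroup G)⁆)
    (χ : IrrCharacter G) (hd : ¬ p ∣ charDegree (χ : G → ℂ)) : M ≤ H24.kerChar χ := by
  classical
  haveI := Fintype.ofFinite G
  haveI := Fintype.ofFinite M
  haveI := Fintype.ofFinite (P : Subgroup G)
  have hMP' : M ≤ (P : Subgroup G) := hMP.trans (Subgroup.commutator_le_self _)
  obtain ⟨m, hm⟩ := H12.IsCharacter.exists_mult (H12.IsCharacter.res (H12.isCharacter_irr χ) (P : Subgroup G))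
  have hd' : charDegree (χ : G → ℂ) =
      ∑ θ : IrrCharacter (P : Subgroup G), m θ * charDegree (θ : ↥(P : Subgroup G) → ℂ) := by
    refine RealOdd.degree_trans ?_
    have h1 := congrFun hm 1
    simp only [OneMemClass.coe_one, Finset.sum_apply, Pi.smul_apply, smul_eq_mul] at h1
    rw [h1]
    push_cast
    exact Finset.sum_congr rfl fun θ _ => by rw [H24.irr_one θ]
  obtain ⟨θ, hθ⟩ : ∃ θ : IrrCharacter (P : Subgroup G),
      ¬ p ∣ m θ * charDegree (θ : ↥(P : Subgroup G) → ℂ) := by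
    by_contra h
    push Not at h
    exact hd (hd' ▸ Finset.dvd_sum fun θ _ => h θ)
  have hθ1 : charDegree (θ : ↥(P : Subgroup G) → ℂ) = 1 := by
    obtain ⟨n, hn⟩ := IsPGroup.iff_card.mp P.2
    obtain ⟨k, -, hk⟩ := (Nat.dvd_prime_pow (Fact.out : p.Prime)).mp
      (hn ▸ H24.charDegree_dvd_card θ)
    rcases k with _ | k
    · rw [hk, pow_zero]
    · exact absurd (Dvd.dvd.mul_left (hk ▸ dvd_pow_self p (Nat.succ_ne_zero k)) _) hθ
  have hone : (θ : ↥(P : Subgroup G) → ℂ) 1 = 1 := by rw [H24.irr_one θ, hθ1, Nat.cast_one]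
  set μ := H13.linHom (H12.isCharacter_irr θ) hone
  have hne : classInner (fun x : (P : Subgroup G) => (χ : G → ℂ) x) (θ : ↥(P : Subgroup G) → ℂ) ≠ 0 := by
    rw [hm, H12.classInner_sum_smul_irr (fun φ => (m φ : ℂ)) θ]
    exact Nat.cast_ne_zero.mpr fun h0 => hθ (by rw [h0, zero_mul]; exact dvd_zero p)
  have hres : H13.resTo hMP' (θ : ↥(P : Subgroup G) → ℂ) =
      fun x : M => (((1 : M →* ℂˣ) x : ℂˣ) : ℂ) := by
    funext x
    rw [H13.resTo_apply, ← H13.linHom_apply (H12.isCharacter_irr θ) hone]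
    exact congrArg Units.val (RealOdd.lin_kills_commutator μ (x := ⟨x, hMP' x.2⟩) (hMP x.2))
  have h2 : classInner (fun x : M => (χ : G → ℂ) x) (fun x => (((1 : M →* ℂˣ) x : ℂˣ) : ℂ)) ≠ 0 := by
    refine RealOdd.constituent_trans (H12.isCharacter_irr χ) hMP' θ.2 hne
      (H12.isCharacter_irr (H12.linIrr (1 : M →* ℂˣ))) ?_
    rw [hres]
    have h3 := H12.classInner_irr_self (H12.linIrr (1 : M →* ℂˣ))
    exact fun h4 => one_ne_zero (h3.symm.trans h4)
  intro x hx
  rw [H24.mem_kerChar]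
  have := RealOdd.res_eq_of_invariant M χ.2 1 (fun g => by funext y; simp [H13.twist_apply]) h2 ⟨x, hx⟩
  simpa using this

/-- The two-elements centralize normal subgroups of `P′`. -/
theorem centralize_of_le_commutator [Finite G] {p : ℕ} [Fact p.Prime] (hp : p ≠ 2)
    (hyp : Hyp p G) (P : Sylow p G) (M : Subgroup G) [M.Normal]
    (hMP : M ≤ ⁅(P : Subgroup G), (P : Subgroup G)⁆) :
    genPow 2 G ≤ Subgroup.centralizer (M : Set G) := by
  classical
  refine (Subgroup.closure_le _).mpr fun t ⟨k, hk⟩ => Subgroup.mem_centralizer_iff.mpr fun y hy => ?_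
  by_contra hne
  obtain ⟨s, m, hmM, hm1, hsm⟩ := exists_inverted_mem M k t (by rw [← hk, pow_orderOf_eq_one])
    ⟨y, hy, fun e => hne (mul_inv_eq_iff_eq_mul.mp e).symm⟩
  have hModd : Odd (Nat.card M) := by
    obtain ⟨n, hn⟩ := IsPGroup.iff_card.mp (P.2.to_le (hMP.trans (Subgroup.commutator_le_self _)))
    rw [hn]
    exact ((Fact.out : p.Prime).odd_of_ne_two hp).pow
  have hirr : Nat.card {χ : IrrCharacter (G ⧸ M) // ∀ g, ((χ : G ⧸ M → ℂ) g).im = 0} =
      Nat.card {χ : IrrCharacter G // ∀ g, ((χ : G → ℂ) g).im = 0} := by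
    refine Nat.card_congr (Equiv.ofBijective (fun ψ => ⟨H24.inflate M ψ.1, fun g => ψ.2 _⟩)
      ⟨fun a b h => Subtype.ext (H24.inflate_injective M (congrArg Subtype.val h)), fun χ => ?_⟩)
    obtain ⟨ψ, hψ⟩ := H24.exists_deflate M χ.1 (le_kerChar_of_le_commutator P M hMP χ.1 (hyp χ.1 χ.2))
    refine ⟨⟨ψ, fun g => ?_⟩, Subtype.ext hψ⟩
    obtain ⟨x, rfl⟩ := QuotientGroup.mk_surjective g
    have := χ.2 x
    rwa [← hψ] at this
  rw [card_real_irr, card_real_irr] at hirr
  let π := QuotientGroup.mk' M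
  have hreal : ∀ C : ConjClasses G, (∀ g, ConjClasses.mk g = C → IsConj g g⁻¹) →
      ∀ c, ConjClasses.mk c = ConjClasses.map π C → IsConj c c⁻¹ := by
    intro C hC c hc
    obtain ⟨g, rfl⟩ := ConjClasses.mk_surjective C
    have h1 : IsConj c (π g) := ConjClasses.mk_eq_mk_iff_isConj.mp hc
    have h2 : IsConj (π g) (π g)⁻¹ := by
      rw [← map_inv]; exact π.map_isConj (hC g rfl)
    exact (h1.trans h2).trans (H19.isConj_inv_iff.mpr h1.symm)
  let F : {C : ConjClasses G // ∀ g, ConjClasses.mk g = C → IsConj g g⁻¹} →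
      {C : ConjClasses (G ⧸ M) // ∀ g, ConjClasses.mk g = C → IsConj g g⁻¹} :=
    fun C => ⟨ConjClasses.map π C.1, hreal C.1 C.2⟩
  have hmk : ∀ {z : G}, IsConj z z⁻¹ → ∀ g, ConjClasses.mk g = ConjClasses.mk z → IsConj g g⁻¹ :=
    fun {z} hz g hg => by
      have h1 := ConjClasses.mk_eq_mk_iff_isConj.mp hg
      exact (h1.trans hz).trans (H19.isConj_inv_iff.mpr h1.symm)
  have hsurj : Function.Surjective F := by
    rintro ⟨C, hC⟩
    obtain ⟨c, rfl⟩ := ConjClasses.mk_surjective C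
    obtain ⟨z, hz, hzr⟩ := exists_real_lift M hModd c (hC c rfl)
    exact ⟨⟨ConjClasses.mk z, hmk hzr⟩, Subtype.ext (congrArg ConjClasses.mk hz)⟩
  have hinj := ((Nat.bijective_iff_surjective_and_card F).mpr ⟨hsurj, hirr.symm⟩).1
  have hmr : IsConj m m⁻¹ := isConj_iff.mpr ⟨s, hsm⟩
  have h1r : IsConj (1 : G) (1 : G)⁻¹ := by rw [inv_one]
  have h := @hinj ⟨ConjClasses.mk m, hmk hmr⟩ ⟨ConjClasses.mk 1, hmk h1r⟩
    (Subtype.ext (congrArg ConjClasses.mk (((QuotientGroup.eq_one_iff m).mpr hmM).trans (map_one π).symm)))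
  exact hm1 (isConj_one_left.mp (ConjClasses.mk_eq_mk_iff_isConj.mp (congrArg Subtype.val h)))

/-- A real character over a real character of a normal subgroup of odd index. -/
theorem exists_real_over [Finite G] [Fintype G] (K : Subgroup G) [K.Normal] [Fintype K] (hodd : Odd K.index)
    (θ : IrrCharacter K) (hθ : ∀ k, conj ((θ : K → ℂ) k) = (θ : K → ℂ) k) :
    ∃ χ : IrrCharacter G, (∀ g, ((χ : G → ℂ) g).im = 0) ∧
      classInner (fun k : K => (χ : G → ℂ) k) (θ : K → ℂ) ≠ 0 := by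
  classical
  have hθc := H12.isCharacter_irr θ
  obtain ⟨m, hm⟩ := H12.IsCharacter.exists_mult (H12.IsCharacter.indFun (H := K) hθc)
  have hmult : ∀ χ : IrrCharacter G, classInner (indFun K (θ : K → ℂ)) χ = (m χ : ℂ) := fun χ => by
    rw [hm]; exact H12.classInner_sum_smul_irr (fun φ => (m φ : ℂ)) χ
  have hindr : ∀ g, conj (indFun K (θ : K → ℂ) g) = indFun K (θ : K → ℂ) g := fun g => by
    rw [← RealOdd.indFun_conj_fun]
    exact congrFun (congrArg (indFun K) (funext hθ)) g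
  have hconj : ∀ χ, m (H12.conjIrr χ) = m χ := fun χ => by
    have h1 := hmult (H12.conjIrr χ)
    have h2 : classInner (indFun K (θ : K → ℂ)) (H12.conjIrr χ : G → ℂ) =
        conj (classInner (indFun K (θ : K → ℂ)) χ) := by
      rw [H12.classInner_def, H12.classInner_def, map_mul, map_inv₀, map_natCast, map_sum]
      congr 1
      refine Finset.sum_congr rfl fun k _ => ?_
      rw [H12.conjIrr_apply, map_mul, hindr]
    rw [h2, hmult, map_natCast] at h1
    exact_mod_cast h1.symm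
  set T := H13.inertia K (θ : K → ℂ) with hT
  have hKT : K ≤ T := H13.le_inertia K (H12.irr_isClassFunction θ)
  have hnorm : ((∑ χ : IrrCharacter G, m χ * m χ : ℕ) : ℂ) = (K.relIndex T : ℂ) := by
    have h1 : classInner (indFun K (θ : K → ℂ)) (indFun K (θ : K → ℂ)) = ∑ χ, (m χ : ℂ) * conj (m χ : ℂ) := by
      rw [hm]; exact H12.classInner_sum_smul_sum_smul _ _
    rw [H13.classInner_indFun_indFun K θ.2 θ.2,
      show Nat.card {x : G // H13.twist K x (θ : K → ℂ) = (θ : K → ℂ)} = Nat.card T from rfl] at h1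
    have h2 : (Nat.card T : ℂ) = (Nat.card K : ℂ) * (K.relIndex T : ℂ) := by
      rw [← Subgroup.relIndex_bot_left T, ← Subgroup.relIndex_mul_relIndex ⊥ K T bot_le hKT,
        Subgroup.relIndex_bot_left, Nat.cast_mul]
    rw [h2, inv_mul_cancel_left₀ (Nat.cast_ne_zero.mpr Nat.card_pos.ne')] at h1
    rw [h1]
    push_cast
    simp
  have hnorm' : (∑ χ : IrrCharacter G, m χ * m χ) = K.relIndex T := by exact_mod_cast hnorm
  have hrel : Odd (K.relIndex T) :=
    hodd.of_dvd_nat (Subgroup.relIndex_dvd_index_of_normal K T)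
  by_contra hno
  push Not at hno
  refine Nat.not_even_iff_odd.mpr (hnorm' ▸ hrel) ((ZMod.natCast_eq_zero_iff_even).mp ?_)
  push_cast
  refine Finset.sum_involution (fun χ _ => H12.conjIrr χ) (fun χ _ => ?_) (fun χ _ h0 hfix => ?_)
    (fun χ _ => Finset.mem_univ _) (fun χ _ => H12.conjIrr_conjIrr χ)
  · rw [hconj]; exact CharTwo.add_self_eq_zero _
  · apply h0
    have hr : ∀ g, ((χ : G → ℂ) g).im = 0 := fun g => Complex.conj_eq_iff_im.mp (by
      rw [← H12.conjIrr_apply, hfix])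
    have h1 := hno χ hr
    rw [← H12.classInner_indFun_right K (θ : K → ℂ) (H12.irr_isClassFunction χ),
      ← H12.conj_classInner, hmult, map_natCast] at h1
    rw [show m χ = 0 by exact_mod_cast h1]
    simp

/-- Every real class meets the normalizer of a Sylow subgroup. -/
theorem real_class_meets_normalizer [Finite G] {p : ℕ} [hp : Fact p.Prime]
    (hsolv : Group.IsSolvable ↥(genPow p G)) (hyp : Hyp p G) (P : Sylow p G) (x : G)
    (hx : IsConj x x⁻¹) : ∃ y ∈ Subgroup.normalizer ((P : Subgroup G) : Set G), IsConj x y := by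
  classical
  haveI : (genPow 2 G).Normal := genPow_normal 2
  obtain ⟨Q, hQn, hQK, hQp, hQi⟩ := exists_normal_sylow hsolv hyp (genPow 2 G) le_rfl
    ⟨0, by rw [Subgroup.relIndex_self, pow_zero]⟩
  have hsurj := QuotientGroup.mk'_surjective Q
  set K := genPow 2 (G ⧸ Q) with hK
  haveI : K.Normal := genPow_normal 2
  have hKimg : (genPow 2 G).map (QuotientGroup.mk' Q) = K := genPow_map _ hsurj Nat.prime_two
  have hKp : ¬ p ∣ Nat.card K := by
    rw [← Subgroup.relIndex_bot_left K, ← hKimg, ← QuotientGroup.map_mk'_self Q, Subgroup.relIndex_map_map,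
      QuotientGroup.ker_mk', sup_idem, sup_eq_left.mpr hQK]
    exact hQi
  have hKodd : Odd K.index := odd_index_genPow
  haveI := Fintype.ofFinite (G ⧸ Q)
  haveI := Fintype.ofFinite K
  let Pb : Sylow p (G ⧸ Q) := P.mapSurjective hsurj
  have hI : ∀ θ : IrrCharacter K, H12.conjIrr θ = θ →
      ∃ g : G ⧸ Q, ∀ u ∈ Pb, u • g • θ = g • θ := by
    intro θ hθ
    obtain ⟨χ, hχ, hne⟩ := exists_real_over K hKodd θ fun k => by
      rw [← H12.conjIrr_apply, hθ]
    set T := H13.inertia K (θ : K → ℂ) with hT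
    have hTi : ¬ p ∣ T.index := by
      intro hd
      refine hyp_quotient hyp Q χ hχ ?_
      have h1 := H13.clifford_degree K χ.2 θ.2 hne
      obtain ⟨a, ha⟩ := H12.IsCharacter.classInner_nat
        (H12.IsCharacter.res (H12.isCharacter_irr χ) K) (H12.isCharacter_irr θ)
      rw [ha, H24.irr_one χ, H24.irr_one θ, ← hT] at h1
      rw [show charDegree (χ : G ⧸ Q → ℂ) = a * T.index * charDegree (θ : K → ℂ) by exact_mod_cast h1]
      exact Dvd.dvd.mul_right (Dvd.dvd.mul_left hd _) _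
    let S : Sylow p T := default
    obtain ⟨S', hS'⟩ := (S.2.map T.subtype).exists_le_sylow
    have hle : (S' : Subgroup (G ⧸ Q)) ≤ T := by
      refine le_trans ?_ (Subgroup.map_subtype_le (S : Subgroup T))
      rw [← Subgroup.relIndex_eq_one]
      obtain ⟨n, hn⟩ := IsPGroup.iff_card.mp S'.2
      have h2 : ((S : Subgroup T).map T.subtype).relIndex (S' : Subgroup (G ⧸ Q)) ∣ p ^ n :=
        hn ▸ Subgroup.relIndex_dvd_card _ _
      have h3 : ¬ p ∣ ((S : Subgroup T).map T.subtype).index := by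
        rw [Subgroup.index_map_subtype, hp.out.dvd_mul, not_or]
        exact ⟨S.not_dvd_index, hTi⟩
      have h4 : ((S : Subgroup T).map T.subtype).relIndex (S' : Subgroup (G ⧸ Q)) ∣
          ((S : Subgroup T).map T.subtype).index :=
        Dvd.intro _ (Subgroup.relIndex_mul_index hS')
      obtain ⟨j, -, hj⟩ := (Nat.dvd_prime_pow hp.out).mp h2
      rcases j with _ | j
      · rw [hj, pow_zero]
      · exact absurd ((dvd_pow_self p (Nat.succ_ne_zero j)).trans (hj ▸ h4)) h3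
    obtain ⟨g, hg⟩ := MulAction.exists_smul_eq (G ⧸ Q) S' Pb
    refine ⟨g, fun u hu => ?_⟩
    have hu' : g⁻¹ * u * g ∈ (S' : Subgroup (G ⧸ Q)) := by
      have h5 : u ∈ (g • S' : Sylow p (G ⧸ Q)) := hg.symm ▸ hu
      have h6 : u ∈ ((g • S' : Sylow p (G ⧸ Q)) : Subgroup (G ⧸ Q)) := h5
      rw [Sylow.coe_subgroup_smul, Subgroup.mem_pointwise_smul_iff_inv_smul_mem] at h6
      simpa [MulAut.smul_def] using h6
    have hfix : (g⁻¹ * u * g) • θ = θ := by
      apply Subtype.ext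
      exact (H13.mem_inertia K).mp (T.inv_mem (hle hu'))
    calc u • g • θ = g • (g⁻¹ * u * g) • θ := by rw [← mul_smul, ← mul_smul]; congr 1; group
    _ = g • θ := by rw [hfix]
  obtain ⟨c, hc⟩ := isConj_iff.mp hx
  obtain ⟨t, k, htk, htx⟩ := exists_two_inverter hc
  have hxK : x ∈ genPow 2 G := by
    have hrho : (QuotientGroup.mk x : G ⧸ genPow 2 G) * QuotientGroup.mk x = 1 := by
      have h1 : (QuotientGroup.mk t : G ⧸ genPow 2 G) = 1 := (QuotientGroup.eq_one_iff t).mpr (mem_genPow htk)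
      have h2 := congrArg (fun z : G => (QuotientGroup.mk z : G ⧸ genPow 2 G)) htx
      simp only [QuotientGroup.mk_mul, QuotientGroup.mk_inv, h1, one_mul, inv_one, mul_one] at h2
      conv_lhs => arg 2; rw [h2]
      exact mul_inv_cancel _
    have hodd : Odd (orderOf (QuotientGroup.mk x : G ⧸ genPow 2 G)) :=
      (odd_index_genPow (G := G)).of_dvd_nat (by rw [Subgroup.index_eq_card]; exact orderOf_dvd_natCard _)
    have h2 : orderOf (QuotientGroup.mk x : G ⧸ genPow 2 G) ∣ 2 :=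
      orderOf_dvd_of_pow_eq_one (by rw [pow_two, hrho])
    rcases (Nat.dvd_prime Nat.prime_two).mp h2 with h | h
    · exact (QuotientGroup.eq_one_iff x).mp (orderOf_eq_one_iff.mp h)
    · rw [h] at hodd; exact absurd hodd (by decide)
  have hmem : ∀ {z : G}, z ∈ genPow 2 G → (QuotientGroup.mk' Q) z ∈ K := fun {z} hz =>
    hKimg ▸ Subgroup.mem_map_of_mem _ hz
  obtain ⟨yb, hyb, hconj⟩ := exists_mem_normalizer K hKodd hKp Pb hI ⟨_, hmem hxK⟩
    (isConj_iff.mpr ⟨⟨_, hmem (mem_genPow htk)⟩, Subtype.ext (by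
      simp only [Subgroup.coe_mul, InvMemClass.coe_inv, ← map_mul, ← map_inv, htx])⟩)
  obtain ⟨a, ha⟩ := isConj_iff.mp hconj
  obtain ⟨a, rfl⟩ := hsurj a
  refine ⟨a * x * a⁻¹, ?_, isConj_iff.mpr ⟨a, rfl⟩⟩
  have hy : (QuotientGroup.mk' Q) (a * x * a⁻¹) ∈
      Subgroup.normalizer ((Pb : Subgroup (G ⧸ Q)) : Set (G ⧸ Q)) := by
    rw [map_mul, map_mul, map_inv]; rwa [← ha] at hyb
  have hQP : Q ≤ (P : Subgroup G) := normal_le_sylow hQp P
  rw [Subgroup.mem_normalizer_iff] at hy ⊢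
  intro z
  have hz := hy (QuotientGroup.mk' Q z)
  rw [← map_mul, ← map_inv, ← map_mul] at hz
  have hiff : ∀ w : G, QuotientGroup.mk' Q w ∈ (Pb : Subgroup (G ⧸ Q)) ↔ w ∈ (P : Subgroup G) := by
    intro w
    show w ∈ ((P : Subgroup G).map (QuotientGroup.mk' Q)).comap (QuotientGroup.mk' Q) ↔ _
    rw [Subgroup.comap_map_eq, QuotientGroup.ker_mk', sup_eq_left.mpr hQP]
  rw [hiff, hiff] at hz
  exact hz

end H25.RealP
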