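import Cfsg.Agent.H25.RealOddDecomp
import Cfsg.Agent.H13.Correspondence
import Cfsg.Agent.H13.RealLinTwist

/-!
# Groups whose real irreducible characters have degree prime to `p`

Dolfi–Navarro–Tiep: if the subgroup generated by the `p`-elements is solvable and all real
irreducible characters have degree prime to `p`, then the subgroup generated by the two-elements
(and any normal subgroup above it of `p`-power index) has a normal Sylow `p`-subgroup.
-/

set_option autoImplicit false
set_option linter.unusedSectionVars false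
set_option linter.style.haveILetI false

open Cfsg
open scoped ComplexConjugate

namespace H25.RealP

universe u

variable {G : Type u} [Group G]

/-- The subgroup generated by the elements of `r`-power order. -/
def genPow (r : ℕ) (G : Type u) [Group G] : Subgroup G :=
  Subgroup.closure {g : G | ∃ k : ℕ, orderOf g = r ^ k}

/-- All real irreducible characters have degree prime to `p`. -/
def Hyp (p : ℕ) (G : Type u) [Group G] : Prop :=
  ∀ χ : IrrCharacter G, (∀ g : G, ((χ : G → ℂ) g).im = 0) → ¬ p ∣ charDegree (χ : G → ℂ)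

theorem genPow_normal (r : ℕ) : (genPow r G).Normal := by
  refine ⟨fun x hx g => ?_⟩
  have h1 : (genPow r G).map (MulAut.conj g).toMonoidHom ≤ genPow r G := by
    rw [genPow, MonoidHom.map_closure]
    refine Subgroup.closure_mono ?_
    rintro _ ⟨y, ⟨k, hk⟩, rfl⟩
    exact ⟨k, (MulEquiv.orderOf_eq (MulAut.conj g) y).trans hk⟩
  exact h1 ⟨x, hx, rfl⟩

theorem mem_genPow {r k : ℕ} {g : G} (h : orderOf g = r ^ k) : g ∈ genPow r G :=
  Subgroup.subset_closure ⟨k, h⟩

/-- Elements of prime power order lift to such elements. -/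
theorem exists_lift [Finite G] {H : Type*} [Group H] (f : G →* H) (hf : Function.Surjective f)
    {r k : ℕ} (hr : r.Prime) {y : H} (hy : orderOf y = r ^ k) :
    ∃ x, f x = y ∧ ∃ j, orderOf x = r ^ j := by
  obtain ⟨x, rfl⟩ := hf y
  obtain ⟨e, m, hm, hx⟩ := Nat.exists_eq_pow_mul_and_not_dvd (orderOf_pos x).ne' r hr.ne_one
  have hdvd : orderOf (f x) ∣ r ^ e * m := hx ▸ orderOf_map_dvd f x
  have hcop : Nat.Coprime (r ^ k) m := Nat.Coprime.pow_left k (hr.coprime_iff_not_dvd.mpr hm)
  obtain ⟨c, hc0, hc1⟩ := Nat.chineseRemainder hcop 1 0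
  refine ⟨x ^ c, ?_, ?_⟩
  · rw [map_pow]
    conv_rhs => rw [← pow_one (f x)]
    rw [pow_eq_pow_iff_modEq, hy]
    exact hc0
  · obtain ⟨d, hd⟩ := Nat.modEq_zero_iff_dvd.mp hc1
    have h1 : orderOf (x ^ c) ∣ r ^ e := orderOf_dvd_of_pow_eq_one (by
      rw [← pow_mul, hd, show m * d * r ^ e = r ^ e * m * d by ring, ← hx, pow_mul,
        pow_orderOf_eq_one, one_pow])
    obtain ⟨j, -, hj⟩ := (Nat.dvd_prime_pow hr).mp h1
    exact ⟨j, hj⟩

theorem genPow_map [Finite G] {H : Type*} [Group H] (f : G →* H) (hf : Function.Surjective f)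
    {r : ℕ} (hr : r.Prime) : (genPow r G).map f = genPow r H := by
  rw [genPow, MonoidHom.map_closure]
  refine le_antisymm ((Subgroup.closure_le _).mpr ?_) ((Subgroup.closure_le _).mpr ?_)
  · rintro _ ⟨x, ⟨k, hk⟩, rfl⟩
    have h1 : orderOf (f x) ∣ r ^ k := hk ▸ orderOf_map_dvd f x
    obtain ⟨j, -, hj⟩ := (Nat.dvd_prime_pow hr).mp h1
    exact mem_genPow hj
  · rintro y ⟨k, hk⟩
    obtain ⟨x, rfl, j, hj⟩ := exists_lift f hf hr hk
    exact Subgroup.subset_closure ⟨x, ⟨j, hj⟩, rfl⟩

theorem odd_index_genPow [Finite G] : Odd (genPow 2 G).index := by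
  haveI := genPow_normal (G := G) 2
  rw [← Nat.not_even_iff_odd, even_iff_two_dvd, Subgroup.index_eq_card]
  intro h
  haveI : Fact (Nat.Prime 2) := ⟨Nat.prime_two⟩
  obtain ⟨y, hy⟩ := exists_prime_orderOf_dvd_card' 2 h
  obtain ⟨x, rfl, j, hj⟩ := exists_lift (QuotientGroup.mk' (genPow 2 G))
    (QuotientGroup.mk'_surjective _) (r := 2) (k := 1) Nat.prime_two (by rw [hy, pow_one])
  rw [QuotientGroup.mk'_apply, (QuotientGroup.eq_one_iff x).mpr (mem_genPow hj), orderOf_one] at hy
  norm_num at hy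

theorem hyp_quotient [Finite G] {p : ℕ} (h : Hyp p G) (L : Subgroup G) [L.Normal] :
    Hyp p (G ⧸ L) := by
  intro ψ hψ
  have := h (H24.inflate L ψ) fun g => hψ _
  rwa [RealOdd.charDegree_inflate] at this

theorem solvable_quotient [Finite G] {p : ℕ} [Fact p.Prime]
    (h : Group.IsSolvable ↥(genPow p G)) (L : Subgroup G) [L.Normal] :
    Group.IsSolvable ↥(genPow p (G ⧸ L)) := by
  haveI := h
  rw [← genPow_map (QuotientGroup.mk' L) (QuotientGroup.mk'_surjective L) (Fact.out : p.Prime)]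
  exact Group.isSolvable_of_surjective
    ((QuotientGroup.mk' L).subgroupMap_surjective (genPow p G))

/-- Linear characters separate the points of an abelian group. -/
theorem eq_of_forall_hom [Finite G] (N : Subgroup G) (hab : ∀ a b : N, a * b = b * a) {a b : N}
    (h : ∀ μ : N →* ℂˣ, μ a = μ b) : a = b := by
  letI : CommGroup N := { (inferInstance : Group N) with mul_comm := hab }
  by_contra hne
  haveI : NeZero ((Monoid.exponent N : ℕ) : ℂ) :=
    ⟨by exact_mod_cast (Monoid.ExponentExists.of_finite (G := N)).exponent_ne_zero⟩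
  obtain ⟨φ, hφ⟩ := CommGroup.exists_apply_ne_one_of_hasEnoughRootsOfUnity (M := ℂ) N
    (mul_inv_eq_one.not.mpr hne)
  exact hφ (by rw [map_mul, map_inv, h φ, mul_inv_cancel])

theorem hom_inv_inv {X : Type*} [Group X] (μ : X →* ℂˣ) : (μ⁻¹)⁻¹ = μ :=
  MonoidHom.ext fun _ => inv_inv _

theorem hom_inv_injective {X : Type*} [Group X] {μ ν : X →* ℂˣ} (h : μ⁻¹ = ν⁻¹) : μ = ν := by
  rw [← hom_inv_inv μ, h, hom_inv_inv]

theorem card_eq_one_of_isPGroup {p : ℕ} {X : Type*} [Group X] [Finite X] (hX : IsPGroup p X)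
    [Fact p.Prime] (h : ¬ p ∣ Nat.card X) : Nat.card X = 1 := by
  obtain ⟨n, hn⟩ := IsPGroup.iff_card.mp hX
  rcases n with _ | n
  · rw [hn, pow_zero]
  · exact absurd (hn ▸ dvd_pow_self p (Nat.succ_ne_zero n)) h

open RealOdd in
/-- The key construction: a real character of degree divisible by `p`. -/
theorem not_hyp_of_complement [Finite G] {p : ℕ} [Fact p.Prime] (N H : Subgroup G) [N.Normal]
    (hab : ∀ a b : N, a * b = b * a) (hNH : N ⊓ H = ⊥) (hsup : N ⊔ H = ⊤)
    (M : Subgroup G) [M.Normal] (hNM : N ≤ M) (hMp : ∃ a, N.relIndex M = p ^ a)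
    (μ : N →* ℂˣ) (g : G) (hg : twh N g μ = μ⁻¹) (hM : ¬ M ≤ stab N μ) : ¬ Hyp p G := by
  classical
  intro hyp
  haveI := Fintype.ofFinite G
  set T := stab N μ with hTdef
  haveI := Fintype.ofFinite N
  haveI := Fintype.ofFinite T
  have hex : ∀ x : G, ∃ n : N, (n : G)⁻¹ * x ∈ H := fun x => by
    obtain ⟨a, ha, b, hb, rfl⟩ := Subgroup.mem_sup_of_normal_left.mp (hsup ▸ Subgroup.mem_top x)
    exact ⟨⟨a, ha⟩, by simpa using hb⟩
  choose nn hnn using hex
  have huniq : ∀ (x : G) (n : N), (n : G)⁻¹ * x ∈ H → nn x = n := fun x n hn => by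
    have h1 : ((nn x : N) : G)⁻¹ * n ∈ N ⊓ H := ⟨N.mul_mem (N.inv_mem (nn x).2) n.2, by
      have := H.mul_mem (hnn x) (H.inv_mem hn)
      simpa [mul_assoc] using this⟩
    rw [hNH, Subgroup.mem_bot, inv_mul_eq_one] at h1
    exact Subtype.ext h1
  have hfixN : ∀ n : N, twh N (n : G) μ = μ := fun n => mem_stab N |>.mp (le_stab N μ n.2)
  have hH : ∀ x ∈ T, ((nn x : N) : G)⁻¹ * x ∈ T := fun x hx =>
    T.mul_mem (T.inv_mem (le_stab N μ (nn x).2)) hx
  have hconj : ∀ x ∈ T, ∀ n : N, μ (MulAut.conjNormal (H := N) x n) = μ n := fun x hx n =>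
    DFunLike.congr_fun ((mem_stab N).mp hx) n
  let ext : T →* ℂˣ := MonoidHom.mk' (fun x => μ (nn x)) fun a b => by
    have h1 : nn ((a : G) * b) =
        nn a * MulAut.conjNormal (H := N) (((nn (a : G) : N) : G)⁻¹ * a) (nn b) := by
      apply huniq
      have := H.mul_mem (hnn a) (hnn b)
      convert this using 1
      simp only [Subgroup.coe_mul, MulAut.conjNormal_apply]
      group
    show μ (nn ((a * b : T) : G)) = μ (nn a) * μ (nn b)
    rw [Subgroup.coe_mul, h1, map_mul, hconj _ (hH _ a.2)]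
  have hres : ∀ (n : N) (h : (n : G) ∈ T), ext ⟨n, h⟩ = μ n := fun n h =>
    congrArg μ (huniq n n (by simp))
  have hmirr : IsIrrCharacter N (fun x => (μ x : ℂ)) := H12.isIrrCharacter_monoidHom μ
  have heirr : IsIrrCharacter T (fun x => (ext x : ℂ)) := H12.isIrrCharacter_monoidHom ext
  have hresTo : H13.resTo (le_stab N μ) (fun x : T => (ext x : ℂ)) = fun x => (μ x : ℂ) :=
    funext fun n => by rw [H13.resTo_apply, hres]
  obtain ⟨hirr, -⟩ := H13.clifford_correspondence N hmirr hTdef (le_stab N μ) heirr (by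
    rw [hresTo, (H12.classInner_irr_self (⟨_, hmirr⟩ : IrrCharacter N) : classInner (fun x => (μ x : ℂ)) (fun x => (μ x : ℂ)) = 1)]; exact one_ne_zero)
  -- move the twisting element into the complement
  obtain ⟨hmem, hh⟩ : ((nn g : N) : G)⁻¹ * g ∈ H ∧ twh N (((nn g : N) : G)⁻¹ * g) μ = μ⁻¹ := by
    refine ⟨hnn g, ?_⟩
    rw [← twh_twh N g, show ((nn g : N) : G)⁻¹ = ((nn g)⁻¹ : N) from rfl, hfixN, hg]
  set h := ((nn g : N) : G)⁻¹ * g
  have hstab : ∀ z : G, h * z * h⁻¹ ∈ T ↔ z ∈ T := by
    intro z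
    have hinvmul : ∀ x, twh N x μ⁻¹ = (twh N x μ)⁻¹ := fun x => rfl
    have hi : twh N h⁻¹ μ = μ⁻¹ := by
      have h2 : twh N h⁻¹ (twh N h μ) = μ := by rw [twh_twh, mul_inv_cancel, twh_one]
      rw [hh, hinvmul] at h2
      conv_rhs => rw [← h2]
      rw [hom_inv_inv]
    rw [mem_stab, mem_stab, ← twh_twh, ← twh_twh, hh]
    constructor
    · intro e
      rw [hinvmul] at e
      have e2 : twh N h (twh N h⁻¹ (twh N z μ)⁻¹) = twh N h μ := congrArg (twh N h) e
      rw [twh_twh, inv_mul_cancel, twh_one, hh] at e2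
      exact hom_inv_injective e2
    · intro e
      rw [hinvmul, e, hinvmul, hi, hom_inv_inv]
  have hval : ∀ (z : G) (hz : z ∈ T) (hz' : h * z * h⁻¹ ∈ T), ext ⟨h * z * h⁻¹, hz'⟩ = (ext ⟨z, hz⟩)⁻¹ := by
    intro z hz hz'
    have h1 : nn (h * z * h⁻¹) = MulAut.conjNormal (H := N) h (nn z) := by
      apply huniq
      have := H.mul_mem (H.mul_mem hmem (hnn z)) (H.inv_mem hmem)
      convert this using 1
      simp only [MulAut.conjNormal_apply]
      group
    show μ (nn (h * z * h⁻¹)) = (μ (nn z))⁻¹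
    rw [h1]
    exact DFunLike.congr_fun hh (nn z)
  have hreal : ∀ x, (indFun T (fun t => (ext t : ℂ)) x).im = 0 := by
    intro x
    rw [← Complex.conj_eq_iff_im, ← indFun_conj_fun]
    simp only [indFun]
    congr 1
    refine Fintype.sum_equiv (Equiv.mulRight h⁻¹) _ _ fun y => ?_
    have e : (y * h⁻¹)⁻¹ * x * (y * h⁻¹) = h * (y⁻¹ * x * y) * h⁻¹ := by group
    rw [Equiv.coe_mulRight, e]
    by_cases hy : y⁻¹ * x * y ∈ T
    · have hy' := (hstab _).mpr hy
      rw [H14.extendByZero_of_mem _ _ hy, H14.extendByZero_of_mem _ _ hy', hval _ hy hy',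
        Units.val_inv_eq_inv_val]
      exact (eq_inv_of_mul_eq_one_right (H13.Twist.lin_mul_conj ext ⟨_, hy⟩))
    · rw [H14.extendByZero_of_not_mem _ _ hy,
        H14.extendByZero_of_not_mem _ _ (fun h' => hy ((hstab _).mp h'))]
  have hdeg := hyp ⟨_, hirr⟩ hreal
  have hd : charDegree (indFun T fun t => (ext t : ℂ)) = T.index :=
    degree_trans (χ := (⟨_, hirr⟩ : IrrCharacter G)) (by
      show indFun T (fun t => (ext t : ℂ)) 1 = _
      rw [H13.indFun_apply_one, map_one, Units.val_one, mul_one])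
  rw [hd] at hdeg
  apply hM
  have h1 : T.relIndex M ∣ T.index := by
    have e1 := Subgroup.relIndex_mul_relIndex (M ⊓ T) M (M ⊔ T) inf_le_left le_sup_left
    have e2 := Subgroup.relIndex_mul_relIndex (M ⊓ T) T (M ⊔ T) inf_le_right le_sup_right
    rw [Subgroup.inf_relIndex_left, Subgroup.relIndex_sup_left] at e1
    rw [Subgroup.inf_relIndex_right, mul_comm] at e2
    have e3 : T.relIndex M = T.relIndex (M ⊔ T) := by
      refine Nat.eq_of_mul_eq_mul_right (Nat.pos_of_ne_zero ?_) (e1.trans e2.symm)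
      exact Subgroup.FiniteIndex.index_ne_zero
    rw [e3]
    exact Dvd.intro _ (Subgroup.relIndex_mul_index (le_sup_right : T ≤ M ⊔ T))
  obtain ⟨a, ha⟩ := hMp
  have h2 : T.relIndex M ∣ p ^ a := by
    rw [← ha]
    exact Subgroup.relIndex_dvd_of_le_left M (le_stab N μ)
  obtain ⟨j, -, hj⟩ := (Nat.dvd_prime_pow (Fact.out : p.Prime)).mp h2
  rw [← Subgroup.relIndex_eq_one, hj]
  rcases j with _ | j
  · exact pow_zero p
  · exact absurd ((dvd_pow_self p (Nat.succ_ne_zero j)).trans (hj ▸ h1)) hdeg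

open RealOdd in
/-- A two-element acting nontrivially gives an inverted linear character. -/
theorem exists_inverted [Finite G] (N : Subgroup G) [N.Normal] (k : ℕ) :
    ∀ t : G, t ^ 2 ^ k = 1 → (∃ lam : N →* ℂˣ, twh N t lam ≠ lam) →
      ∃ (s : G) (μ : N →* ℂˣ), μ ≠ 1 ∧ twh N s μ = μ⁻¹ := by
  induction k with
  | zero =>
    intro t ht hlam
    rw [pow_zero, pow_one] at ht
    obtain ⟨lam, h⟩ := hlam
    exact absurd (by rw [ht, twh_one]) h
  | succ k ih =>
    intro t ht hlam
    by_cases h2 : ∃ lam : N →* ℂˣ, twh N (t ^ 2) lam ≠ lam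
    · exact ih (t ^ 2) (by rw [← pow_mul, ← pow_succ', ht]) h2
    · push Not at h2
      obtain ⟨lam, h⟩ := hlam
      refine ⟨t, twh N t lam * lam⁻¹, fun e => h (mul_inv_eq_one.mp e), ?_⟩
      have h3 : twh N t (twh N t lam * lam⁻¹) = twh N t (twh N t lam) * (twh N t lam)⁻¹ := rfl
      rw [h3, twh_twh, ← pow_two, h2]
      ext x
      simp

/-- **Theorem.** The normal subgroups over the two-generated one of `p`-power index have normal
Sylow `p`-subgroups. -/
theorem exists_normal_sylow {G : Type u} [Group G] [Finite G] {p : ℕ} [hp : Fact p.Prime]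
    (hsolv : Group.IsSolvable ↥(genPow p G)) (hyp : Hyp p G) (U : Subgroup G) [U.Normal]
    (hKU : genPow 2 G ≤ U) (hUp : ∃ a, (genPow 2 G).relIndex U = p ^ a) :
    ∃ M : Subgroup G, M.Normal ∧ M ≤ U ∧ IsPGroup p M ∧ ¬ p ∣ M.relIndex U := by
  induction hn : Nat.card G using Nat.strong_induction_on generalizing G with
  | _ n ih =>
  classical
  by_cases hpU : ¬ p ∣ Nat.card U
  · exact ⟨⊥, inferInstance, bot_le, IsPGroup.of_bot, by rwa [Subgroup.relIndex_bot_left]⟩
  set K := genPow 2 G with hKdef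
  haveI hKn : K.Normal := genPow_normal 2
  obtain ⟨a, ha⟩ := hUp
  by_cases hK : K = ⊥
  · refine ⟨U, inferInstance, le_rfl, ?_, by simp [hp.out.ne_one]⟩
    rw [hK, Subgroup.relIndex_bot_left] at ha
    exact IsPGroup.of_card ha
  -- lifting from a quotient
  have step : ∀ (N : Subgroup G) [N.Normal], N ≠ ⊥ → N ≤ K →
      ∃ M : Subgroup G, M.Normal ∧ N ≤ M ∧ M ≤ U ∧ IsPGroup p (M.map (QuotientGroup.mk' N)) ∧
        (∃ c, N.relIndex M = p ^ c) ∧ ¬ p ∣ M.relIndex U := by
    intro N _ hN hNK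
    have hsurj := QuotientGroup.mk'_surjective N
    have hlt : Nat.card (G ⧸ N) < n := by
      rw [← hn, Subgroup.card_eq_card_quotient_mul_card_subgroup N]
      exact lt_mul_of_one_lt_right Nat.card_pos (Subgroup.one_lt_card_iff_ne_bot N |>.mpr hN)
    haveI : (U.map (QuotientGroup.mk' N)).Normal := Subgroup.Normal.map inferInstance _ hsurj
    have hNU : N ≤ U := hNK.trans hKU
    have hmap := genPow_map (G := G) (QuotientGroup.mk' N) hsurj Nat.prime_two
    have hrel : ∀ A : Subgroup G, N ≤ A → ∀ B : Subgroup G, N ≤ B →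
        (A.map (QuotientGroup.mk' N)).relIndex (B.map (QuotientGroup.mk' N)) = A.relIndex B := by
      intro A hA B hB
      rw [Subgroup.relIndex_map_map, QuotientGroup.ker_mk', sup_eq_left.mpr hA, sup_eq_left.mpr hB]
    obtain ⟨M', hM'n, hM'U, hM'p, hM'i⟩ := ih (Nat.card (G ⧸ N)) hlt (solvable_quotient hsolv N)
      (hyp_quotient hyp N) (U.map (QuotientGroup.mk' N)) (hmap ▸ Subgroup.map_mono hKU)
      ⟨a, by rw [← hmap, hrel K hNK U hNU, ha]⟩ rfl
    have hNM : N ≤ M'.comap (QuotientGroup.mk' N) := fun x hx => by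
      rw [Subgroup.mem_comap, QuotientGroup.mk'_apply, (QuotientGroup.eq_one_iff x).mpr hx]
      exact one_mem _
    have hback := Subgroup.map_comap_eq_self_of_surjective hsurj M'
    refine ⟨M'.comap (QuotientGroup.mk' N), hM'n.comap _, hNM, ?_, by rw [hback]; exact hM'p, ?_, ?_⟩
    · refine (Subgroup.comap_mono hM'U).trans ?_
      rw [Subgroup.comap_map_eq, QuotientGroup.ker_mk', sup_eq_left.mpr hNU]
    · obtain ⟨c, hc⟩ := IsPGroup.iff_card.mp hM'p
      refine ⟨c, ?_⟩
      rw [← hc, ← hrel N le_rfl _ hNM, hback, QuotientGroup.map_mk'_self,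
        Subgroup.relIndex_bot_left]
    · rw [← hrel _ hNM U hNU, hback]; exact hM'i
  by_cases hA : ∃ A : Subgroup G, A.Normal ∧ A ≠ ⊥ ∧ A ≤ K ∧ IsPGroup p A
  · obtain ⟨A, hAn, hA1, hAK, hAp⟩ := hA
    obtain ⟨M, hMn, hAM, hMU, -, ⟨c, hc⟩, hMi⟩ := step A hA1 hAK
    refine ⟨M, hMn, hMU, ?_, hMi⟩
    obtain ⟨d, hd⟩ := IsPGroup.iff_card.mp hAp
    refine IsPGroup.of_card (n := d + c) ?_
    rw [← Subgroup.relIndex_bot_left M, ← Subgroup.relIndex_mul_relIndex ⊥ A M bot_le hAM,
      Subgroup.relIndex_bot_left, hd, hc, pow_add]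
  push Not at hA
  obtain ⟨N, ⟨hNn, hN1, hNK⟩, hmin⟩ := wellFounded_lt.has_min
    {N : Subgroup G | N.Normal ∧ N ≠ ⊥ ∧ N ≤ K} ⟨K, hKn, hK, le_rfl⟩
  haveI := hNn
  have hminN : ∀ L : Subgroup G, L.Normal → L ≤ N → L = ⊥ ∨ L = N := by
    intro L hL hLN
    by_contra hne
    rw [not_or] at hne
    exact hmin L ⟨hL, hne.1, hLN.trans hNK⟩ (lt_of_le_of_ne hLN hne.2)
  set C := genPow p G with hCdef
  haveI hCn : C.Normal := genPow_normal p
  have habel : N ≤ C → ∀ x y : N, x * y = y * x := by
    intro hNC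
    haveI : Group.IsSolvable N :=
      Group.isSolvable_of_isSolvable_injective (Subgroup.inclusion_injective hNC)
    haveI : Nontrivial N := (Subgroup.nontrivial_iff_ne_bot N).mpr hN1
    rcases hminN ⁅N, N⁆ inferInstance (Subgroup.commutator_le_self N) with h | h
    · intro x y
      have := Subgroup.mem_centralizer_iff.mp
        ((Subgroup.commutator_eq_bot_iff_le_centralizer.mp h) x.2) y y.2
      exact Subtype.ext this.symm
    · exfalso
      refine (Group.IsSolvable.commutator_lt_top_of_nontrivial N).ne ?_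
      apply Subgroup.map_injective N.subtype_injective
      rw [commutator_def, Subgroup.map_commutator, ← MonoidHom.range_eq_map, Subgroup.range_subtype]
      exact h
  have hpN : ¬ p ∣ Nat.card N := by
    intro h
    obtain ⟨y, hy⟩ := exists_prime_orderOf_dvd_card' p h
    have hyC : (y : G) ∈ C := mem_genPow (k := 1) (by rw [Subgroup.orderOf_coe, hy, pow_one])
    rcases hminN (N ⊓ C) inferInstance inf_le_left with h1 | h1
    · have : (y : G) ∈ (⊥ : Subgroup G) := h1 ▸ ⟨y.2, hyC⟩
      rw [Subgroup.mem_bot, OneMemClass.coe_eq_one] at this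
      rw [this, orderOf_one] at hy
      exact hp.out.one_lt.ne hy
    · have hab := habel (inf_eq_left.mp h1)
      letI : CommGroup N := { (inferInstance : Group N) with mul_comm := hab }
      let S : Sylow p N := default
      haveI : (S : Subgroup N).Characteristic := S.characteristic_of_normal inferInstance
      refine hA ((S : Subgroup N).map N.subtype) inferInstance ?_
        ((Subgroup.map_subtype_le _).trans hNK) (S.2.map _)
      rw [Ne, Subgroup.map_eq_bot_iff_of_injective _ N.subtype_injective]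
      exact S.ne_bot_of_dvd_card h
  obtain ⟨M, hMn, hNM, hMU, -, ⟨c, hc⟩, hMi⟩ := step N hN1 hNK
  haveI := hMn
  let Q : Sylow p M := default
  set QG := (Q : Subgroup M).map M.subtype with hQG
  have hQM : QG ≤ M := Subgroup.map_subtype_le _
  have hQp : IsPGroup p QG := Q.2.map _
  have hQi : ¬ p ∣ QG.relIndex M := by
    rw [hQG, Subgroup.relIndex, Subgroup.subgroupOf, Subgroup.comap_map_eq_self_of_injective M.subtype_injective]
    exact Q.not_dvd_index
  -- the kernel and the Sylow subgroup generate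
  have hsupM : N ⊔ QG = M := by
    refine le_antisymm (sup_le hNM hQM) ?_
    rw [← Subgroup.relIndex_eq_one]
    have h1 : (N ⊔ QG).relIndex M ∣ p ^ c := hc ▸ Subgroup.relIndex_dvd_of_le_left M le_sup_left
    have h2 : (N ⊔ QG).relIndex M ∣ QG.relIndex M := Subgroup.relIndex_dvd_of_le_left M le_sup_right
    obtain ⟨j, -, hj⟩ := (Nat.dvd_prime_pow hp.out).mp h1
    rcases j with _ | j
    · rw [hj, pow_zero]
    · exact absurd ((dvd_pow_self p (Nat.succ_ne_zero j)).trans (hj ▸ h2)) hQi
  have hdisj : N ⊓ QG = ⊥ := by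
    rw [← Subgroup.card_eq_one]
    exact card_eq_one_of_isPGroup (hQp.to_le inf_le_right)
      (fun h => hpN (h.trans (Subgroup.card_dvd_of_le inf_le_left)))
  set H := Subgroup.normalizer (QG : Set G) with hHdef
  have hfrat : N ⊔ H = ⊤ := by
    have h := Sylow.normalizer_sup_eq_top (N := M) Q
    rw [eq_top_iff, ← h, ← hHdef]
    refine sup_le le_sup_right ?_
    rw [← hsupM]
    exact sup_le le_sup_left (Subgroup.le_normalizer.trans le_sup_right)
  -- if the Sylow subgroup centralizes the kernel it is normal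
  by_cases hcent : ⁅N, QG⁆ = ⊥
  · refine ⟨QG, ?_, hQM.trans hMU, hQp, ?_⟩
    · rw [← Subgroup.normalizer_eq_top_iff, eq_top_iff, ← hfrat]
      refine sup_le ?_ le_rfl
      exact (Subgroup.commutator_eq_bot_iff_le_centralizer.mp hcent).trans
        (Subgroup.centralizer_le_normalizer _)
    · rw [← Subgroup.relIndex_mul_relIndex QG M U hQM hMU, Nat.Prime.dvd_mul hp.out, not_or]
      exact ⟨hQi, hMi⟩
  exfalso
  have hQC : QG ≤ C := by
    intro q hq
    obtain ⟨k, hk⟩ := IsPGroup.iff_orderOf.mp hQp ⟨q, hq⟩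
    exact mem_genPow (k := k) ((Subgroup.orderOf_coe (⟨q, hq⟩ : QG)).trans hk)
  have hab : ∀ x y : N, x * y = y * x := by
    refine habel ?_
    rcases hminN (N ⊓ C) inferInstance inf_le_left with h1 | h1
    · refine absurd ?_ hcent
      rw [eq_bot_iff, ← h1]
      exact Subgroup.commutator_mono le_rfl hQC |>.trans (Subgroup.commutator_le_inf N C)
    · exact inf_eq_left.mp h1
  have hNcent : N ≤ Subgroup.centralizer (N : Set G) := fun x hx =>
    Subgroup.mem_centralizer_iff.mpr fun y hy => congrArg (fun z : N => (z : G)) (hab ⟨y, hy⟩ ⟨x, hx⟩)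
  -- normal subgroups inside the kernel
  have hnorm : ∀ L : Subgroup G, L ≤ N → H ≤ Subgroup.normalizer (L : Set G) → L.Normal := by
    intro L hL hHL
    rw [← Subgroup.normalizer_eq_top_iff, eq_top_iff, ← hfrat]
    refine sup_le ?_ hHL
    exact (hNcent.trans (Subgroup.centralizer_le hL)).trans (Subgroup.centralizer_le_normalizer _)
  have hHN : H ≤ Subgroup.normalizer (N : Set G) := by
    rw [Subgroup.normalizer_eq_top]; exact le_top
  have hcomm : ⁅N, QG⁆ = N := by
    have hle : ⁅N, QG⁆ ≤ N :=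
      (Subgroup.commutator_mono le_rfl le_top).trans (Subgroup.commutator_le_left N ⊤)
    refine (hminN _ (hnorm _ hle ?_) hle).resolve_left hcent
    intro x hx
    rw [Subgroup.mem_normalizer_iff_map_conj_eq, Subgroup.map_commutator]
    congr 1
    · exact Subgroup.mem_normalizer_iff_map_conj_eq.mp (hHN hx)
    · exact Subgroup.mem_normalizer_iff_map_conj_eq.mp hx
  have hNH : N ⊓ H = ⊥ := by
    rcases hminN (N ⊓ H) (hnorm _ inf_le_left (fun x hx => by
      rw [Subgroup.mem_normalizer_iff]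
      intro y
      simp only [SetLike.mem_coe, Subgroup.mem_inf]
      exact and_congr (Subgroup.mem_normalizer_iff.mp (hHN hx) y)
        ⟨fun hy => H.mul_mem (H.mul_mem hx hy) (H.inv_mem hx),
          fun hy => by simpa [mul_assoc] using H.mul_mem (H.mul_mem (H.inv_mem hx) hy) hx⟩)) inf_le_left
      with h | h
    · exact h
    · refine absurd ?_ hcent
      rw [eq_bot_iff, ← hdisj, Subgroup.commutator_le]
      intro x hx q hq
      refine ⟨?_, ?_⟩
      · rw [commutatorElement_def, mul_assoc, mul_assoc]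
        exact N.mul_mem hx (by simpa [mul_assoc] using hNn.conj_mem _ (N.inv_mem hx) q)
      · rw [commutatorElement_def]
        exact QG.mul_mem ((Subgroup.mem_normalizer_iff.mp (inf_eq_left.mp h hx) q).mp hq)
          (QG.inv_mem hq)
  -- an inverted character
  obtain ⟨g, μ, hμ, hg⟩ : ∃ (g : G) (μ : N →* ℂˣ), μ ≠ 1 ∧ RealOdd.twh N g μ = μ⁻¹ := by
    by_cases hsq : ∀ x : N, x * x = 1
    · haveI := (Subgroup.nontrivial_iff_ne_bot N).mpr hN1
      obtain ⟨x, hx⟩ := exists_ne (1 : N)
      obtain ⟨μ, hμ⟩ : ∃ μ : N →* ℂˣ, μ x ≠ μ 1 := by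
        by_contra h
        push Not at h
        exact hx (eq_of_forall_hom N hab h)
      refine ⟨1, μ, fun e => hμ (by rw [e]; rfl), ?_⟩
      rw [RealOdd.twh_one]
      refine MonoidHom.ext fun y => ?_
      rw [MonoidHom.inv_apply, eq_inv_iff_mul_eq_one, ← map_mul, hsq, map_one]
    · have h2 : ∀ x ∈ N, x * x = 1 → x = 1 := by
        let L : Subgroup G :=
          { carrier := {x | x ∈ N ∧ x * x = 1}
            one_mem' := ⟨N.one_mem, mul_one 1⟩
            mul_mem' := fun {x y} hx hy => ⟨N.mul_mem hx.1 hy.1, by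
              have hc : x * y = y * x :=
                congrArg (fun z : N => (z : G)) (hab ⟨x, hx.1⟩ ⟨y, hy.1⟩)
              rw [mul_assoc, ← mul_assoc y x y, ← hc, mul_assoc x y y, hy.2, mul_one, hx.2]⟩
            inv_mem' := fun {x} hx => ⟨N.inv_mem hx.1, by rw [← mul_inv_rev, hx.2, inv_one]⟩ }
        haveI : L.Normal := ⟨fun x hx g => ⟨hNn.conj_mem x hx.1 g, by
          have e : g * x * g⁻¹ * (g * x * g⁻¹) = g * (x * x) * g⁻¹ := by group
          rw [e, hx.2, mul_one, mul_inv_cancel]⟩⟩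
        rcases hminN L inferInstance (fun x hx => hx.1) with h | h
        · intro x hx hxx
          exact Subgroup.mem_bot.mp (h ▸ (⟨hx, hxx⟩ : x ∈ L))
        · refine absurd (fun x : N => ?_) hsq
          have hx : (x : G) ∈ L := h.symm ▸ x.2
          exact Subtype.ext hx.2
      obtain ⟨t, k, ht, lam, hlam⟩ : ∃ (t : G) (k : ℕ), orderOf t = 2 ^ k ∧
          ∃ lam : N →* ℂˣ, RealOdd.twh N t lam ≠ lam := by
        by_contra hno
        push Not at hno
        have hKN : K ≤ Subgroup.centralizer (N : Set G) := by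
          refine (Subgroup.closure_le _).mpr fun t ⟨k, hk⟩ => Subgroup.mem_centralizer_iff.mpr fun x hx => ?_
          have := eq_of_forall_hom N hab (a := MulAut.conjNormal (H := N) t ⟨x, hx⟩) (b := ⟨x, hx⟩)
            fun lam => DFunLike.congr_fun (hno t k hk lam) _
          have h3 := congrArg (fun z : N => (z : G)) this
          simp only [MulAut.conjNormal_apply] at h3
          exact (mul_inv_eq_iff_eq_mul.mp h3).symm
        -- then M ⊓ K = N
        have hKQ : QG ⊓ K = ⊥ := by
          by_contra hne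
          refine hA (QG ⊓ K) ?_ hne inf_le_right (hQp.to_le inf_le_left)
          rw [← Subgroup.normalizer_eq_top_iff, eq_top_iff, ← hfrat]
          refine sup_le ?_ ?_
          · refine le_trans ?_ (Subgroup.centralizer_le_normalizer _)
            refine le_trans ?_ (Subgroup.centralizer_le (inf_le_right : QG ⊓ K ≤ K))
            exact Subgroup.le_centralizer_iff.mp hKN
          · intro x hx
            rw [Subgroup.mem_normalizer_iff]
            intro y
            simp only [SetLike.mem_coe, Subgroup.mem_inf]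
            exact and_congr (Subgroup.mem_normalizer_iff.mp hx y)
              ⟨fun hy => hKn.conj_mem y hy x, fun hy => by
                simpa [mul_assoc] using hKn.conj_mem _ hy x⁻¹⟩
        have hMK : ∀ z, z ∈ M → z ∈ K → z ∈ N := by
          intro z hzM hzK
          obtain ⟨x, hx, q, hq, rfl⟩ := Subgroup.mem_sup_of_normal_left.mp (hsupM.symm ▸ hzM)
          have hqK : q ∈ K := by simpa using K.mul_mem (K.inv_mem (hNK hx)) hzK
          have : q ∈ (⊥ : Subgroup G) := hKQ ▸ ⟨hq, hqK⟩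
          rw [Subgroup.mem_bot.mp this, mul_one]
          exact hx
        have hKQc : K ≤ Subgroup.centralizer (QG : Set G) := by
          refine (Subgroup.closure_le _).mpr fun t ⟨k, hk⟩ => Subgroup.mem_centralizer_iff.mpr fun q hq => ?_
          have htK : t ∈ K := mem_genPow hk
          set d := t⁻¹ * (q * t * q⁻¹) with hd
          have hdN : d ∈ N := hMK d
            (by
              rw [hd, show t⁻¹ * (q * t * q⁻¹) = t⁻¹ * q * t * q⁻¹ by group]
              exact M.mul_mem (by simpa using hMn.conj_mem q (hQM hq) t⁻¹) (M.inv_mem (hQM hq)))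
            (K.mul_mem (K.inv_mem htK) (hKn.conj_mem t htK q))
          have hcomm' : Commute t d := (Subgroup.mem_centralizer_iff.mp (hKN htK) d hdN).symm
          have hdk : d ^ 2 ^ k = 1 := by
            have h4 : (t * d) ^ 2 ^ k = 1 := by
              rw [hd, mul_inv_cancel_left, conj_pow, ← hk, pow_orderOf_eq_one, mul_one, mul_inv_cancel]
            rwa [hcomm'.mul_pow, ← hk, pow_orderOf_eq_one, one_mul, hk] at h4
          have hd1 : ∀ j, ∀ x ∈ N, x ^ 2 ^ j = 1 → x = 1 := by
            intro j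
            induction j with
            | zero => intro x _ h; simpa using h
            | succ j ihj =>
              intro x hx h
              rw [pow_succ', pow_mul, pow_two] at h
              exact h2 x hx (ihj _ (N.mul_mem hx hx) h)
          have h5 := hd1 k d hdN hdk
          rw [hd, inv_mul_eq_one, eq_comm, mul_inv_eq_iff_eq_mul] at h5
          exact h5
        refine hcent ?_
        rw [Subgroup.commutator_eq_bot_iff_le_centralizer]
        exact hNK.trans hKQc
      exact exists_inverted N k t (by rw [← ht, pow_orderOf_eq_one]) ⟨lam, hlam⟩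
  refine not_hyp_of_complement (p := p) N H hab hNH hfrat M hNM ⟨c, hc⟩ μ g hg ?_ hyp
  intro hMT
  apply hμ
  ext x
  have hle : ⁅N, QG⁆ ≤ μ.ker.map N.subtype := by
    rw [Subgroup.commutator_le]
    intro a ha q hq
    have h1 : MulAut.conjNormal (H := N) q ⟨a, ha⟩⁻¹ ∈ (⊤ : Subgroup N) := Subgroup.mem_top _
    refine ⟨⟨a, ha⟩ * MulAut.conjNormal (H := N) q ⟨a, ha⟩⁻¹, ?_, ?_⟩
    · rw [SetLike.mem_coe, MonoidHom.mem_ker, map_mul]
      have h2 : μ (MulAut.conjNormal (H := N) q ⟨a, ha⟩⁻¹) = μ ⟨a, ha⟩⁻¹ :=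
        DFunLike.congr_fun ((RealOdd.mem_stab N).mp (hMT (hQM hq))) _
      rw [h2, ← map_mul, mul_inv_cancel, map_one]
    · simp only [Subgroup.coe_subtype, Subgroup.coe_mul, MulAut.conjNormal_apply,
        InvMemClass.coe_inv, commutatorElement_def]
      group
  rw [hcomm] at hle
  obtain ⟨y, hy, hyx⟩ := hle x.2
  rw [← Subtype.ext hyx]
  simp [MonoidHom.mem_ker.mp hy]

end H25.RealP
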