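import Cfsg.Agent.H20.DefectApps
import Cfsg.Agent.H20.FirstMain
import Cfsg.Agent.H20.Orth
import Cfsg.Agent.H21.StabDefect
import Cfsg.Agent.H24.CharBasic
import Cfsg.Agent.H24.Quot
import Cfsg.Agent.H24.DefectZero
import Cfsg.Agent.H25.RankMap

/-!
# Robinson's matrix for blocks with a normal defect group
-/

set_option autoImplicit false
set_option linter.style.haveILetI false
set_option linter.unusedSectionVars false

open Cfsg
open scoped ComplexConjugate

namespace H25

namespace Robinson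

universe u

variable {G : Type u} [Group G] [Fintype G] {p : ℕ} [hp : Fact p.Prime] {M : Ideal AlgInt}
  [M.IsPrime] {D : Subgroup G} [hDn : D.Normal]

/-- The `p`-exponent of the centraliser of a class in the family. -/
theorem factorization_centralizer {y : G} (hy : H20.IsSylC p y D) :
    (Nat.card (Subgroup.centralizer ({y} : Set G))).factorization p = (Nat.card D).factorization p := by
  rw [H20.IsSylC.card hy, hp.out.factorization_pow, Finsupp.single_eq_same]

theorem index_factorization {y : G} (hy : H20.IsSylC p y D) :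
    (Subgroup.centralizer ({y} : Set G)).index.factorization p =
      (Nat.card G).factorization p - (Nat.card D).factorization p := by
  have h := (Subgroup.centralizer ({y} : Set G)).card_mul_index
  rw [← factorization_centralizer hy, ← h, Nat.factorization_mul Nat.card_pos.ne'
    Subgroup.index_ne_zero_of_finite, Finsupp.add_apply, Nat.add_sub_cancel_left]

theorem card_le_sylC {y : G} {R : Subgroup G} (hR : H20.IsSylC p y R) {Q : Subgroup G}
    (hQ : IsPGroup p Q) (hQC : Q ≤ Subgroup.centralizer ({y} : Set G)) : Nat.card Q ≤ Nat.card R := by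
  rw [H20.IsSylC.card hR]
  obtain ⟨j, hj⟩ := IsPGroup.iff_card.1 hQ
  rw [hj]
  refine Nat.pow_le_pow_right hp.out.pos ?_
  rw [← hp.out.pow_dvd_iff_le_factorization Nat.card_pos.ne', ← hj]
  exact Subgroup.card_dvd_of_le hQC

theorem le_of_isSylC_normal {y : G} (hy : H20.IsSylC p y D) (hD : IsPGroup p D) {R : Subgroup G}
    (hR : IsPGroup p R) (hyR : y ∈ Subgroup.centralizer (R : Set G)) : R ≤ D := by
  have hle : R ⊔ D ≤ Subgroup.centralizer ({y} : Set G) := by
    refine sup_le ?_ ?_
    · intro r hr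
      rw [Subgroup.mem_centralizer_singleton_iff]
      exact hyR r hr
    · intro r hr
      rw [Subgroup.mem_centralizer_singleton_iff]
      exact H20.IsSylC.mem_centralizer hy r hr
  have hc := card_le_sylC hy (IsPGroup.to_sup_of_normal_right hR hD) hle
  have := Subgroup.eq_of_le_of_card_ge (le_sup_right (a := R) (b := D)) hc
  exact this ▸ le_sup_left

theorem conjSub_normal (x : G) : H20.conjSub x D = D := by
  apply Subgroup.eq_of_le_of_card_ge
  · rintro _ ⟨d, hd, rfl⟩
    exact hDn.conj_mem d hd x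
  · rw [H20.card_conjSub]

/-- A block whose central character is nonzero on a class of the family has defect group `D`. -/
theorem isDefectGroup_of_lam_ne_zero (hM : IsPModular p M) (hD : IsPGroup p D)
    {B : Set (IrrCharacter G)} (hB : IsPBlock M B) {χ : IrrCharacter G} (hχ : χ ∈ B) {y : G}
    (hy : H20.IsSylC p y D) (hl : H20.lam M χ (H20.clSum (H20.k M) y) ≠ 0) :
    IsDefectGroup p M B D := by
  obtain ⟨P, hP⟩ := H20.exists_defectGroup hM hB
  obtain ⟨h', hyh, hcen⟩ := H20.defectGroup_le_sylC hM hB hP hχ hl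
  obtain ⟨c, hc⟩ := isConj_iff.1 hyh
  have hy' : H20.IsSylC p h' D := by
    have := H20.IsSylC.conj hy c
    rwa [hc, conjSub_normal] at this
  have h1 : P ≤ D := le_of_isSylC_normal hy' hD (H20.IsDefectGroup.isPGroup hP) hcen
  have h2 : D ≤ P := H20.normal_le_defectGroup hM hB hD hP
  rwa [le_antisymm h1 h2] at hP

/-- The idempotent of a block with defect group `D` lives on the family. -/
theorem sylC_of_coeff_ne_zero (hM : IsPModular p M) (hD : IsPGroup p D)
    {B : Set (IrrCharacter G)} (hB : IsPBlock M B) (hBD : IsDefectGroup p M B D) {g : G}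
    (he : (H20.eRed M B).coeff g ≠ 0) : ¬ p ∣ orderOf g ∧ H20.IsSylC p g D := by
  have hgC : g ∈ Subgroup.centralizer (D : Set G) := by
    by_contra h
    apply he
    rw [← H20.coeff_eRed_of_notMem_centralizer hM hD hB, H20.coeff_br_of_notMem _ h]
  refine ⟨H20.regular_of_coeff_ne_zero hM hB he, ?_⟩
  obtain ⟨R, hR⟩ := H20.exists_isSylC p g
  obtain ⟨x, hx⟩ := H20.sylC_le_defectGroup hM hB hBD he (H20.IsSylC.isPGroup hR)
    (H20.IsSylC.mem_centralizer hR)
  rw [conjSub_normal] at hx
  have hDC : D ≤ Subgroup.centralizer ({g} : Set G) := by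
    intro r hr
    rw [Subgroup.mem_centralizer_singleton_iff]
    exact hgC r hr
  have := Subgroup.eq_of_le_of_card_ge hx (card_le_sylC hR hD hDC)
  rwa [this] at hR

theorem blockDefect_eq_of_isDefectGroup (hM : IsPModular p M) {B : Set (IrrCharacter G)}
    (hB : IsPBlock M B) (hBD : IsDefectGroup p M B D) :
    blockDefect p B = (Nat.card D).factorization p := by
  rw [H20.card_defectGroup hM hB hBD, hp.out.factorization_pow, Finsupp.single_eq_same]

theorem charDegree_dvd_index {χ : IrrCharacter G} (h : D ≤ H24.kerChar χ) :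
    charDegree (χ : G → ℂ) ∣ D.index := by
  obtain ⟨ψ, hψ⟩ := H24.exists_deflate D χ h
  haveI : Fintype (G ⧸ D) := Fintype.ofFinite _
  rw [← hψ, H24.charDegree_inflate, Subgroup.index_eq_card]
  exact H12.irr_degree_dvd_card ψ

theorem factorization_index_normal :
    D.index.factorization p = (Nat.card G).factorization p - (Nat.card D).factorization p := by
  rw [← D.card_mul_index, Nat.factorization_mul Nat.card_pos.ne'
    Subgroup.index_ne_zero_of_finite, Finsupp.add_apply, Nat.add_sub_cancel_left]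

/-- Where the averaged sum over `S` is nonzero the normal subgroup is in the kernel. -/
theorem le_ker_of_sum_ne_zero {S : Subgroup G} (hDS : D ≤ S) [Fintype S] (χ : IrrCharacter G)
    (h : ∑ s : S, (χ : G → ℂ) s ≠ 0) : D ≤ H24.kerChar χ := by
  classical
  by_contra hle
  apply h
  haveI := Fintype.ofFinite D
  let f : G → ℂ := fun x => if x ∈ D then 1 else 0
  have hf : IsClassFunction G f := fun x c => by
    refine if_congr ⟨fun hx => ?_, fun hx => hDn.conj_mem x hx c⟩ rfl rfl
    simpa [mul_assoc] using hDn.conj_mem _ hx c⁻¹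
  have hz : ∀ y : G, ∑ d : D, (χ : G → ℂ) ((d : G) * y) = 0 := by
    intro y
    have hh := H21.sum_mul_shift χ f hf y
    simp only [f, ite_mul, one_mul, zero_mul, ← Finset.sum_filter] at hh
    rw [Finset.sum_subtype (Finset.univ.filter fun x : G => x ∈ D) (p := fun x => x ∈ D) (by simp),
      Finset.sum_subtype (Finset.univ.filter fun x : G => x ∈ D) (p := fun x => x ∈ D) (by simp)] at hh
    rw [hh, H24.sum_normal_eq_zero χ D hle, zero_div, zero_mul]
  have hdouble : ∑ d : D, ∑ s : S, (χ : G → ℂ) ((d : G) * s) =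
      (Nat.card D : ℂ) * ∑ s : S, (χ : G → ℂ) s := by
    rw [Finset.sum_congr rfl (fun (d : ↥D) _ => Fintype.sum_equiv (Equiv.mulLeft (⟨d, hDS d.2⟩ : S))
      (fun s : S => (χ : G → ℂ) ((d : G) * s)) (fun s : S => (χ : G → ℂ) s) fun s => rfl),
      Finset.sum_const, Finset.card_univ, ← Nat.card_eq_fintype_card, nsmul_eq_mul]
  rw [Finset.sum_comm, Finset.sum_eq_zero fun (s : ↥S) _ => hz (s : G)] at hdouble
  exact (mul_eq_zero.1 hdouble.symm).resolve_left (Nat.cast_ne_zero.2 Nat.card_pos.ne')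

theorem sum_eq_of_top_degree (hM : IsPModular p M) {S : Subgroup G} (hDS : D ≤ S) [Fintype S]
    (hS : IsPGroup p S) (χ : IrrCharacter G) (hker : D ≤ H24.kerChar χ)
    (hv : (charDegree (χ : G → ℂ)).factorization p =
      (Nat.card G).factorization p - (Nat.card D).factorization p) :
    ∑ s : S, (χ : G → ℂ) s = (Nat.card D : ℂ) * (χ : G → ℂ) 1 := by
  classical
  haveI := Fintype.ofFinite D
  obtain ⟨ψ, hψ⟩ := H24.exists_deflate D χ hker
  haveI : Fintype (G ⧸ D) := Fintype.ofFinite _
  have hdz : (charDegree (ψ : G ⧸ D → ℂ)).factorization p = (Nat.card (G ⧸ D)).factorization p := by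
    rw [← H24.charDegree_inflate D ψ, hψ, hv, ← Subgroup.index_eq_card, factorization_index_normal]
  have hval : ∀ s : S, (χ : G → ℂ) s = if (s : G) ∈ D then (χ : G → ℂ) 1 else 0 := by
    intro s
    split_ifs with hs
    · exact H24.mem_kerChar.1 (hker hs)
    · rw [← hψ, H24.inflate_apply]
      refine H24.vanish_of_defect_zero hM ψ hdz _ (fun h1 => hs ((QuotientGroup.eq_one_iff _).1 h1)) ?_
      obtain ⟨i, hi⟩ := hS s
      refine ⟨i, ?_⟩
      have h1 : (s : G) ^ p ^ i = 1 := by simpa using congrArg Subtype.val hi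
      rw [← QuotientGroup.mk_pow, h1, QuotientGroup.mk_one]
  simp only [hval, ← Finset.sum_filter, Finset.sum_const, nsmul_eq_mul]
  congr 2
  rw [Nat.card_eq_fintype_card, ← Finset.card_univ]
  refine Finset.card_bij (fun s hs => ⟨(s : G), (Finset.mem_filter.1 hs).2⟩) (fun _ _ => Finset.mem_univ _)
    (fun a _ b _ h => Subtype.ext (congrArg Subtype.val h :)) fun d _ =>
      ⟨⟨d, hDS d.2⟩, Finset.mem_filter.2 ⟨Finset.mem_univ _, d.2⟩, rfl⟩

/-- The squares of the degrees of the members trivial on `D`. -/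
theorem sum_sq_trivial_on (hM : IsPModular p M) (hD : IsPGroup p D) {B : Set (IrrCharacter G)}
    (hB : IsPBlock M B) [DecidablePred (· ∈ B)] :
    (Nat.card D : ℂ) * ∑ χ : IrrCharacter G,
      (open Classical in if χ ∈ B ∧ D ≤ H24.kerChar χ then (χ : G → ℂ) 1 * (χ : G → ℂ) 1 else 0) =
      (H21.sqSum B : ℂ) := by
  classical
  haveI := Fintype.ofFinite D
  have hz : ∀ d : D, d ≠ 1 → ∑ χ : IrrCharacter G,
      (if χ ∈ B then (χ : G → ℂ) 1 * conj ((χ : G → ℂ) d) else 0) = 0 := by
    intro d hd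
    obtain ⟨j, hj⟩ := IsPGroup.iff_orderOf.1 hD d
    have hj0 : j ≠ 0 := fun h0 => hd (orderOf_eq_one_iff.1 (by rw [hj, h0, pow_zero]))
    have h := H20.weak_orthogonality hM hB (x := (1 : G)) (y := (d : G))
      (by rw [orderOf_one]; exact hp.out.not_dvd_one)
      (by rw [Subgroup.orderOf_coe, hj]; exact dvd_pow_self p hj0)
    rw [← Finset.sum_filter, ← finsum_mem_coe_finset]
    rw [show ((Finset.univ.filter fun χ : IrrCharacter G => χ ∈ B : Finset _) : Set (IrrCharacter G)) = B
      by ext; simp]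
    exact h
  have hsum : ∀ χ : IrrCharacter G, ∑ d : D, conj ((χ : G → ℂ) d) =
      if D ≤ H24.kerChar χ then (Nat.card D : ℂ) * (χ : G → ℂ) 1 else 0 := by
    intro χ
    rw [← map_sum]
    split_ifs with h
    · rw [Finset.sum_congr rfl fun (d : ↥D) _ => H24.mem_kerChar.1 (h d.2), Finset.sum_const,
        Finset.card_univ, ← Nat.card_eq_fintype_card, nsmul_eq_mul, map_mul, map_natCast,
        H12.irr_apply_one, map_natCast]
    · rw [H24.sum_normal_eq_zero χ D h, map_zero]
  calc (Nat.card D : ℂ) * ∑ χ : IrrCharacter G,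
        (if χ ∈ B ∧ D ≤ H24.kerChar χ then (χ : G → ℂ) 1 * (χ : G → ℂ) 1 else 0)
      = ∑ χ : IrrCharacter G, (if χ ∈ B then (χ : G → ℂ) 1 * ∑ d : D, conj ((χ : G → ℂ) d) else 0) := by
        rw [Finset.mul_sum]
        refine Finset.sum_congr rfl fun χ _ => ?_
        rw [hsum]
        by_cases h1 : χ ∈ B <;> by_cases h2 : D ≤ H24.kerChar χ <;> simp [h1, h2, mul_left_comm]
    _ = ∑ d : D, ∑ χ : IrrCharacter G,
        (if χ ∈ B then (χ : G → ℂ) 1 * conj ((χ : G → ℂ) d) else 0) := by
        rw [Finset.sum_comm]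
        refine Finset.sum_congr rfl fun χ _ => ?_
        split_ifs
        · rw [Finset.mul_sum]
        · simp
    _ = ∑ χ : IrrCharacter G, (if χ ∈ B then (χ : G → ℂ) 1 * conj ((χ : G → ℂ) (1 : G)) else 0) := by
        rw [Finset.sum_eq_single (1 : D) (fun d _ hd => hz d hd) (by simp)]
        rfl
    _ = (H21.sqSum B : ℂ) := by
        rw [H21.cast_sqSum]
        refine Finset.sum_congr rfl fun χ _ => ?_
        rw [H12.irr_apply_one, map_natCast]

theorem memRing_centralChar_part (hM : IsPModular p M) (χ : IrrCharacter G) {y : G}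
    (hy : H20.IsSylC p y D)
    (hle : (charDegree (χ : G → ℂ)).factorization p ≤
      (Nat.card G).factorization p - (Nat.card D).factorization p) :
    ∃ w : ℂ, MemLocalRing M w ∧ centralChar (χ : G → ℂ) y =
      (p : ℂ) ^ ((Nat.card G).factorization p - (Nat.card D).factorization p -
        (charDegree (χ : G → ℂ)).factorization p) * w := by
  set E := (Nat.card G).factorization p - (Nat.card D).factorization p with hE
  set v := (charDegree (χ : G → ℂ)).factorization p with hv
  set K := (Subgroup.centralizer ({y} : Set G)).index with hK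
  set f := charDegree (χ : G → ℂ) with hf
  have hf0 : f ≠ 0 := (H12.irr_degree_pos χ).ne'
  refine ⟨((K / p ^ E : ℕ) : ℂ) * (χ : G → ℂ) y * ((f / p ^ v : ℕ) : ℂ)⁻¹, ?_, ?_⟩
  · refine H20.memRing_mul (H20.memRing_mul (H20.memRing_natCast _)
      (H20.memRing_of_isIntegral (H12.IsCharacter.isIntegral (H12.isCharacter_irr χ) y)))
      (H20.inv_natCast_memRing hM ?_)
    exact Nat.not_dvd_ordCompl hp.out hf0
  · have hKd : p ^ E ∣ K := by
      rw [hE, ← index_factorization hy]
      exact Nat.ordProj_dvd _ _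
    have hfd : p ^ v ∣ f := Nat.ordProj_dvd _ _
    have hp0 : (p : ℂ) ≠ 0 := Nat.cast_ne_zero.2 hp.out.ne_zero
    have h1 : (K : ℂ) = (p : ℂ) ^ E * ((K / p ^ E : ℕ) : ℂ) := by
      rw [← Nat.cast_pow, ← Nat.cast_mul, Nat.mul_div_cancel' hKd]
    have h2 : (f : ℂ) = (p : ℂ) ^ v * ((f / p ^ v : ℕ) : ℂ) := by
      rw [← Nat.cast_pow, ← Nat.cast_mul, Nat.mul_div_cancel' hfd]
    have hf1 : (χ : G → ℂ) 1 = (f : ℂ) := H12.irr_apply_one χ
    unfold centralChar
    rw [← hK, hf1, h1, h2, pow_sub₀ _ hp0 hle]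
    have hne : ((f / p ^ v : ℕ) : ℂ) ≠ 0 := by
      intro h0
      rw [h0, mul_zero] at h2
      exact hf0 (by exact_mod_cast h2)
    field_simp

end Robinson

open Robinson in
/-- Robinson: blocks with normal defect group `D` are counted by the rank of a matrix mod `p`. -/
theorem robinson_rank {G : Type*} [Group G] [Fintype G] {p : ℕ} [hp : Fact p.Prime]
    (M : Ideal AlgInt) (hM : IsPModular p M) (D : Subgroup G) [hDn : D.Normal] (hD : IsPGroup p D)
    (S : Sylow p G) {ι : Type*} [Fintype ι] [DecidableEq ι] (K : ι → ConjClasses G)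
    (hKinj : Function.Injective K)
    (hK : ∀ C : ConjClasses G, (∃ i, K i = C) ↔
      ∃ x ∈ C.carrier, ¬ p ∣ orderOf x ∧ H20.IsSylC p x D) :
    (∀ i j : ι, p ^ ((Nat.card G).factorization p - (Nat.card D).factorization p) ∣
      Nat.card {yz : G × G // yz.1 ∈ (K i).carrier ∧ yz.2 ∈ (K j).carrier ∧
        yz.2 * yz.1⁻¹ ∈ (S : Subgroup G)}) ∧
    Nat.card {B : Set (IrrCharacter G) // IsPBlock M B ∧ IsDefectGroup p M B D} =
      (Matrix.of fun i j : ι => ((Nat.card {yz : G × G // yz.1 ∈ (K i).carrier ∧ yz.2 ∈ (K j).carrier ∧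
        yz.2 * yz.1⁻¹ ∈ (S : Subgroup G)} /
          p ^ ((Nat.card G).factorization p - (Nat.card D).factorization p) : ℕ) : ZMod p)).rank := by
  classical
  haveI := H20.isPrime_of_modular hM
  haveI := H20.k_charP hM
  haveI := Fintype.ofFinite (ConjClasses G)
  haveI := Fintype.ofFinite ↥(S : Subgroup G)
  set a := (Nat.card G).factorization p with ha
  set d := (Nat.card D).factorization p with hd
  set E := a - d with hE
  have hcardD : Nat.card D = p ^ d := by
    obtain ⟨j, hj⟩ := IsPGroup.iff_card.1 hD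
    rw [hd, hj, hp.out.factorization_pow, Finsupp.single_eq_same]
  have hcardS : Nat.card (S : Subgroup G) = p ^ a := S.card_eq_multiplicity
  have hda : d ≤ a :=
    (Nat.factorization_le_iff_dvd Nat.card_pos.ne' Nat.card_pos.ne').2 D.card_subgroup_dvd_card p
  have hDS : D ≤ (S : Subgroup G) := by
    obtain ⟨T, hT⟩ := IsPGroup.exists_le_sylow hD
    obtain ⟨g, hg⟩ := MulAction.exists_smul_eq G T S
    rw [← hg]
    intro x hx
    rw [Sylow.coe_subgroup_smul]
    refine ⟨g⁻¹ * x * g, hT (by simpa using hDn.conj_mem x hx g⁻¹), ?_⟩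
    simp [MulAut.conj_apply, mul_assoc]
  have hp0 : (p : ℂ) ≠ 0 := Nat.cast_ne_zero.2 hp.out.ne_zero
  have hG0 : (Nat.card G : ℂ) ≠ 0 := Nat.cast_ne_zero.2 Nat.card_pos.ne'
  set g' := Nat.card G / p ^ a with hg'
  have hgG : (Nat.card G : ℂ) = (p : ℂ) ^ a * (g' : ℂ) := by
    rw [← Nat.cast_pow, ← Nat.cast_mul, Nat.mul_div_cancel' (Nat.ordProj_dvd _ _)]
  have hg'p : ¬ p ∣ g' := Nat.not_dvd_ordCompl hp.out Nat.card_pos.ne'
  -- representatives
  let x : ι → G := fun i => (K i).out
  have hxK : ∀ i, ConjClasses.mk (x i) = K i := fun i => Quotient.out_eq _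
  have hx : ∀ i, ¬ p ∣ orderOf (x i) ∧ H20.IsSylC p (x i) D := by
    intro i
    obtain ⟨y, hy, hreg, hsyl⟩ := (hK (K i)).1 ⟨i, rfl⟩
    rw [ConjClasses.mem_carrier_iff_mk_eq, ← hxK, ConjClasses.mk_eq_mk_iff_isConj] at hy
    obtain ⟨c, hc⟩ := isConj_iff.1 hy
    refine ⟨?_, ?_⟩
    · rw [← hc]
      rw [show c * y * c⁻¹ = MulAut.conj c y from rfl, MulEquiv.orderOf_eq]
      exact hreg
    · have h2 := H20.IsSylC.conj hsyl c
      rwa [hc, conjSub_normal] at h2
  -- the inversion
  have hinv : ∀ i, ∃ i', K i' = ConjClasses.mk (x i)⁻¹ := fun i => (hK _).2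
    ⟨(x i)⁻¹, ConjClasses.mem_carrier_iff_mk_eq.2 rfl, by rw [orderOf_inv]; exact (hx i).1, by
      have hc : Subgroup.centralizer ({(x i)⁻¹} : Set G) = Subgroup.centralizer ({x i} : Set G) := by
        ext z
        simp only [Subgroup.mem_centralizer_singleton_iff]
        exact ⟨fun h => by simpa using (show Commute z (x i)⁻¹ from h).inv_right.eq,
          fun h => (show Commute z (x i) from h).inv_right.eq⟩
      have h2 := (hx i).2
      unfold H20.IsSylC at h2 ⊢
      rw [hc]
      exact h2⟩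
  choose σ hσ using hinv
  have hσc : ∀ i, IsConj (x (σ i)) (x i)⁻¹ := fun i =>
    ConjClasses.mk_eq_mk_iff_isConj.1 ((hxK _).trans (hσ i))
  have hσσ : ∀ i, σ (σ i) = i := by
    intro i
    apply hKinj
    rw [hσ, ← hxK i, ConjClasses.mk_eq_mk_iff_isConj]
    obtain ⟨c, hc⟩ := isConj_iff.1 (hσc i)
    exact isConj_iff.2 ⟨c, by rw [← inv_inv (x i), ← hc]; group⟩
  let σe : ι ≃ ι := ⟨σ, σ, hσσ, hσσ⟩
  have hcc : ∀ (χ : IrrCharacter G) i,
      centralChar (χ : G → ℂ) (x (σ i)) = centralChar (χ : G → ℂ) (x i)⁻¹ := by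
    intro χ i
    obtain ⟨c, hc⟩ := isConj_iff.1 (hσc i)
    rw [← hc]
    unfold centralChar
    rw [H12.irr_isClassFunction χ (x (σ i)) c]
    congr 2
    rw [H20.index_centralizer_eq_card_class, H20.index_centralizer_eq_card_class]
    have h1 : IsConj (x (σ i)) (c * x (σ i) * c⁻¹) := isConj_iff.2 ⟨c, rfl⟩
    exact congrArg _ (Nat.card_congr (Equiv.subtypeEquivRight fun z =>
      ⟨fun h => h1.symm.trans h, fun h => h1.trans h⟩))
  -- the multiplicities
  have hm : ∀ χ : IrrCharacter G, ∃ m : ℕ,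
      ∑ s : ↥(S : Subgroup G), (χ : G → ℂ) s = (Nat.card (S : Subgroup G) : ℂ) * m :=
    fun χ => H24.sum_subgroup_eq (H12.isCharacter_irr χ) _
  choose m hm using hm
  let t : IrrCharacter G → ι → ι → ℂ := fun χ i j =>
    centralChar (χ : G → ℂ) (x (σ i)) * centralChar (χ : G → ℂ) (x j) *
      ((χ : G → ℂ) 1 * (m χ : ℂ) * (Nat.card D : ℂ) / (Nat.card G : ℂ))
  let N : ι → ι → ℕ := fun i j => Nat.card {yz : G × G // yz.1 ∈ (K i).carrier ∧
    yz.2 ∈ (K j).carrier ∧ yz.2 * yz.1⁻¹ ∈ (S : Subgroup G)}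
  have hmem : ∀ (i : ι) (y : G), y ∈ (K i).carrier ↔ IsConj (x i) y := fun i y => by
    rw [ConjClasses.mem_carrier_iff_mk_eq, ← hxK, ConjClasses.mk_eq_mk_iff_isConj]
    exact ⟨IsConj.symm, IsConj.symm⟩
  have hN : ∀ i j, (N i j : ℂ) = (p : ℂ) ^ E * ∑ χ : IrrCharacter G, t χ i j := by
    intro i j
    have hfib : N i j = ∑ u : ↥(S : Subgroup G), H24.classMult (x j) (x i)⁻¹ (u : G) := by
      simp only [N, H24.classMult]
      rw [← Nat.card_sigma]
      refine Nat.card_congr
        { toFun := fun yz => ⟨⟨yz.1.2 * yz.1.1⁻¹, yz.2.2.2⟩, ⟨(yz.1.2, yz.1.1⁻¹), (hmem j _).1 yz.2.2.1,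
            by
              obtain ⟨c, hc⟩ := isConj_iff.1 ((hmem i _).1 yz.2.1)
              exact isConj_iff.2 ⟨c, by rw [← hc]; group⟩, rfl⟩⟩
          invFun := fun q => ⟨(q.2.1.2⁻¹, q.2.1.1), (hmem i _).2 (by
              obtain ⟨c, hc⟩ := isConj_iff.1 q.2.2.2.1
              exact isConj_iff.2 ⟨c, by rw [← hc]; group⟩), (hmem j _).2 q.2.2.1, by
              rw [inv_inv, q.2.2.2.2]; exact q.1.2⟩
          left_inv := fun yz => Subtype.ext (by simp)
          right_inv := fun q => Sigma.subtype_ext (Subtype.ext (by simpa using q.2.2.2.2))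
            (by simp) }
    have h1 : (N i j : ℂ) * (Nat.card G : ℂ) =
        ((Subgroup.centralizer ({x j} : Set G)).index : ℂ) *
        ((Subgroup.centralizer ({(x i)⁻¹} : Set G)).index : ℂ) *
        ∑ χ : IrrCharacter G, (χ : G → ℂ) (x j) * (χ : G → ℂ) (x i)⁻¹ *
          ((Nat.card (S : Subgroup G) : ℂ) * m χ) / (χ : G → ℂ) 1 := by
      rw [hfib, Nat.cast_sum, Finset.sum_mul, Finset.sum_congr rfl fun u _ => H24.classMult_eq _ _ _,
        ← Finset.mul_sum]
      congr 1
      rw [Finset.sum_comm]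
      refine Finset.sum_congr rfl fun χ _ => ?_
      rw [← Finset.sum_div, ← Finset.mul_sum, ← map_sum, hm, map_mul, map_natCast, map_natCast]
    rw [← mul_left_inj' hG0, h1, Finset.mul_sum, Finset.mul_sum, Finset.sum_mul]
    refine Finset.sum_congr rfl fun χ _ => ?_
    simp only [t, hcc]
    have hS' : (Nat.card (S : Subgroup G) : ℂ) = (p : ℂ) ^ E * (Nat.card D : ℂ) := by
      rw [hcardS, hcardD, Nat.cast_pow, Nat.cast_pow, ← pow_add, hE, Nat.sub_add_cancel hda]
    rw [hS']
    unfold centralChar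
    field_simp [H12.irr_apply_one_ne_zero χ]
  -- each term
  have hterm : ∀ χ : IrrCharacter G, ∀ i j, MemLocalRing M (t χ i j) ∧
      (¬ (D ≤ H24.kerChar χ ∧ (charDegree (χ : G → ℂ)).factorization p = E) →
        H20.redC M (t χ i j) = 0) ∧
      ((D ≤ H24.kerChar χ ∧ (charDegree (χ : G → ℂ)).factorization p = E) →
        MemLocalRing M ((χ : G → ℂ) 1 * (χ : G → ℂ) 1 * (Nat.card D : ℂ) /
          ((Nat.card G : ℂ) * (p : ℂ) ^ E)) ∧
        H20.redC M (t χ i j) =
          H20.redC M (centralChar (χ : G → ℂ) (x (σ i))) * H20.redC M (centralChar (χ : G → ℂ) (x j)) *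
          H20.redC M ((χ : G → ℂ) 1 * (χ : G → ℂ) 1 * (Nat.card D : ℂ) /
            ((Nat.card G : ℂ) * (p : ℂ) ^ E))) := by
    intro χ i j
    set f := charDegree (χ : G → ℂ) with hf
    set v := f.factorization p with hv
    have hf0 : f ≠ 0 := (H12.irr_degree_pos χ).ne'
    have hf1 : (χ : G → ℂ) 1 = (f : ℂ) := H12.irr_apply_one χ
    set f' := f / p ^ v with hf'
    have hff : (f : ℂ) = (p : ℂ) ^ v * (f' : ℂ) := by
      rw [← Nat.cast_pow, ← Nat.cast_mul, Nat.mul_div_cancel' (Nat.ordProj_dvd _ _)]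
    have hg'0 : (g' : ℂ) ≠ 0 := by
      intro h0
      rw [h0, mul_zero] at hgG
      exact hG0 hgG
    by_cases hker : D ≤ H24.kerChar χ
    · have hvE : v ≤ E := by
        rw [hv, hE, ha, hd, ← factorization_index_normal (D := D)]
        exact (Nat.factorization_le_iff_dvd hf0 Subgroup.index_ne_zero_of_finite).2
          (charDegree_dvd_index hker) p
      obtain ⟨w₁, hw₁, he₁⟩ := memRing_centralChar_part hM χ (hx (σ i)).2 hvE
      obtain ⟨w₂, hw₂, he₂⟩ := memRing_centralChar_part hM χ (hx j).2 hvE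
      rw [← hf, ← hv, ← ha, ← hd, ← hE] at he₁ he₂
      set r := w₁ * w₂ * ((f' : ℂ) * (m χ : ℂ) * (g' : ℂ)⁻¹) with hr
      have hrO : MemLocalRing M r := H20.memRing_mul (H20.memRing_mul hw₁ hw₂)
        (H20.memRing_mul (H20.memRing_mul (H20.memRing_natCast _) (H20.memRing_natCast _))
          (H20.inv_natCast_memRing hM hg'p))
      have htr : t χ i j = ((p ^ (E - v) : ℕ) : ℂ) * r := by
        simp only [t, he₁, he₂, hf1, hff, hgG, hcardD, hr, Nat.cast_pow]
        have hpa : (p : ℂ) ^ a = (p : ℂ) ^ (E - v) * (p : ℂ) ^ v * (p : ℂ) ^ d := by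
          rw [← pow_add, ← pow_add]
          congr 1
          omega
        rw [hpa]
        field_simp
      refine ⟨htr ▸ H20.memRing_mul (H20.memRing_natCast _) hrO, fun hnot => ?_, fun hyes => ?_⟩
      · have hlt : v < E := lt_of_le_of_ne hvE fun h => hnot ⟨hker, h⟩
        rw [htr, H20.redC_mul (H20.memRing_natCast _) hrO, H20.redC_natCast, Nat.cast_pow,
          CharP.cast_eq_zero, zero_pow (by omega), zero_mul]
      · have hsum := sum_eq_of_top_degree hM hDS S.2 χ hker (by rw [← hf, ← hv]; exact hyes.2)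
        rw [hm, hcardS, hcardD, hf1, Nat.cast_pow, Nat.cast_pow,
          show a = d + E by omega, pow_add, mul_assoc] at hsum
        have hmm : (p : ℂ) ^ E * (m χ : ℂ) = (f : ℂ) := mul_left_cancel₀ (pow_ne_zero _ hp0) hsum
        have hu : (χ : G → ℂ) 1 * (m χ : ℂ) * (Nat.card D : ℂ) / (Nat.card G : ℂ) =
            (χ : G → ℂ) 1 * (χ : G → ℂ) 1 * (Nat.card D : ℂ) / ((Nat.card G : ℂ) * (p : ℂ) ^ E) := by
          rw [hf1, eq_div_iff (mul_ne_zero hG0 (pow_ne_zero _ hp0)), div_mul_eq_mul_div,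
            div_eq_iff hG0, ← hmm]
          ring
        have huO : MemLocalRing M ((χ : G → ℂ) 1 * (χ : G → ℂ) 1 * (Nat.card D : ℂ) /
            ((Nat.card G : ℂ) * (p : ℂ) ^ E)) := by
          have : (χ : G → ℂ) 1 * (χ : G → ℂ) 1 * (Nat.card D : ℂ) / ((Nat.card G : ℂ) * (p : ℂ) ^ E) =
              ((f' * f' : ℕ) : ℂ) * (g' : ℂ)⁻¹ := by
            rw [hf1, hff, hgG, hcardD, Nat.cast_mul, Nat.cast_pow, show a = d + v by omega, pow_add,
              ← show v = E from hyes.2]
            field_simp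
          rw [this]
          exact H20.memRing_mul (H20.memRing_natCast _) (H20.inv_natCast_memRing hM hg'p)
        refine ⟨huO, ?_⟩
        simp only [t]
        rw [hu, H20.redC_mul (H20.memRing_mul (H20.memRing_centralChar χ _)
          (H20.memRing_centralChar χ _)) huO, H20.redC_mul (H20.memRing_centralChar χ _)
          (H20.memRing_centralChar χ _)]
    · have hm0 : m χ = 0 := by
        by_contra hne
        refine hker (le_ker_of_sum_ne_zero hDS χ ?_)
        rw [hm]
        exact mul_ne_zero (Nat.cast_ne_zero.2 Nat.card_pos.ne') (Nat.cast_ne_zero.2 hne)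
      have ht0 : t χ i j = 0 := by simp [t, hm0]
      refine ⟨?_, fun _ => by rw [ht0, H20.redC_zero], fun h => absurd h.1 hker⟩
      rw [ht0]
      simpa using H20.memRing_natCast (M := M) 0
  have hdvd : ∀ i j, p ^ E ∣ N i j := by
    intro i j
    refine H20.pow_dvd_of_memRing hM ?_
    rw [hN, mul_div_cancel_left₀ _ (pow_ne_zero _ hp0)]
    exact H20.memRing_sum _ _ fun χ _ => (hterm χ i j).1
  refine ⟨hdvd, ?_⟩
  -- the blocks with defect group `D`
  let 𝔅 := {B : Set (IrrCharacter G) // IsPBlock M B ∧ IsDefectGroup p M B D}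
  haveI : Fintype 𝔅 := Fintype.ofFinite _
  have hne : ∀ B : 𝔅, ∃ χ : IrrCharacter G, χ ∈ (B : Set (IrrCharacter G)) := fun B =>
    H20.block_nonempty B.2.1
  choose χB hχB using hne
  let Λ : Matrix 𝔅 ι (H20.k M) :=
    Matrix.of fun B j => H20.redC M (centralChar (χB B : G → ℂ) (x j))
  let Λ' : Matrix 𝔅 ι (H20.k M) := Λ.submatrix id σe
  have hrow : ∀ (B : 𝔅) (χ : IrrCharacter G), χ ∈ (B : Set (IrrCharacter G)) → ∀ j,
      H20.redC M (centralChar (χ : G → ℂ) (x j)) = Λ B j := by
    intro B χ hχ j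
    show _ = H20.redC M _
    rw [← H20.lam_clSum, ← H20.lam_clSum]
    exact H20.lam_eq_of_sameBlock (H20.sameBlock_of_mem B.2.1 hχ (hχB B)) _
  let U : 𝔅 → ℂ := fun B => (H21.sqSum (B : Set (IrrCharacter G)) : ℂ) /
    ((Nat.card G : ℂ) * (p : ℂ) ^ E)
  let u : IrrCharacter G → ℂ := fun χ => (χ : G → ℂ) 1 * (χ : G → ℂ) 1 * (Nat.card D : ℂ) /
    ((Nat.card G : ℂ) * (p : ℂ) ^ E)
  let inB : 𝔅 → IrrCharacter G → Prop := fun B χ =>
    χ ∈ (B : Set (IrrCharacter G)) ∧ D ≤ H24.kerChar χ
  have htop : ∀ B χ, inB B χ → (charDegree (χ : G → ℂ)).factorization p = E := by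
    intro B χ h
    have h1 : (charDegree (χ : G → ℂ)).factorization p ≤ E := by
      rw [hE, ha, hd, ← factorization_index_normal (D := D)]
      exact (Nat.factorization_le_iff_dvd (H12.irr_degree_pos χ).ne'
        Subgroup.index_ne_zero_of_finite).2 (charDegree_dvd_index h.2) p
    have h2 := blockDefect_eq_of_isDefectGroup hM B.2.1 B.2.2
    unfold blockDefect at h2
    have h3 : sInf ((fun ξ : IrrCharacter G => (charDegree (ξ : G → ℂ)).factorization p) ''
        (B : Set (IrrCharacter G))) ≤ (charDegree (χ : G → ℂ)).factorization p :=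
      Nat.sInf_le ⟨χ, h.1, rfl⟩
    rw [← ha, ← hd] at h2
    omega
  have hU : ∀ B : 𝔅, MemLocalRing M (U B) ∧ H20.redC M (U B) ≠ 0 ∧
      H20.redC M (U B) = ∑ χ : IrrCharacter G, if inB B χ then H20.redC M (u χ) else 0 := by
    intro B
    set q := H21.sqSum (B : Set (IrrCharacter G)) with hq
    have hq0 : 0 < q := H21.sqSum_pos (H20.block_nonempty B.2.1)
    have hqv : q.factorization p = a + E := by
      rw [hq, H21.factorization_sqSum hM B.2.1, blockDefect_eq_of_isDefectGroup hM B.2.1 B.2.2]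
      omega
    have hUv : U B = ((q / p ^ (a + E) : ℕ) : ℂ) * (g' : ℂ)⁻¹ := by
      simp only [U, ← hq]
      have hqq : (q : ℂ) = (p : ℂ) ^ (a + E) * ((q / p ^ (a + E) : ℕ) : ℂ) := by
        rw [← Nat.cast_pow, ← Nat.cast_mul, Nat.mul_div_cancel' (hqv ▸ Nat.ordProj_dvd _ _)]
      rw [hqq, hgG, pow_add]
      field_simp
    have hnd : ¬ p ∣ q / p ^ (a + E) := hqv ▸ Nat.not_dvd_ordCompl hp.out hq0.ne'
    have huO : ∀ χ, inB B χ → MemLocalRing M (u χ) := by
      intro χ h
      rcases isEmpty_or_nonempty ι with hι | hι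
      · have hf1 : (χ : G → ℂ) 1 = (charDegree (χ : G → ℂ) : ℂ) := H12.irr_apply_one χ
        have hff : (charDegree (χ : G → ℂ) : ℂ) =
            (p : ℂ) ^ E * ((charDegree (χ : G → ℂ) / p ^ E : ℕ) : ℂ) := by
          rw [← Nat.cast_pow, ← Nat.cast_mul, Nat.mul_div_cancel'
            (htop B χ h ▸ Nat.ordProj_dvd _ _)]
        have : u χ = ((charDegree (χ : G → ℂ) / p ^ E * (charDegree (χ : G → ℂ) / p ^ E) : ℕ) : ℂ) *
            (g' : ℂ)⁻¹ := by
          simp only [u]
          rw [hf1, hff, hgG, hcardD, Nat.cast_mul, Nat.cast_pow, show a = d + E by omega, pow_add]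
          field_simp
        rw [this]
        exact H20.memRing_mul (H20.memRing_natCast _) (H20.inv_natCast_memRing hM hg'p)
      · obtain ⟨i⟩ := hι
        exact ((hterm χ i i).2.2 ⟨h.2, htop B χ h⟩).1
    refine ⟨hUv ▸ H20.memRing_mul (H20.memRing_natCast _) (H20.inv_natCast_memRing hM hg'p), ?_, ?_⟩
    · rw [hUv, H20.redC_mul (H20.memRing_natCast _) (H20.inv_natCast_memRing hM hg'p)]
      refine mul_ne_zero ?_ ?_
      · rw [H20.redC_natCast, Ne, CharP.cast_eq_zero_iff (H20.k M) p]; exact hnd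
      · intro h0
        have h1 : H20.redC M ((g' : ℂ) * (g' : ℂ)⁻¹) = 0 := by
          rw [H20.redC_mul (H20.memRing_natCast _) (H20.inv_natCast_memRing hM hg'p), h0, mul_zero]
        rw [mul_inv_cancel₀ (Nat.cast_ne_zero.2 (fun (h : g' = 0) => hg'p (by rw [h]; exact dvd_zero p))), H20.redC_one] at h1
        exact one_ne_zero h1
    · have hUsum : U B = ∑ χ : IrrCharacter G, if inB B χ then u χ else 0 := by
        simp only [U, ← hq]
        rw [hq, ← sum_sq_trivial_on hM hD B.2.1, Finset.mul_sum, Finset.sum_div]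
        refine Finset.sum_congr rfl fun χ _ => ?_
        simp only [inB]
        split_ifs
        · simp only [u]; ring
        · simp
      rw [hUsum, H20.redC_sum]
      · exact Finset.sum_congr rfl fun χ _ => by rw [apply_ite (H20.redC M), H20.redC_zero]
      · intro χ _
        split_ifs with h
        · exact huO χ h
        · simpa using H20.memRing_natCast (M := M) 0
  -- factorisation
  let MM : Matrix ι ι (H20.k M) := Matrix.of fun i j => ((N i j / p ^ E : ℕ) : H20.k M)
  have hfac : MM = Λ'.transpose * Matrix.diagonal (fun B => H20.redC M (U B)) * Λ := by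
    ext i j
    rw [Matrix.mul_apply]
    simp only [Matrix.mul_diagonal, Matrix.transpose_apply, MM, Matrix.of_apply]
    rw [← H20.redC_natCast, Nat.cast_div (hdvd i j) (by simpa using pow_ne_zero E hp0), hN,
      Nat.cast_pow, mul_div_cancel_left₀ _ (pow_ne_zero _ hp0),
      H20.redC_sum _ _ (fun χ _ => (hterm χ i j).1)]
    simp only [(hU _).2.2, Finset.mul_sum, Finset.sum_mul]
    rw [Finset.sum_comm]
    refine Finset.sum_congr rfl fun χ _ => ?_
    by_cases hB : IsDefectGroup p M (blockOf M (χ : G → ℂ)) D ∧ D ≤ H24.kerChar χ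
    · let B₀ : 𝔅 := ⟨blockOf M (χ : G → ℂ), H20.isPBlock_blockOf χ, hB.1⟩
      have hin : inB B₀ χ := ⟨H20.mem_blockOf_self χ, hB.2⟩
      rw [Finset.sum_eq_single B₀]
      · rw [if_pos hin, ((hterm χ i j).2.2 ⟨hB.2, htop B₀ χ hin⟩).2, hrow B₀ χ hin.1,
          hrow B₀ χ hin.1]
        simp only [Λ', Matrix.submatrix_apply, id, σe, Equiv.coe_fn_mk, u]
        ring
      · intro B _ hne
        rw [if_neg, mul_zero, zero_mul]
        intro h
        exact hne (Subtype.ext (H20.block_eq_of_mem B.2.1 (H20.isPBlock_blockOf χ) h.1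
          (H20.mem_blockOf_self χ)))
      · simp
    · rw [Finset.sum_eq_zero (fun B _ => by
        rw [if_neg, mul_zero, zero_mul]
        intro h
        refine hB ⟨?_, h.2⟩
        rw [← H20.block_eq_blockOf B.2.1 h.1]
        exact B.2.2)]
      by_cases hz : D ≤ H24.kerChar χ ∧ (charDegree (χ : G → ℂ)).factorization p = E
      · rw [((hterm χ i j).2.2 hz).2]
        have hl : H20.redC M (centralChar (χ : G → ℂ) (x j)) = 0 := by
          by_contra hne
          refine hB ⟨isDefectGroup_of_lam_ne_zero hM hD (H20.isPBlock_blockOf χ)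
            (H20.mem_blockOf_self χ) (hx j).2 ?_, hz.1⟩
          rwa [H20.lam_clSum]
        rw [hl, mul_zero, zero_mul]
      · exact (hterm χ i j).2.1 hz
  -- idempotents give a right inverse
  let Emat : Matrix ι 𝔅 (H20.k M) :=
    Matrix.of fun j B => (H20.eRed M (B : Set (IrrCharacter G))).coeff (x j)
  have hΛE : Λ * Emat = 1 := by
    ext B B'
    rw [Matrix.mul_apply, Matrix.one_apply]
    have hlam := H20.lam_eRed B'.2.1 (χB B) (M := M)
    rw [H20.lam_eq_sum, ← Finset.sum_subset (Finset.subset_univ (Finset.univ.image K))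
      (fun C _ hC => by
        rw [mul_eq_zero]; left
        by_contra hne
        obtain ⟨hreg, hsyl⟩ := sylC_of_coeff_ne_zero hM hD B'.2.1 B'.2.2 hne
        obtain ⟨i, hi⟩ := (hK C).2 ⟨C.out, ConjClasses.mem_carrier_iff_mk_eq.2 (Quotient.out_eq C),
          hreg, hsyl⟩
        exact hC (Finset.mem_image.2 ⟨i, Finset.mem_univ _, hi⟩)),
      Finset.sum_image (fun i _ j _ h => hKinj h)] at hlam
    calc ∑ j, Λ B j * Emat j B' = ∑ j, (H20.eRed M (B' : Set (IrrCharacter G))).coeff (x j) *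
          H20.redC M (centralChar (χB B : G → ℂ) (x j)) :=
        Finset.sum_congr rfl fun j _ => mul_comm _ _
      _ = _ := hlam
      _ = if B = B' then 1 else 0 := by
        refine if_congr ⟨fun h => ?_, fun h => h ▸ hχB B⟩ rfl rfl
        exact Subtype.ext (H20.block_eq_of_mem B.2.1 B'.2.1 (hχB B) h)
  have hΛ'E : Λ' * Emat.submatrix σe id = 1 := by
    rw [show Λ' = Λ.submatrix id σe from rfl, Matrix.submatrix_mul_equiv, hΛE,
      Matrix.submatrix_id_id]
  have hUunit : (Matrix.diagonal fun B : 𝔅 => H20.redC M (U B)).rank = Fintype.card 𝔅 := by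
    rw [Matrix.rank_diagonal]
    exact Fintype.card_congr (Equiv.subtypeUnivEquiv fun B => (hU B).2.1)
  have hrank : MM.rank = Fintype.card 𝔅 := by
    refine le_antisymm ?_ ?_
    · rw [hfac]
      exact (Matrix.rank_mul_le_right _ _).trans (Matrix.rank_le_card_height Λ)
    · rw [← hUunit]
      have : Matrix.diagonal (fun B : 𝔅 => H20.redC M (U B)) =
          (Emat.submatrix σe id).transpose * MM * Emat := by
        rw [hfac, ← Matrix.mul_assoc, ← Matrix.mul_assoc, ← Matrix.transpose_mul, hΛ'E,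
          Matrix.transpose_one, Matrix.one_mul, Matrix.mul_assoc, hΛE, Matrix.mul_one]
      rw [this]
      exact (Matrix.rank_mul_le_left _ _).trans (Matrix.rank_mul_le_right _ _)
  rw [Nat.card_eq_fintype_card, ← hrank,
    ← rank_map_field (ZMod.castHom dvd_rfl (H20.k M)) (Matrix.of fun i j => _)]
  congr 1
  ext i j
  simp only [MM, Matrix.map_apply, Matrix.of_apply, map_natCast]
  rfl

end H25
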